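import Mathlib
import Cfsg.Agent.H5.LinBasic
set_option autoImplicit false

namespace Cfsg.Agent.H5

open Matrix

variable {ι F : Type*} [Fintype ι] [DecidableEq ι] [Field F]

/-- linear functionals on `ι → F` are dot products -/
theorem dual_eq_dot (f : Module.Dual F (ι → F)) (x : ι → F) :
    f x = (fun i => f (Pi.single i 1)) ⬝ᵥ x := by
  conv_lhs => rw [← Finset.univ_sum_single x]
  rw [map_sum, dotProduct]
  apply Finset.sum_congr rfl
  intro i _
  have : (Pi.single i (x i) : ι → F) = x i • Pi.single i (1 : F) := by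
    rw [← Pi.single_smul, smul_eq_mul, mul_one]
  rw [this, map_smul, smul_eq_mul, mul_comm]

theorem exists_dot_eq_one_one {v w : ι → F} (h : LinearIndependent F ![v, w]) :
    ∃ f : ι → F, f ⬝ᵥ v = 1 ∧ f ⬝ᵥ w = 1 := by
  obtain ⟨f, hf⟩ := Module.exists_dual_forall_apply_eq_one (s := Set.univ) (v := ![v, w])
    (linearIndepOn_univ.mpr h)
  refine ⟨fun i => f (Pi.single i 1), ?_, ?_⟩
  · rw [← dual_eq_dot]; exact hf 0 (Set.mem_univ _)
  · rw [← dual_eq_dot]; exact hf 1 (Set.mem_univ _)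

theorem exists_dot_eq_one {v : ι → F} (h : v ≠ 0) :
    ∃ f : ι → F, f ⬝ᵥ v = 1 := by
  obtain ⟨i, hi⟩ := Function.ne_iff.mp h
  refine ⟨Pi.single i (v i)⁻¹, ?_⟩
  rw [single_dotProduct, inv_mul_cancel₀ hi]

/-- the matrix `1 + u fᵀ` has determinant `1 + f ⬝ u` -/
theorem det_one_add_vecMulVec' (u f : ι → F) : (1 + vecMulVec u f).det = 1 + f ⬝ᵥ u := by
  rw [Matrix.vecMulVec_eq Unit, Matrix.det_one_add_replicateCol_mul_replicateRow]

/-- `1 + u fᵀ` as an element of `SL` -/
def SLtv (u f : ι → F) (h : f ⬝ᵥ u = 0) : Matrix.SpecialLinearGroup ι F :=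
  ⟨1 + vecMulVec u f, by rw [det_one_add_vecMulVec', h, add_zero]⟩

@[simp] theorem SLtv_coe (u f : ι → F) (h : f ⬝ᵥ u = 0) :
    ((SLtv u f h : Matrix.SpecialLinearGroup ι F) : Matrix ι ι F) = 1 + vecMulVec u f := rfl

theorem SLtv_mulVec (u f : ι → F) (h : f ⬝ᵥ u = 0) (x : ι → F) :
    (SLtv u f h : Matrix ι ι F).mulVec x = x + (f ⬝ᵥ x) • u := by
  rw [SLtv_coe, add_mulVec, one_mulVec, vecMulVec_mulVec]
  simp

theorem exists_SL_mulVec_of_indep {v w : ι → F} (h : LinearIndependent F ![v, w]) :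
    ∃ g : Matrix.SpecialLinearGroup ι F, (g : Matrix ι ι F).mulVec v = w := by
  obtain ⟨f, h1, h2⟩ := exists_dot_eq_one_one h
  refine ⟨SLtv (w - v) f (by rw [dotProduct_sub, h1, h2, sub_self]), ?_⟩
  rw [SLtv_mulVec, h1, one_smul, add_sub_cancel]

/-- `SL_n` is transitive on non-zero vectors (n ≥ 2) -/
theorem exists_SL_mulVec [Nontrivial ι] {v w : ι → F} (hv : v ≠ 0) (hw : w ≠ 0) :
    ∃ g : Matrix.SpecialLinearGroup ι F, (g : Matrix ι ι F).mulVec v = w := by
  by_cases h : LinearIndependent F ![v, w]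
  · exact exists_SL_mulVec_of_indep h
  · -- find z outside of span v
    obtain ⟨z, hz⟩ : ∃ z, z ∉ Submodule.span F {v} := by
      by_contra hcon
      push Not at hcon
      have h1 : Submodule.span F {v} = ⊤ := Submodule.eq_top_iff'.mpr hcon
      have h2 := finrank_span_singleton (K := F) hv
      rw [h1, finrank_top, Module.finrank_fintype_fun_eq_card] at h2
      have := Fintype.one_lt_card (α := ι)
      omega
    have h1 : LinearIndependent F ![v, z] := by
      rw [LinearIndependent.pair_iff' hv]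
      intro a ha
      exact hz (Submodule.mem_span_singleton.mpr ⟨a, ha⟩)
    have h2 : LinearIndependent F ![z, w] := by
      rw [LinearIndependent.pair_iff' hv] at h
      push Not at h
      obtain ⟨a, ha⟩ := h
      have ha0 : a ≠ 0 := by rintro rfl; rw [zero_smul] at ha; exact hw ha.symm
      rw [LinearIndependent.pair_symm_iff, LinearIndependent.pair_iff' hw]
      intro b hb
      apply hz
      rw [← hb, ← ha]
      exact Submodule.smul_mem _ _ (Submodule.smul_mem _ _ (Submodule.mem_span_singleton_self v))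
    obtain ⟨g1, hg1⟩ := exists_SL_mulVec_of_indep h1
    obtain ⟨g2, hg2⟩ := exists_SL_mulVec_of_indep h2
    refine ⟨g2 * g1, ?_⟩
    rw [Matrix.SpecialLinearGroup.coe_mul, ← mulVec_mulVec, hg1, hg2]

/-- rank one matrices are outer products -/
theorem exists_vecMulVec_of_rank_eq_one {M : Matrix ι ι F} (h : M.rank = 1) :
    ∃ u w : ι → F, u ≠ 0 ∧ w ≠ 0 ∧ M = vecMulVec u w := by
  have h1 : Module.finrank F (LinearMap.range M.mulVecLin) = 1 := h
  obtain ⟨u0, hu0, hspan⟩ := finrank_eq_one_iff'.mp h1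
  set u : ι → F := (u0 : ι → F) with hu
  have hune : u ≠ 0 := fun h => hu0 (Subtype.ext h)
  have hx : ∀ j, ∃ c : F, M.mulVec (Pi.single j 1) = c • u := by
    intro j
    obtain ⟨c, hc⟩ := hspan ⟨M.mulVec (Pi.single j 1), ⟨Pi.single j 1, rfl⟩⟩
    exact ⟨c, (congrArg Subtype.val hc).symm⟩
  choose w hw using hx
  have hM : M = vecMulVec u w := by
    ext i j
    have := congrFun (hw j) i
    rw [Matrix.mulVec_single_one] at this
    simp only [Matrix.col_apply, Pi.smul_apply, smul_eq_mul] at this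
    rw [this, vecMulVec_apply, mul_comm]
  refine ⟨u, w, hune, ?_, hM⟩
  rintro hw0
  rw [hM, hw0, vecMulVec_zero, rank_zero] at h
  exact zero_ne_one h

end Cfsg.Agent.H5
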