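import Mathlib
import Cfsg.Prelude.Def_ClassicalGeometry
import Cfsg.Agent.H5.Vec
import Cfsg.Agent.H5.LinBasic
set_option autoImplicit false

/-! Stabilisers of subspaces in `GL_n`. -/

namespace Cfsg.Agent.H5

open Matrix Cfsg Module

section counting

theorem card_of_fibers {A X : Type*} [Finite A] [Finite X] (f : A → X) (c : ℕ)
    (hc : ∀ x, Nat.card {a // f a = x} = c) (Y : Set X) : Nat.card {a // f a ∈ Y} = Nat.card Y * c := by
  classical
  have e : {a // f a ∈ Y} ≃ (Σ y : Y, {a // f a = y}) :=
    { toFun := fun a => ⟨⟨f a.1, a.2⟩, ⟨a.1, rfl⟩⟩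
      invFun := fun p => ⟨p.2.1, by rw [p.2.2]; exact p.1.2⟩
      left_inv := fun a => rfl
      right_inv := fun p => by
        obtain ⟨⟨y, hy⟩, ⟨a, ha⟩⟩ := p
        obtain rfl : f a = y := ha
        rfl }
  haveI := Fintype.ofFinite Y
  rw [Nat.card_congr e, Nat.card_sigma]
  rw [Finset.sum_congr rfl (fun y _ => hc _), Finset.sum_const, Finset.card_univ, smul_eq_mul,
    Nat.card_eq_fintype_card]

theorem card_of_fibers_univ {A X : Type*} [Finite A] [Finite X] (f : A → X) (c : ℕ)
    (hc : ∀ x, Nat.card {a // f a = x} = c) : Nat.card A = Nat.card X * c := by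
  have h := card_of_fibers f c hc Set.univ
  rw [Nat.card_congr (Equiv.Set.univ X)] at h
  rw [← h]
  exact Nat.card_congr (Equiv.subtypeUnivEquiv (fun a => Set.mem_univ _)).symm

/-- orbit counting: the elements moving a base point into a set -/
theorem card_transporter {G X : Type*} [Group G] [Finite G] [Finite X] (f : G → X)
    (K : Subgroup G) (hK : ∀ g h, f g = f h ↔ g⁻¹ * h ∈ K) (hs : Function.Surjective f) (Y : Set X) :
    Nat.card {g // f g ∈ Y} * Nat.card X = Nat.card Y * Nat.card G := by
  have hc : ∀ x, Nat.card {a // f a = x} = Nat.card K := by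
    intro x
    obtain ⟨g0, hg0⟩ := hs x
    refine Nat.card_congr
      { toFun := fun a => ⟨g0⁻¹ * a.1, (hK _ _).mp (by rw [hg0, a.2])⟩
        invFun := fun k => ⟨g0 * k.1, by
          rw [← hg0]
          symm
          rw [hK, inv_mul_cancel_left]
          exact k.2⟩
        left_inv := fun a => Subtype.ext (mul_inv_cancel_left _ _)
        right_inv := fun k => Subtype.ext (inv_mul_cancel_left _ _) }
  rw [card_of_fibers f _ hc Y, card_of_fibers_univ f _ hc, mul_assoc, mul_comm (Nat.card K)]

end counting

section lin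

variable {F V : Type*} [Field F] [AddCommGroup V] [Module F V] [FiniteDimensional F V]

/-- independent families of the same length are conjugate under the full linear group -/
theorem exists_equiv_of_indep {ι : Type*} [Finite ι] {x y : ι → V} (hx : LinearIndependent F x)
    (hy : LinearIndependent F y) : ∃ g : V ≃ₗ[F] V, ∀ i, g (x i) = y i := by
  obtain ⟨C, hC⟩ := Submodule.exists_isCompl (Submodule.span F (Set.range x))
  obtain ⟨D, hD⟩ := Submodule.exists_isCompl (Submodule.span F (Set.range y))
  haveI := Fintype.ofFinite ι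
  have h1 := finrank_span_eq_card hx
  have h2 := finrank_span_eq_card hy
  have h3 := Submodule.finrank_add_eq_of_isCompl hC
  have h4 := Submodule.finrank_add_eq_of_isCompl hD
  let b := Module.Basis.span hx
  let c := Module.Basis.span hy
  let e1 : Submodule.span F (Set.range x) ≃ₗ[F] Submodule.span F (Set.range y) := b.equiv c (Equiv.refl ι)
  let e2 : C ≃ₗ[F] D := LinearEquiv.ofFinrankEq C D (by omega)
  let g : V ≃ₗ[F] V := (Submodule.prodEquivOfIsCompl _ _ hC).symm.trans
    ((LinearEquiv.prodCongr e1 e2).trans (Submodule.prodEquivOfIsCompl _ _ hD))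
  refine ⟨g, fun i => ?_⟩
  have hbi : (b i : V) = x i := congrArg Subtype.val (Module.Basis.span_apply hx i)
  have hci : (c i : V) = y i := congrArg Subtype.val (Module.Basis.span_apply hy i)
  have h5 : (Submodule.prodEquivOfIsCompl _ _ hC).symm (x i) = (b i, 0) := by
    rw [LinearEquiv.symm_apply_eq, Submodule.coe_prodEquivOfIsCompl']
    simp [hbi]
  show (Submodule.prodEquivOfIsCompl _ _ hD) ((LinearEquiv.prodCongr e1 e2)
    ((Submodule.prodEquivOfIsCompl _ _ hC).symm (x i))) = y i
  rw [h5, LinearEquiv.prodCongr_apply, Submodule.coe_prodEquivOfIsCompl']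
  simp only [map_zero, Submodule.coe_zero, add_zero]
  have h6 : e1 (b i) = c i := by
    simp only [e1]
    rw [Module.Basis.equiv_apply, Equiv.refl_apply]
  rw [h6, hci]

/-- frames inside a subspace -/
theorem card_frames_in [Fintype F] (W : Submodule F V) {k : ℕ} (hW : finrank F W = k) :
    Nat.card {f : Fin k → V // LinearIndependent F f ∧ ∀ i, f i ∈ W} =
      ∏ i : Fin k, (Fintype.card F ^ k - Fintype.card F ^ (i : ℕ)) := by
  haveI : Finite V := Module.finite_of_finite F
  haveI : Finite W := Finite.of_injective _ W.injective_subtype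
  have h := card_linearIndependent (K := F) (V := W) (k := k) (by omega)
  rw [hW] at h
  rw [← h]
  refine Nat.card_congr
    { toFun := fun f => ⟨fun i => ⟨f.1 i, f.2.2 i⟩, by
        apply LinearIndependent.of_comp W.subtype
        exact f.2.1⟩
      invFun := fun f => ⟨fun i => (f.1 i : V), f.2.map' W.subtype W.ker_subtype, fun i => (f.1 i).2⟩
      left_inv := fun f => rfl
      right_inv := fun f => rfl }

/-- an injective linear image of a basis of `W` lying in `W` means `W` is preserved -/
theorem maps_of_basis {W : Submodule F V} {k : ℕ} (hW : finrank F W = k) {x : Fin k → V}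
    (hx : LinearIndependent F x) (hxW : ∀ i, x i ∈ W) : Submodule.span F (Set.range x) = W := by
  apply Submodule.eq_of_le_of_finrank_eq
  · rw [Submodule.span_le]
    rintro _ ⟨i, rfl⟩
    exact hxW i
  · rw [finrank_span_eq_card hx, Fintype.card_fin, hW]

theorem stab_iff_frame {W : Submodule F V} {k : ℕ} (hW : finrank F W = k) {x : Fin k → V}
    (hx : LinearIndependent F x) (hxW : ∀ i, x i ∈ W) (g : V ≃ₗ[F] V) :
    (∀ v, v ∈ W ↔ g v ∈ W) ↔ ∀ i, g (x i) ∈ W := by
  constructor
  · intro h i
    exact (h _).mp (hxW i)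
  · intro h
    have h1 := maps_of_basis hW hx hxW
    have h2 : W.map (g : V →ₗ[F] V) ≤ W := by
      conv_lhs => rw [← h1]
      rw [Submodule.map_span, Submodule.span_le]
      rintro _ ⟨_, ⟨i, rfl⟩, rfl⟩
      exact h i
    have h3 : W.map (g : V →ₗ[F] V) = W := by
      apply Submodule.eq_of_le_of_finrank_eq h2
      exact LinearEquiv.finrank_map_eq g W
    intro v
    constructor
    · intro hv
      exact h2 ⟨v, hv, rfl⟩
    · intro hv
      rw [← h3] at hv
      obtain ⟨w, hw, hwv⟩ := hv
      have : w = v := g.injective hwv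
      rwa [← this]

end lin

section gl

variable {n : Type} [Fintype n] [DecidableEq n] {F : Type*} [Field F]

/-- matrix of a linear equivalence as a member of `GL` -/
noncomputable def mkGL (e : (n → F) ≃ₗ[F] (n → F)) : GL n F :=
  ⟨LinearMap.toMatrix' (e : (n → F) →ₗ[F] (n → F)), LinearMap.toMatrix' (e.symm : (n → F) →ₗ[F] (n → F)), by
    rw [← LinearMap.toMatrix'_comp, LinearEquiv.comp_coe, LinearEquiv.symm_trans_self]
    exact LinearMap.toMatrix'_id, by
    rw [← LinearMap.toMatrix'_comp, LinearEquiv.comp_coe, LinearEquiv.self_trans_symm]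
    exact LinearMap.toMatrix'_id⟩

theorem mkGL_mulVec (e : (n → F) ≃ₗ[F] (n → F)) (x : n → F) :
    ((mkGL e : GL n F) : Matrix n n F).mulVec x = e x := by
  show (LinearMap.toMatrix' (e : (n → F) →ₗ[F] (n → F))).mulVec x = e x
  rw [LinearMap.toMatrix'_mulVec]
  rfl

/-- linear equivalence of an invertible matrix -/
noncomputable def glE (g : GL n F) : (n → F) ≃ₗ[F] (n → F) :=
  { toFun := fun x => (g : Matrix n n F).mulVec x
    map_add' := fun x y => Matrix.mulVec_add _ _ _
    map_smul' := fun a x => Matrix.mulVec_smul _ _ _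
    invFun := fun x => ((g⁻¹ : GL n F) : Matrix n n F).mulVec x
    left_inv := fun x => by
      show ((g⁻¹ : GL n F) : Matrix n n F).mulVec ((g : Matrix n n F).mulVec x) = x
      rw [Matrix.mulVec_mulVec, ← Units.val_mul, inv_mul_cancel, Units.val_one, Matrix.one_mulVec]
    right_inv := fun x => by
      show (g : Matrix n n F).mulVec (((g⁻¹ : GL n F) : Matrix n n F).mulVec x) = x
      rw [Matrix.mulVec_mulVec, ← Units.val_mul, mul_inv_cancel, Units.val_one, Matrix.one_mulVec] }

theorem glE_apply (g : GL n F) (x : n → F) : glE g x = (g : Matrix n n F).mulVec x := rfl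

theorem gl_ext_mulVec {g h : GL n F} (H : ∀ x, (g : Matrix n n F).mulVec x = (h : Matrix n n F).mulVec x) :
    g = h := by
  apply Units.ext
  apply Matrix.ext_of_mulVec_single
  intro i
  exact H _

theorem mem_stab_gl {S : Set (n → F)} {g : GL n F} : g ∈ stabilizing (glToMat n F) S ↔
    ∀ v, v ∈ S ↔ (g : Matrix n n F).mulVec v ∈ S := Iff.rfl

/-- order of the stabiliser of a subspace in `GL` -/
theorem card_stab_gl_mul [Fintype F] (W : Submodule F (n → F)) {k : ℕ} (hW : finrank F W = k) :
    Nat.card (stabilizing (glToMat n F) (W : Set (n → F))) * (∏ i : Fin k, (Fintype.card F ^ Fintype.card n -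
      Fintype.card F ^ (i : ℕ))) =
      (∏ i : Fin k, (Fintype.card F ^ k - Fintype.card F ^ (i : ℕ))) * Nat.card (GL n F) := by
  classical
  have hV : finrank F (n → F) = Fintype.card n := Module.finrank_fintype_fun_eq_card F
  obtain ⟨x, hxW, hx⟩ : ∃ x : Fin k → (n → F), (∀ i, x i ∈ W) ∧ LinearIndependent F x := by
    let b : Module.Basis (Fin k) F W := Module.finBasisOfFinrankEq F W hW
    exact ⟨fun i => (b i : n → F), fun i => (b i).2, b.linearIndependent.map' W.subtype W.ker_subtype⟩
  let X := {f : Fin k → (n → F) // LinearIndependent F f}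
  let f : GL n F → X := fun g => ⟨fun i => glE g (x i), hx.map' (glE g : (n → F) →ₗ[F] (n → F))
    (LinearMap.ker_eq_bot_of_injective (glE g).injective)⟩
  let K : Subgroup (GL n F) :=
    { carrier := {g | ∀ i, (g : Matrix n n F).mulVec (x i) = x i}
      mul_mem' := fun {a b} ha hb i => by
        rw [Units.val_mul, ← Matrix.mulVec_mulVec, hb i, ha i]
      one_mem' := fun i => by rw [Units.val_one, Matrix.one_mulVec]
      inv_mem' := fun {a} ha i => by
        have h := ha i
        conv_lhs => rw [← h]
        rw [Matrix.mulVec_mulVec, ← Units.val_mul, inv_mul_cancel, Units.val_one, Matrix.one_mulVec] }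
  have hK : ∀ g h, f g = f h ↔ g⁻¹ * h ∈ K := by
    intro g h
    constructor
    · intro hfg i
      have h1 : (g : Matrix n n F).mulVec (x i) = (h : Matrix n n F).mulVec (x i) :=
        congrFun (congrArg Subtype.val hfg) i
      rw [Units.val_mul, ← Matrix.mulVec_mulVec, ← h1, Matrix.mulVec_mulVec, ← Units.val_mul, inv_mul_cancel,
        Units.val_one, Matrix.one_mulVec]
    · intro hgh
      apply Subtype.ext
      funext i
      have h1 := hgh i
      show (g : Matrix n n F).mulVec (x i) = (h : Matrix n n F).mulVec (x i)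
      rw [Units.val_mul, ← Matrix.mulVec_mulVec] at h1
      conv_lhs => rw [← h1]
      rw [Matrix.mulVec_mulVec, ← Units.val_mul, mul_inv_cancel, Units.val_one, Matrix.one_mulVec]
  have hs : Function.Surjective f := by
    intro y
    obtain ⟨g, hg⟩ := exists_equiv_of_indep hx y.2
    refine ⟨mkGL g, Subtype.ext ?_⟩
    funext i
    show ((mkGL g : GL n F) : Matrix n n F).mulVec (x i) = y.1 i
    rw [mkGL_mulVec, hg]
  have key := card_transporter f K hK hs {y | ∀ i, y.1 i ∈ W}
  have hX : Nat.card X = ∏ i : Fin k, (Fintype.card F ^ Fintype.card n - Fintype.card F ^ (i : ℕ)) := by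
    have := card_linearIndependent (K := F) (V := n → F) (k := k) (by rw [← hW]; exact Submodule.finrank_le W)
    rw [hV] at this
    exact this
  have hY : Nat.card ({y | ∀ i, y.1 i ∈ W} : Set X) =
      ∏ i : Fin k, (Fintype.card F ^ k - Fintype.card F ^ (i : ℕ)) := by
    rw [← card_frames_in W hW]
    refine Nat.card_congr
      { toFun := fun y => ⟨y.1.1, y.1.2, y.2⟩
        invFun := fun y => ⟨⟨y.1, y.2.1⟩, y.2.2⟩
        left_inv := fun y => rfl
        right_inv := fun y => rfl }
  have hS : Nat.card {g // f g ∈ ({y | ∀ i, y.1 i ∈ W} : Set X)} =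
      Nat.card (stabilizing (glToMat n F) (W : Set (n → F))) := by
    apply Nat.card_congr
    apply Equiv.subtypeEquivRight
    intro g
    exact (stab_iff_frame hW hx hxW (glE g)).symm
  rw [hX, hY, hS] at key
  exact key

end gl

section coord

variable {F : Type*} [Field F]

/-- coordinate subspace -/
def Wc (n : ℕ) (F : Type*) [Field F] (k : ℕ) : Submodule F (Fin n → F) where
  carrier := {v : Fin n → F | ∀ i : Fin n, k ≤ (i : ℕ) → v i = 0}
  add_mem' := fun {a b} ha hb i hi => by rw [Pi.add_apply, ha i hi, hb i hi, add_zero]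
  zero_mem' := fun i _ => rfl
  smul_mem' := fun c a ha i hi => by rw [Pi.smul_apply, ha i hi, smul_zero]

theorem mem_Wc {n k : ℕ} {v : Fin n → F} : v ∈ Wc n F k ↔ ∀ i : Fin n, k ≤ (i : ℕ) → v i = 0 := Iff.rfl

theorem coe_Wc {n k : ℕ} : ((Wc n F k : Submodule F (Fin n → F)) : Set (Fin n → F)) =
    {v : Fin n → F | ∀ i : Fin n, k ≤ (i : ℕ) → v i = 0} := rfl

theorem finrank_Wc {n k : ℕ} (hk : k ≤ n) : finrank F (Wc n F k) = k := by
  let e : Wc n F k ≃ₗ[F] (Fin k → F) :=
    { toFun := fun v i => v.1 ⟨i, lt_of_lt_of_le i.2 hk⟩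
      map_add' := fun v w => rfl
      map_smul' := fun a v => rfl
      invFun := fun w => ⟨fun i => if h : (i : ℕ) < k then w ⟨i, h⟩ else 0, fun i hi => by
        show (if h : (i : ℕ) < k then w ⟨i, h⟩ else 0) = 0
        rw [dif_neg (by omega)]⟩
      left_inv := fun v => by
        apply Subtype.ext
        funext i
        show (if h : (i : ℕ) < k then v.1 ⟨i, _⟩ else 0) = v.1 i
        split_ifs with h
        · rfl
        · exact (v.2 i (by omega)).symm
      right_inv := fun w => by
        funext i
        show (if h : (i : ℕ) < k then w ⟨i, h⟩ else 0) = w i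
        rw [dif_pos i.2] }
  rw [LinearEquiv.finrank_eq e, Module.finrank_fintype_fun_eq_card, Fintype.card_fin]

end coord

end Cfsg.Agent.H5
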