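import Mathlib
import Cfsg.Agent.H5.GLStab
set_option autoImplicit false

/-! Maximality and invariant subspaces of stabilisers in `GL_n`. -/

namespace Cfsg.Agent.H5

open Matrix Cfsg Module

section mv

variable {n : Type} [Fintype n] [DecidableEq n] {F : Type*} [Field F]

theorem exists_dual_two {W : Submodule F (n → F)} {a b : n → F} (ha : a ∉ W) (hb : b ∉ W) :
    ∃ h : n → F, (∀ w ∈ W, h ⬝ᵥ w = 0) ∧ h ⬝ᵥ a ≠ 0 ∧ h ⬝ᵥ b ≠ 0 := by
  obtain ⟨f, hf, hfW⟩ := Submodule.exists_le_ker_of_notMem ha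
  obtain ⟨g, hg, hgW⟩ := Submodule.exists_le_ker_of_notMem hb
  have hfW' : ∀ w ∈ W, f w = 0 := fun w hw => hfW hw
  have hgW' : ∀ w ∈ W, g w = 0 := fun w hw => hgW hw
  have key : ∃ h : (n → F) →ₗ[F] F, (∀ w ∈ W, h w = 0) ∧ h a ≠ 0 ∧ h b ≠ 0 := by
    by_cases h1 : f b = 0
    · by_cases h2 : g a = 0
      · refine ⟨f + g, fun w hw => ?_, ?_, ?_⟩
        · rw [LinearMap.add_apply, hfW' w hw, hgW' w hw, add_zero]
        · rw [LinearMap.add_apply, h2, add_zero]; exact hf
        · rw [LinearMap.add_apply, h1, zero_add]; exact hg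
      · exact ⟨g, hgW', h2, hg⟩
    · exact ⟨f, hfW', hf, h1⟩
  obtain ⟨h, h1, h2, h3⟩ := key
  refine ⟨fun i => h (Pi.single i 1), fun w hw => ?_, ?_, ?_⟩
  · rw [← dual_eq_dot]; exact h1 w hw
  · rw [← dual_eq_dot]; exact h2
  · rw [← dual_eq_dot]; exact h3

/-- `1 + u fᵀ` as an element of `GL` -/
noncomputable def GLtv (u f : n → F) (h : 1 + f ⬝ᵥ u ≠ 0) : GL n F :=
  Matrix.GeneralLinearGroup.mkOfDetNeZero (1 + vecMulVec u f) (by rw [det_one_add_vecMulVec']; exact h)

theorem GLtv_coe (u f : n → F) (h : 1 + f ⬝ᵥ u ≠ 0) : ((GLtv u f h : GL n F) : Matrix n n F) = 1 + vecMulVec u f := rfl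

theorem GLtv_mulVec (u f : n → F) (h : 1 + f ⬝ᵥ u ≠ 0) (x : n → F) :
    ((GLtv u f h : GL n F) : Matrix n n F).mulVec x = x + (f ⬝ᵥ x) • u := by
  rw [GLtv_coe, add_mulVec, one_mulVec, vecMulVec_mulVec]
  simp

theorem move_outside {W : Submodule F (n → F)} {a b : n → F} (ha : a ∉ W) (hb : b ∉ W) :
    ∃ g : GL n F, (∀ w ∈ W, (g : Matrix n n F).mulVec w = w) ∧ (g : Matrix n n F).mulVec a = b := by
  obtain ⟨h, hW, h1, h2⟩ := exists_dual_two ha hb
  have hne : 1 + ((h ⬝ᵥ a)⁻¹ • h) ⬝ᵥ (b - a) ≠ 0 := by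
    rw [smul_dotProduct, dotProduct_sub, smul_eq_mul, mul_sub, inv_mul_cancel₀ h1]
    have : 1 + ((h ⬝ᵥ a)⁻¹ * (h ⬝ᵥ b) - 1) = (h ⬝ᵥ a)⁻¹ * (h ⬝ᵥ b) := by ring
    rw [this]
    exact mul_ne_zero (inv_ne_zero h1) h2
  refine ⟨GLtv (b - a) ((h ⬝ᵥ a)⁻¹ • h) hne, fun w hw => ?_, ?_⟩
  · rw [GLtv_mulVec, smul_dotProduct, hW w hw, smul_zero, zero_smul, add_zero]
  · rw [GLtv_mulVec, smul_dotProduct, smul_eq_mul, inv_mul_cancel₀ h1, one_smul, add_sub_cancel]

/-- fixing `W` pointwise preserves `W` -/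
theorem stab_of_fix {W : Submodule F (n → F)} {g : GL n F} (h : ∀ w ∈ W, (g : Matrix n n F).mulVec w = w) :
    g ∈ stabilizing (glToMat n F) (W : Set (n → F)) := by
  intro v
  constructor
  · intro hv
    show (g : Matrix n n F).mulVec v ∈ W
    rw [h v hv]; exact hv
  · intro hv
    have h1 : (g : Matrix n n F).mulVec v ∈ W := hv
    have h2 := h _ h1
    have h3 : (g : Matrix n n F).mulVec v = v := (glE g).injective h2
    show v ∈ W
    rw [← h3]; exact h1

theorem stab_of_maps {W : Submodule F (n → F)} {g : GL n F} (h : ∀ w ∈ W, (g : Matrix n n F).mulVec w ∈ W) :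
    g ∈ stabilizing (glToMat n F) (W : Set (n → F)) := by
  have h2 : W.map (glE g : (n → F) →ₗ[F] (n → F)) ≤ W := by
    rintro _ ⟨w, hw, rfl⟩
    exact h w hw
  have h3 : W.map (glE g : (n → F) →ₗ[F] (n → F)) = W :=
    Submodule.eq_of_le_of_finrank_eq h2 (LinearEquiv.finrank_map_eq (glE g) W)
  intro v
  constructor
  · intro hv; exact h v hv
  · intro hv
    have h1 : (g : Matrix n n F).mulVec v ∈ W := hv
    rw [← h3] at h1
    obtain ⟨w, hw, hwv⟩ := h1
    have : w = v := (glE g).injective hwv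
    show v ∈ W
    rw [← this]; exact hw

theorem move_inside {W : Submodule F (n → F)} {a b : n → F} (ha : a ∈ W) (hb : b ∈ W) (ha0 : a ≠ 0)
    (hb0 : b ≠ 0) : ∃ g ∈ stabilizing (glToMat n F) (W : Set (n → F)), (g : Matrix n n F).mulVec a = b := by
  by_cases hli : LinearIndependent F ![a, b]
  · obtain ⟨f, h1, h2⟩ := exists_dot_eq_one_one hli
    have hne : 1 + f ⬝ᵥ (b - a) ≠ 0 := by
      rw [dotProduct_sub, h1, h2, sub_self, add_zero]; exact one_ne_zero
    refine ⟨GLtv (b - a) f hne, stab_of_maps (fun w hw => ?_), ?_⟩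
    · rw [GLtv_mulVec]
      exact W.add_mem hw (W.smul_mem _ (W.sub_mem hb ha))
    · rw [GLtv_mulVec, h1, one_smul, add_sub_cancel]
  · rw [LinearIndependent.pair_iff' ha0] at hli
    push Not at hli
    obtain ⟨c, hc⟩ := hli
    have hc0 : c ≠ 0 := by rintro rfl; rw [zero_smul] at hc; exact hb0 hc.symm
    refine ⟨Matrix.GeneralLinearGroup.mkOfDetNeZero (c • (1 : Matrix n n F)) (by
      rw [Matrix.det_smul, Matrix.det_one, mul_one]; exact pow_ne_zero _ hc0), stab_of_maps (fun w hw => ?_), ?_⟩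
    · show (c • (1 : Matrix n n F)).mulVec w ∈ W
      rw [Matrix.smul_mulVec, Matrix.one_mulVec]
      exact W.smul_mem c hw
    · show (c • (1 : Matrix n n F)).mulVec a = b
      rw [Matrix.smul_mulVec, Matrix.one_mulVec, hc]

/-- invariant subspaces of a parabolic -/
theorem invariant_cases {W U : Submodule F (n → F)}
    (h : ∀ g ∈ stabilizing (glToMat n F) (W : Set (n → F)), ∀ u ∈ U, (g : Matrix n n F).mulVec u ∈ U) :
    U = ⊥ ∨ U = W ∨ U = ⊤ := by
  by_cases hUW : U ≤ W
  · by_cases hU : U = ⊥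
    · left; exact hU
    · right; left
      apply le_antisymm hUW
      obtain ⟨u, hu, hu0⟩ := Submodule.exists_mem_ne_zero_of_ne_bot hU
      intro w hw
      by_cases hw0 : w = 0
      · rw [hw0]; exact U.zero_mem
      · obtain ⟨g, hg, hgu⟩ := move_inside (hUW hu) hw hu0 hw0
        rw [← hgu]
        exact h g hg u hu
  · right; right
    obtain ⟨u, hu, huW⟩ := SetLike.not_le_iff_exists.mp hUW
    rw [eq_top_iff]
    have hout : ∀ x, x ∉ W → x ∈ U := by
      intro x hx
      obtain ⟨g, hg, hgu⟩ := move_outside huW hx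
      rw [← hgu]
      exact h g (stab_of_fix hg) u hu
    intro x _
    by_cases hx : x ∈ W
    · have h1 : x + u ∉ W := fun h' => huW (by simpa using W.sub_mem h' hx)
      simpa using U.sub_mem (hout _ h1) hu
    · exact hout x hx

theorem isCoatom_stab {W : Submodule F (n → F)} (hbot : W ≠ ⊥) (htop : W ≠ ⊤) :
    IsCoatom (stabilizing (glToMat n F) (W : Set (n → F))) := by
  obtain ⟨w0, hw0, hw00⟩ := Submodule.exists_mem_ne_zero_of_ne_bot hbot
  obtain ⟨b, hb⟩ : ∃ b, b ∉ W := by
    by_contra hcon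
    push Not at hcon
    exact htop (eq_top_iff.mpr (fun x _ => hcon x))
  have hb0 : b ≠ 0 := by rintro rfl; exact hb W.zero_mem
  constructor
  · intro h
    obtain ⟨g, _, hg⟩ := move_inside (W := ⊤) (a := w0) (b := b) Submodule.mem_top Submodule.mem_top hw00 hb0
    have h1 : g ∈ stabilizing (glToMat n F) (W : Set (n → F)) := by rw [h]; exact Subgroup.mem_top g
    apply hb
    rw [← hg]
    exact (h1 w0).mp hw0
  · intro H hH
    obtain ⟨hle, hnle⟩ := SetLike.lt_iff_le_and_exists.mp hH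
    obtain ⟨g, hgH, hgP⟩ := hnle
    -- an element moving something of `W` outside
    obtain ⟨h, hhH, w, hw, hhw⟩ : ∃ h ∈ H, ∃ w ∈ W, (h : Matrix n n F).mulVec w ∉ W := by
      by_contra hcon
      push Not at hcon
      exact hgP (stab_of_maps (fun w hw => hcon g hgH w hw))
    have hA : ∀ a f : n → F, ∀ haf : f ⬝ᵥ a = 0, GLtv a f (by rw [haf, add_zero]; exact one_ne_zero) ∈ H := by
      -- directions in W
      have h1 : ∀ a ∈ W, ∀ f : n → F, ∀ haf : f ⬝ᵥ a = 0,
          GLtv a f (by rw [haf, add_zero]; exact one_ne_zero) ∈ H := by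
        intro a ha f haf
        apply hle
        apply stab_of_maps
        intro x hx
        rw [GLtv_mulVec]
        exact W.add_mem hx (W.smul_mem _ ha)
      have h2 : ∀ k ∈ H, ∀ a : n → F, (∀ f : n → F, ∀ haf : f ⬝ᵥ a = 0,
          GLtv a f (by rw [haf, add_zero]; exact one_ne_zero) ∈ H) → ∀ f : n → F,
          ∀ haf : f ⬝ᵥ ((k : Matrix n n F).mulVec a) = 0,
          GLtv ((k : Matrix n n F).mulVec a) f (by rw [haf, add_zero]; exact one_ne_zero) ∈ H := by
        intro k hk a ha f haf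
        have h3 : (f ᵥ* (k : Matrix n n F)) ⬝ᵥ a = 0 := by
          rw [← Matrix.dotProduct_mulVec]; exact haf
        have h4 := H.mul_mem (H.mul_mem hk (ha _ h3)) (H.inv_mem hk)
        suffices heq : k * GLtv a (f ᵥ* (k : Matrix n n F)) (by rw [h3, add_zero]; exact one_ne_zero) * k⁻¹ =
            GLtv ((k : Matrix n n F).mulVec a) f (by rw [haf, add_zero]; exact one_ne_zero) by
          rw [← heq]; exact h4
        apply gl_ext_mulVec
        intro x
        rw [Units.val_mul, Units.val_mul, ← Matrix.mulVec_mulVec, ← Matrix.mulVec_mulVec, GLtv_mulVec,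
          GLtv_mulVec, Matrix.mulVec_add, Matrix.mulVec_smul, Matrix.mulVec_mulVec, ← Units.val_mul,
          mul_inv_cancel, Units.val_one, Matrix.one_mulVec, ← Matrix.dotProduct_mulVec, Matrix.mulVec_mulVec,
          ← Units.val_mul, mul_inv_cancel, Units.val_one, Matrix.one_mulVec]
      intro a
      by_cases ha : a ∈ W
      · exact h1 a ha
      · obtain ⟨p, hp, hpa⟩ := move_outside hhw ha
        have h5 := h2 h hhH w (h1 w hw)
        have h6 := h2 p (hle (stab_of_fix hp)) _ h5
        rw [hpa] at h6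
        exact h6
    -- so SL ≤ H
    have hSL : ∀ s : Matrix.SpecialLinearGroup n F, (s : GL n F) ∈ H := by
      intro s
      by_cases hnt : Nontrivial n
      · refine SL_transvection_induction (fun A => (A : GL n F) ∈ H) ?_ ?_ s
        · intro i j hij c
          have h7 := hA (Pi.single i c) (Pi.single j 1) (by
            rw [single_dotProduct, Pi.single_eq_of_ne hij.symm, mul_zero])
          suffices heq : GLtv (Pi.single i c) (Pi.single j 1) (by
              rw [single_dotProduct, Pi.single_eq_of_ne hij.symm, mul_zero, add_zero]; exact one_ne_zero) =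
              (Matrix.SpecialLinearGroup.transvection hij c : GL n F) by
            rw [← heq]; exact h7
          apply Units.ext
          rw [GLtv_coe]
          show _ = Matrix.transvection i j c
          rw [Matrix.transvection]
          congr 1
          ext k l
          rw [vecMulVec_apply, Matrix.single_apply, Pi.single_apply, Pi.single_apply]
          by_cases hik : i = k <;> by_cases hjl : j = l <;> simp [hik, hjl, eq_comm]
        · intro A B hA' hB'
          show ((A * B : Matrix.SpecialLinearGroup n F) : GL n F) ∈ H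
          rw [map_mul]
          exact H.mul_mem hA' hB'
      · rw [not_nontrivial_iff_subsingleton] at hnt
        have : s = 1 := Subsingleton.elim _ _
        rw [this, map_one]
        exact H.one_mem
    rw [eq_top_iff]
    intro g' _
    obtain ⟨f, hfW, hfb, _⟩ := exists_dual_two hb hb
    let c : F := (g' : Matrix n n F).det
    have hc : c ≠ 0 := (Matrix.GeneralLinearGroup.det g').ne_zero
    have hne : 1 + (((c - 1) * (f ⬝ᵥ b)⁻¹) • f) ⬝ᵥ b ≠ 0 := by
      rw [smul_dotProduct, smul_eq_mul, inv_mul_cancel_right₀ hfb]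
      simpa using hc
    have hp : GLtv b (((c - 1) * (f ⬝ᵥ b)⁻¹) • f) hne ∈ H := by
      apply hle
      apply stab_of_fix
      intro x hx
      rw [GLtv_mulVec, smul_dotProduct, hfW x hx, smul_zero, zero_smul, add_zero]
    have hdet : ((GLtv b (((c - 1) * (f ⬝ᵥ b)⁻¹) • f) hne : GL n F) : Matrix n n F).det = c := by
      rw [GLtv_coe, det_one_add_vecMulVec', smul_dotProduct, smul_eq_mul, inv_mul_cancel_right₀ hfb]
      ring
    set p := GLtv b (((c - 1) * (f ⬝ᵥ b)⁻¹) • f) hne
    have hker : g' * p⁻¹ ∈ (Matrix.GeneralLinearGroup.det : GL n F →* Fˣ).ker := by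
      rw [MonoidHom.mem_ker, map_mul, map_inv, mul_inv_eq_one]
      apply Units.ext
      exact hdet.symm
    rw [← range_toGL] at hker
    obtain ⟨s, hs⟩ := hker
    have h8 : g' = (s : GL n F) * p := by
      have : (s : GL n F) = g' * p⁻¹ := hs
      rw [this, inv_mul_cancel_right]
    rw [h8]
    exact H.mul_mem (hSL s) hp

end mv

section dual

variable {F : Type*} [Field F] {n : ℕ}

/-- inverse transpose followed by reversal of coordinates -/
noncomputable def revT : GL (Fin n) F →* GL (Fin n) F where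
  toFun g := ⟨((g⁻¹ : GL (Fin n) F) : Matrix (Fin n) (Fin n) F).transpose.submatrix Fin.rev Fin.rev,
    ((g : GL (Fin n) F) : Matrix (Fin n) (Fin n) F).transpose.submatrix Fin.rev Fin.rev, by
      rw [← Matrix.submatrix_mul _ _ _ _ _ Fin.rev_bijective, ← Matrix.transpose_mul, ← Units.val_mul,
        mul_inv_cancel, Units.val_one, Matrix.transpose_one, Matrix.submatrix_one _ Fin.rev_injective], by
      rw [← Matrix.submatrix_mul _ _ _ _ _ Fin.rev_bijective, ← Matrix.transpose_mul, ← Units.val_mul,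
        inv_mul_cancel, Units.val_one, Matrix.transpose_one, Matrix.submatrix_one _ Fin.rev_injective]⟩
  map_one' := by
    apply Units.ext
    show (((1 : GL (Fin n) F)⁻¹ : GL (Fin n) F) : Matrix (Fin n) (Fin n) F).transpose.submatrix Fin.rev Fin.rev = 1
    rw [inv_one, Units.val_one, Matrix.transpose_one, Matrix.submatrix_one _ Fin.rev_injective]
  map_mul' g h := by
    apply Units.ext
    show (((g * h)⁻¹ : GL (Fin n) F) : Matrix (Fin n) (Fin n) F).transpose.submatrix Fin.rev Fin.rev =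
      ((g⁻¹ : GL (Fin n) F) : Matrix (Fin n) (Fin n) F).transpose.submatrix Fin.rev Fin.rev *
      ((h⁻¹ : GL (Fin n) F) : Matrix (Fin n) (Fin n) F).transpose.submatrix Fin.rev Fin.rev
    rw [← Matrix.submatrix_mul _ _ _ _ _ Fin.rev_bijective, ← Matrix.transpose_mul, ← Units.val_mul,
      _root_.mul_inv_rev]

theorem revT_revT (g : GL (Fin n) F) : revT (revT g) = g := by
  apply Units.ext
  show (((g : GL (Fin n) F) : Matrix (Fin n) (Fin n) F).transpose.submatrix Fin.rev Fin.rev).transpose.submatrix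
    Fin.rev Fin.rev = (g : Matrix (Fin n) (Fin n) F)
  ext i j
  simp

theorem revT_mem {k : ℕ} (hk : k ≤ n) {g : GL (Fin n) F}
    (hg : g ∈ stabilizing (glToMat (Fin n) F) (Wc n F k : Set (Fin n → F))) :
    revT g ∈ stabilizing (glToMat (Fin n) F) (Wc n F (n - k) : Set (Fin n → F)) := by
  apply stab_of_maps
  intro w hw
  rw [mem_Wc] at hw ⊢
  intro i hi
  show ((((g⁻¹ : GL (Fin n) F) : Matrix (Fin n) (Fin n) F).transpose.submatrix Fin.rev Fin.rev).mulVec w) i = 0
  rw [Matrix.mulVec, dotProduct]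
  apply Finset.sum_eq_zero
  intro j _
  rw [Matrix.submatrix_apply, Matrix.transpose_apply]
  by_cases hj : n - k ≤ (j : ℕ)
  · rw [hw j hj, mul_zero]
  · -- (g⁻¹) (rev j) (rev i) with rev i < k ≤ rev j
    have h1 := (stabilizing (glToMat (Fin n) F) (Wc n F k : Set (Fin n → F))).inv_mem hg
    have h2 : (Pi.single (Fin.rev i) (1 : F) : Fin n → F) ∈ (Wc n F k : Set (Fin n → F)) := by
      intro l hl
      rw [Pi.single_apply, if_neg]
      intro h
      have := congrArg Fin.val h
      rw [Fin.val_rev] at this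
      omega
    have h3 := (h1 _).mp h2 (Fin.rev j) (by rw [Fin.val_rev]; omega)
    have h4 : (((g⁻¹ : GL (Fin n) F) : Matrix (Fin n) (Fin n) F).mulVec (Pi.single (Fin.rev i) (1 : F))) (Fin.rev j) = 0 := h3
    rw [Matrix.mulVec_single_one] at h4
    have h5 : ((g⁻¹ : GL (Fin n) F) : Matrix (Fin n) (Fin n) F) (Fin.rev j) (Fin.rev i) = 0 := h4
    rw [h5, zero_mul]

end dual

end Cfsg.Agent.H5
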