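import Mathlib
import Cfsg.Agent.H5.GLStab
import Cfsg.Agent.H5.UnitOrder
set_option autoImplicit false

/-! Counting totally isotropic frames and stabilisers of totally isotropic subspaces. -/

namespace Cfsg.Agent.H5

open Matrix Cfsg Module

section gen

variable {F V : Type*} [Field F] [AddCommGroup V] [Module F V]
  {σ : F →+* F} {B : V →ₛₗ[σ] V →ₗ[F] F} {N : V → F} {s τ ν : F → F}

/-- perp of a family -/
noncomputable def perpF (B : V →ₛₗ[σ] V →ₗ[F] F) {ι : Type*} (f : ι → V) : Submodule F V :=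
  LinearMap.ker (LinearMap.pi (fun i => B (f i)))

theorem mem_perpF {ι : Type*} {f : ι → V} {x : V} : x ∈ perpF B f ↔ ∀ i, B (f i) x = 0 := by
  unfold perpF
  rw [LinearMap.mem_ker]
  constructor
  · intro h i; exact congrFun h i
  · intro h; funext i; exact h i

theorem finrank_perpF [FiniteDimensional F V] (h : FormData σ B N s τ ν) (hσ : ∀ a, σ (σ a) = a) {ι : Type*} [Fintype ι]
    {f : ι → V} (hf : LinearIndependent F f) :
    finrank F (perpF B f) + Fintype.card ι = finrank F V := by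
  classical
  have hsurj : LinearMap.range (LinearMap.pi (fun i => B (f i)) : V →ₗ[F] (ι → F)) = ⊤ := by
    by_contra hne
    obtain ⟨φ, hφ0, hφ⟩ := Submodule.exists_le_ker_of_lt_top _ (lt_top_iff_ne_top.mpr hne)
    apply hφ0
    have h1 : ∀ z : V, (∑ i, φ (Pi.single i 1) * B (f i) z) = 0 := by
      intro z
      have h2 : φ ((LinearMap.pi (fun i => B (f i)) : V →ₗ[F] (ι → F)) z) = 0 := hφ ⟨z, rfl⟩
      rw [dual_eq_dot] at h2
      exact h2
    have h3 : (∑ i, σ (φ (Pi.single i 1)) • f i) = 0 := by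
      apply h.nd
      intro z
      rw [map_sum, LinearMap.sum_apply, ← h1 z]
      apply Finset.sum_congr rfl
      intro i _
      rw [LinearMap.map_smulₛₗ, LinearMap.smul_apply, hσ, smul_eq_mul]
    have h4 := Fintype.linearIndependent_iff.mp hf _ h3
    apply LinearMap.ext
    intro y
    rw [dual_eq_dot, LinearMap.zero_apply, dotProduct]
    apply Finset.sum_eq_zero
    intro i _
    have h5 : φ (Pi.single i 1) = 0 := by
      have := congrArg σ (h4 i)
      rw [hσ, map_zero] at this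
      exact this
    rw [h5, zero_mul]
  have h6 := LinearMap.finrank_range_add_finrank_ker (LinearMap.pi (fun i => B (f i)) : V →ₗ[F] (ι → F))
  rw [hsurj, finrank_top, Module.finrank_fintype_fun_eq_card] at h6
  unfold perpF
  omega

/-- totally isotropic frames -/
def TIF (B : V →ₛₗ[σ] V →ₗ[F] F) (N : V → F) (k : ℕ) : Type _ :=
  {f : Fin k → V // LinearIndependent F f ∧ (∀ i j, B (f i) (f j) = 0) ∧ ∀ i, N (f i) = 0}

instance [Finite V] (k : ℕ) : Finite (TIF B N k) := by
  unfold TIF; infer_instance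

/-- admissible next vectors -/
def NXT (B : V →ₛₗ[σ] V →ₗ[F] F) (N : V → F) {k : ℕ} (f : Fin k → V) : Type _ :=
  {v : V // v ∉ Submodule.span F (Set.range f) ∧ (∀ i, B (f i) v = 0) ∧ B v v = 0 ∧ N v = 0}

instance [Finite V] {k : ℕ} (f : Fin k → V) : Finite (NXT B N f) := by
  unfold NXT; infer_instance

noncomputable def tifEquiv (h : FormData σ B N s τ ν) (k : ℕ) :
    TIF B N (k + 1) ≃ (Σ f : TIF B N k, NXT B N f.1) where
  toFun x := ⟨⟨Fin.tail x.1, (linearIndependent_fin_succ.mp x.2.1).1, fun i j => x.2.2.1 _ _, fun i => x.2.2.2 _⟩,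
    ⟨x.1 0, (linearIndependent_fin_succ.mp x.2.1).2, fun i => x.2.2.1 _ _, x.2.2.1 _ _, x.2.2.2 _⟩⟩
  invFun p := ⟨Fin.cons p.2.1 p.1.1, (linearIndependent_fin_cons).mpr ⟨p.1.2.1, p.2.2.1⟩, by
    intro i j
    rcases Fin.eq_zero_or_eq_succ i with rfl | ⟨i', rfl⟩
    · rcases Fin.eq_zero_or_eq_succ j with rfl | ⟨j', rfl⟩
      · rw [Fin.cons_zero]; exact p.2.2.2.2.1
      · rw [Fin.cons_zero, Fin.cons_succ, h.symm, p.2.2.2.1 j', h.s_zero]
    · rcases Fin.eq_zero_or_eq_succ j with rfl | ⟨j', rfl⟩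
      · rw [Fin.cons_zero, Fin.cons_succ]; exact p.2.2.2.1 i'
      · rw [Fin.cons_succ, Fin.cons_succ]; exact p.1.2.2.1 _ _, by
    intro i
    rcases Fin.eq_zero_or_eq_succ i with rfl | ⟨i', rfl⟩
    · rw [Fin.cons_zero]; exact p.2.2.2.2.2
    · rw [Fin.cons_succ]; exact p.1.2.2.2 _⟩
  left_inv x := by
    apply Subtype.ext
    exact Fin.cons_self_tail x.1
  right_inv p := rfl

theorem card_tif_succ [Finite V] (h : FormData σ B N s τ ν) (k c : ℕ)
    (hc : ∀ f : TIF B N k, Nat.card (NXT B N f.1) = c) :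
    Nat.card (TIF B N (k + 1)) = Nat.card (TIF B N k) * c := by
  classical
  haveI := Fintype.ofFinite (TIF B N k)
  rw [Nat.card_congr (tifEquiv h k), Nat.card_sigma, Finset.sum_congr rfl (fun y _ => hc _), Finset.sum_const,
    Finset.card_univ, smul_eq_mul, Nat.card_eq_fintype_card]

theorem card_tif_zero : Nat.card (TIF B N 0) = 1 := by
  rw [Nat.card_eq_one_iff_unique]
  refine ⟨⟨fun x y => Subtype.ext (Subsingleton.elim _ _)⟩, ⟨⟨fun i => i.elim0, linearIndependent_empty_type,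
    fun i => i.elim0, fun i => i.elim0⟩⟩⟩

theorem card_tif [Finite V] (h : FormData σ B N s τ ν) (c : ℕ → ℕ) : ∀ (k : ℕ)
    (_ : ∀ i < k, ∀ f : TIF B N i, Nat.card (NXT B N f.1) = c i),
    Nat.card (TIF B N k) = ∏ i ∈ Finset.range k, c i := by
  intro k
  induction k with
  | zero => intro _; rw [card_tif_zero, Finset.prod_range_zero]
  | succ k ih =>
    intro hc
    rw [card_tif_succ h k (c k) (hc k (Nat.lt_succ_self k)), ih (fun i hi => hc i (by omega)),
      Finset.prod_range_succ]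

/-- stabiliser orders from frame counts -/
theorem card_stab_general [Finite V] [FiniteDimensional F V] (h : FormData σ B N s τ ν) {G : Type*} [Group G]
    [Finite G] (ρ : G →* (V ≃ₗ[F] V)) (hB : ∀ g x y, B (ρ g x) (ρ g y) = B x y) (hN : ∀ g x, N (ρ g x) = N x)
    (hall : ∀ e : V ≃ₗ[F] V, (∀ x y, B (e x) (e y) = B x y) → (∀ x, N (e x) = N x) → ∃ g, ρ g = e)
    {k : ℕ} (x₀ : TIF B N k) (S : Subgroup G) (Y : Set (TIF B N k))
    (hS : ∀ g (y : TIF B N k), (∀ i, y.1 i = ρ g (x₀.1 i)) → (g ∈ S ↔ y ∈ Y)) :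
    Nat.card S * Nat.card (TIF B N k) = Nat.card Y * Nat.card G := by
  let f : G → TIF B N k := fun g => ⟨fun i => ρ g (x₀.1 i),
    x₀.2.1.map' (ρ g : V →ₗ[F] V) (LinearMap.ker_eq_bot_of_injective (ρ g).injective),
    fun i j => by rw [hB]; exact x₀.2.2.1 _ _, fun i => by rw [hN]; exact x₀.2.2.2 _⟩
  let K : Subgroup G :=
    { carrier := {g | ∀ i, ρ g (x₀.1 i) = x₀.1 i}
      mul_mem' := fun {a b} ha hb i => by
        rw [map_mul, LinearEquiv.mul_apply, hb i, ha i]
      one_mem' := fun i => by rw [map_one, LinearEquiv.coe_one]; rfl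
      inv_mem' := fun {a} ha i => by
        have h1 := ha i
        conv_lhs => rw [← h1]
        rw [← LinearEquiv.mul_apply, ← map_mul, inv_mul_cancel, map_one]
        rfl }
  have hK : ∀ g h, f g = f h ↔ g⁻¹ * h ∈ K := by
    intro g g'
    constructor
    · intro hfg i
      have h1 : ρ g (x₀.1 i) = ρ g' (x₀.1 i) := congrFun (congrArg Subtype.val hfg) i
      rw [map_mul, LinearEquiv.mul_apply, ← h1, ← LinearEquiv.mul_apply, ← map_mul, inv_mul_cancel, map_one]
      rfl
    · intro hgh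
      apply Subtype.ext
      funext i
      have h1 := hgh i
      show ρ g (x₀.1 i) = ρ g' (x₀.1 i)
      rw [map_mul, LinearEquiv.mul_apply] at h1
      conv_lhs => rw [← h1]
      rw [← LinearEquiv.mul_apply, ← map_mul, mul_inv_cancel, map_one]
      rfl
  have hs : Function.Surjective f := by
    intro y
    obtain ⟨e, he1, he2, he3⟩ := h.witt_family x₀.1 y.1 x₀.2.1 y.2.1
      (fun i j => by rw [x₀.2.2.1, y.2.2.1]) (fun i => by rw [x₀.2.2.2, y.2.2.2])
    obtain ⟨g, hg⟩ := hall e he1 he2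
    refine ⟨g, Subtype.ext ?_⟩
    funext i
    show ρ g (x₀.1 i) = y.1 i
    rw [hg, he3]
  have key := card_transporter f K hK hs Y
  rw [← key]
  congr 1
  apply Nat.card_congr
  apply Equiv.subtypeEquivRight
  intro g
  exact hS g (f g) (fun i => rfl)

/-- frame of a totally isotropic subspace -/
theorem exists_tif [FiniteDimensional F V] {W : Submodule F V} {k : ℕ} (hW : finrank F W = k)
    (hWB : ∀ x ∈ W, ∀ y ∈ W, B x y = 0) (hWN : ∀ x ∈ W, N x = 0) :
    ∃ x₀ : TIF B N k, ∀ i, x₀.1 i ∈ W := by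
  let b : Module.Basis (Fin k) F W := Module.finBasisOfFinrankEq F W hW
  exact ⟨⟨fun i => (b i : V), b.linearIndependent.map' W.subtype W.ker_subtype, fun i j => hWB _ (b i).2 _ (b j).2,
    fun i => hWN _ (b i).2⟩, fun i => (b i).2⟩

/-- order of the stabiliser of a totally isotropic subspace -/
theorem card_stab_ti [Fintype F] [Finite V] [FiniteDimensional F V] (h : FormData σ B N s τ ν) {G : Type*} [Group G]
    [Finite G] (ρ : G →* (V ≃ₗ[F] V)) (hB : ∀ g x y, B (ρ g x) (ρ g y) = B x y) (hN : ∀ g x, N (ρ g x) = N x)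
    (hall : ∀ e : V ≃ₗ[F] V, (∀ x y, B (e x) (e y) = B x y) → (∀ x, N (e x) = N x) → ∃ g, ρ g = e)
    {k : ℕ} {W : Submodule F V} (hW : finrank F W = k)
    (hWB : ∀ x ∈ W, ∀ y ∈ W, B x y = 0) (hWN : ∀ x ∈ W, N x = 0) (S : Subgroup G)
    (hS : ∀ g, g ∈ S ↔ ∀ v, v ∈ W ↔ ρ g v ∈ W) :
    Nat.card S * Nat.card (TIF B N k) =
      (∏ i : Fin k, (Fintype.card F ^ k - Fintype.card F ^ (i : ℕ))) * Nat.card G := by
  obtain ⟨x₀, hx₀⟩ := exists_tif (B := B) (N := N) hW hWB hWN
  have key := card_stab_general h ρ hB hN hall x₀ S {y | ∀ i, y.1 i ∈ W} (by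
    intro g y hy
    rw [hS, stab_iff_frame hW x₀.2.1 hx₀ (ρ g)]
    constructor
    · intro h1 i
      rw [hy i]; exact h1 i
    · intro h1 i
      rw [← hy i]; exact h1 i)
  rw [key]
  congr 1
  rw [← card_frames_in W hW]
  refine Nat.card_congr
    { toFun := fun y => ⟨y.1.1, y.1.2.1, y.2⟩
      invFun := fun y => ⟨⟨y.1, y.2.1, fun i j => hWB _ (y.2.2 i) _ (y.2.2 j), fun i => hWN _ (y.2.2 i)⟩, y.2.2⟩
      left_inv := fun y => rfl
      right_inv := fun y => rfl }

/-- number of totally isotropic subspaces -/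
theorem card_ti_subspaces [Fintype F] [Finite V] [FiniteDimensional F V] (k : ℕ) :
    Nat.card {W : Submodule F V // finrank F W = k ∧ (∀ x ∈ W, ∀ y ∈ W, B x y = 0) ∧ ∀ x ∈ W, N x = 0} *
      (∏ i : Fin k, (Fintype.card F ^ k - Fintype.card F ^ (i : ℕ))) =
      Nat.card {f : TIF B N k // (∀ x ∈ Submodule.span F (Set.range f.1), N x = 0) ∧
        ∀ x ∈ Submodule.span F (Set.range f.1), ∀ y ∈ Submodule.span F (Set.range f.1), B x y = 0} := by
  haveI : Finite (Submodule F V) := Finite.of_injective (fun W : Submodule F V => (W : Set V)) SetLike.coe_injective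
  rw [card_of_fibers_univ (fun f : {f : TIF B N k // (∀ x ∈ Submodule.span F (Set.range f.1), N x = 0) ∧
        ∀ x ∈ Submodule.span F (Set.range f.1), ∀ y ∈ Submodule.span F (Set.range f.1), B x y = 0} =>
      (⟨Submodule.span F (Set.range f.1.1), by
        rw [finrank_span_eq_card f.1.2.1, Fintype.card_fin], f.2.2, f.2.1⟩ :
      {W : Submodule F V // finrank F W = k ∧ (∀ x ∈ W, ∀ y ∈ W, B x y = 0) ∧ ∀ x ∈ W, N x = 0}))
      (∏ i : Fin k, (Fintype.card F ^ k - Fintype.card F ^ (i : ℕ)))]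
  rintro ⟨W, hW, hWB, hWN⟩
  rw [← card_frames_in W hW]
  refine Nat.card_congr
    { toFun := fun y => ⟨y.1.1.1, y.1.1.2.1, fun i => by
        have h1 : Submodule.span F (Set.range y.1.1.1) = W := congrArg Subtype.val y.2
        exact h1.le (Submodule.subset_span ⟨i, rfl⟩)⟩
      invFun := fun y => ⟨⟨⟨y.1, y.2.1, fun i j => hWB _ (y.2.2 i) _ (y.2.2 j), fun i => hWN _ (y.2.2 i)⟩, by
          have h1 := maps_of_basis hW y.2.1 y.2.2
          show (∀ x ∈ Submodule.span F (Set.range y.1), N x = 0) ∧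
            ∀ x ∈ Submodule.span F (Set.range y.1), ∀ z ∈ Submodule.span F (Set.range y.1), B x z = 0
          rw [h1]
          exact ⟨hWN, hWB⟩⟩, Subtype.ext (maps_of_basis hW y.2.1 y.2.2)⟩
      left_inv := fun y => rfl
      right_inv := fun y => rfl }

end gen

section reps

variable {n : Type} [Fintype n] [DecidableEq n] {F : Type*} [Field F]

/-- the linear representation of `GL` -/
noncomputable def glEhom : GL n F →* ((n → F) ≃ₗ[F] (n → F)) where
  toFun := glE
  map_one' := by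
    apply LinearEquiv.ext
    intro x
    rw [glE_apply, Units.val_one, Matrix.one_mulVec]
    rfl
  map_mul' g h := by
    apply LinearEquiv.ext
    intro x
    rw [glE_apply, Units.val_mul, ← Matrix.mulVec_mulVec]
    rfl

theorem glEhom_apply (g : GL n F) (x : n → F) : glEhom g x = (g : Matrix n n F).mulVec x := rfl

end reps

end Cfsg.Agent.H5
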