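import Mathlib
import Cfsg.Agent.H5.IsoFrames
import Cfsg.Agent.H5.SpOrder
set_option autoImplicit false

/-! Stabilisers in symplectic groups. -/

namespace Cfsg.Agent.H5

open Matrix Cfsg Module

section

variable {F : Type*} [Field F] {m : ℕ}

/-- the linear representation of `Sp` -/
noncomputable def spEhom (m : ℕ) (F : Type*) [Field F] :
    Matrix.symplecticGroup (Fin m) F →* ((Fin m ⊕ Fin m → F) ≃ₗ[F] (Fin m ⊕ Fin m → F)) where
  toFun g :=
    { toFun := fun x => (g : Matrix (Fin m ⊕ Fin m) (Fin m ⊕ Fin m) F).mulVec x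
      map_add' := fun x y => Matrix.mulVec_add _ _ _
      map_smul' := fun a x => Matrix.mulVec_smul _ _ _
      invFun := fun x => ((g⁻¹ : Matrix.symplecticGroup (Fin m) F) : Matrix (Fin m ⊕ Fin m) (Fin m ⊕ Fin m) F).mulVec x
      left_inv := fun x => by
        show ((g⁻¹ : Matrix.symplecticGroup (Fin m) F) : Matrix (Fin m ⊕ Fin m) (Fin m ⊕ Fin m) F).mulVec
          ((g : Matrix (Fin m ⊕ Fin m) (Fin m ⊕ Fin m) F).mulVec x) = x
        rw [Matrix.mulVec_mulVec, ← Submonoid.coe_mul, inv_mul_cancel, Submonoid.coe_one, Matrix.one_mulVec]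
      right_inv := fun x => by
        show (g : Matrix (Fin m ⊕ Fin m) (Fin m ⊕ Fin m) F).mulVec
          (((g⁻¹ : Matrix.symplecticGroup (Fin m) F) : Matrix (Fin m ⊕ Fin m) (Fin m ⊕ Fin m) F).mulVec x) = x
        rw [Matrix.mulVec_mulVec, ← Submonoid.coe_mul, mul_inv_cancel, Submonoid.coe_one, Matrix.one_mulVec] }
  map_one' := by
    apply LinearEquiv.ext
    intro x
    exact Matrix.one_mulVec x
  map_mul' g h := by
    apply LinearEquiv.ext
    intro x
    exact (Matrix.mulVec_mulVec x _ _).symm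

theorem spEhom_apply (g : Matrix.symplecticGroup (Fin m) F) (x : Fin m ⊕ Fin m → F) :
    spEhom m F g x = (g : Matrix (Fin m ⊕ Fin m) (Fin m ⊕ Fin m) F).mulVec x := rfl

theorem spEhom_surj (e : (Fin m ⊕ Fin m → F) ≃ₗ[F] (Fin m ⊕ Fin m → F))
    (he : ∀ x y, sympB m F (e x) (e y) = sympB m F x y) : ∃ g, spEhom m F g = e := by
  refine ⟨⟨LinearMap.toMatrix' (e : (Fin m ⊕ Fin m → F) →ₗ[F] (Fin m ⊕ Fin m → F)), ?_⟩, ?_⟩
  · rw [mem_Sp_iff]
    intro u v
    rw [LinearMap.toMatrix'_mulVec, LinearMap.toMatrix'_mulVec]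
    exact he u v
  · apply LinearEquiv.ext
    intro x
    rw [spEhom_apply]
    show (LinearMap.toMatrix' (e : (Fin m ⊕ Fin m → F) →ₗ[F] (Fin m ⊕ Fin m → F))).mulVec x = e x
    rw [LinearMap.toMatrix'_mulVec]
    rfl

theorem card_diff {V : Type*} [AddCommGroup V] [Module F V] [Finite V] {P S : Submodule F V} (h : S ≤ P) :
    Nat.card {v : V // v ∉ S ∧ v ∈ P} = Nat.card P - Nat.card S := by
  classical
  haveI := Fintype.ofFinite V
  have h1 : Nat.card {v : V // v ∉ S ∧ v ∈ P} = ((P : Set V) \ (S : Set V)).ncard := by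
    rw [← Nat.card_coe_set_eq]
    apply Nat.card_congr
    apply Equiv.subtypeEquivRight
    intro v
    exact and_comm
  rw [h1, Set.ncard_diff (by exact h)]
  rw [← Nat.card_coe_set_eq, ← Nat.card_coe_set_eq]
  rfl

variable [Finite F]

theorem card_nxt_sp {q : ℕ} (hq : Nat.card F = q) {k : ℕ} (f : TIF (sympB m F) (fun _ => (0 : F)) k) :
    Nat.card (NXT (sympB m F) (fun _ => (0 : F)) f.1) = q ^ (2 * m - k) - q ^ k := by
  have hV : finrank F (Fin m ⊕ Fin m → F) = 2 * m := by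
    rw [Module.finrank_fintype_fun_eq_card, Fintype.card_sum, Fintype.card_fin, two_mul]
  have h1 := finrank_perpF (sp_formData (m := m) (F := F)) (fun a => rfl) f.2.1
  rw [hV, Fintype.card_fin] at h1
  have h2 := finrank_span_eq_card f.2.1
  rw [Fintype.card_fin] at h2
  have hle : Submodule.span F (Set.range f.1) ≤ perpF (sympB m F) f.1 := by
    rw [Submodule.span_le]
    rintro _ ⟨i, rfl⟩
    exact mem_perpF.mpr (fun j => f.2.2.1 j i)
  have h3 : Nat.card (NXT (sympB m F) (fun _ => (0 : F)) f.1) =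
      Nat.card {v // v ∉ Submodule.span F (Set.range f.1) ∧ v ∈ perpF (sympB m F) f.1} := by
    unfold NXT
    apply Nat.card_congr
    apply Equiv.subtypeEquivRight
    intro v
    rw [mem_perpF]
    constructor
    · rintro ⟨h4, h5, _⟩; exact ⟨h4, h5⟩
    · rintro ⟨h4, h5⟩; exact ⟨h4, h5, sympB_isAlt v, rfl⟩
  rw [h3, card_diff hle, card_submodule _ hq h2, card_submodule (perpF (sympB m F) f.1) (n := 2 * m - k) hq (by omega)]

theorem card_tif_sp {q : ℕ} (hq : Nat.card F = q) (k : ℕ) :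
    Nat.card (TIF (sympB m F) (fun _ => (0 : F)) k) = ∏ i ∈ Finset.range k, (q ^ (2 * m - i) - q ^ i) :=
  card_tif sp_formData (fun i => q ^ (2 * m - i) - q ^ i) k (fun _ _ f => card_nxt_sp hq f)

omit [Finite F] in
theorem sp_arith (q m : ℕ) : ∀ (k : ℕ) (_ : k ≤ m),
    q ^ (m ^ 2) * ∏ i ∈ Finset.range m, (q ^ (2 * (i + 1)) - 1) =
      q ^ (k * (k + 1) / 2 + 2 * k * (m - k) + (m - k) ^ 2) * (∏ i ∈ Finset.range (m - k), (q ^ (2 * (i + 1)) - 1)) *
        ∏ i ∈ Finset.range k, (q ^ (2 * m - i) - q ^ i) := by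
  intro k
  induction k with
  | zero =>
    intro _
    simp
  | succ k ih =>
    intro hk
    rw [ih (by omega), Finset.prod_range_succ (fun i => q ^ (2 * m - i) - q ^ i)]
    obtain ⟨d, rfl⟩ : ∃ d, m = k + 1 + d := ⟨m - (k + 1), by omega⟩
    have e1 : k + 1 + d - k = d + 1 := by omega
    have e2 : k + 1 + d - (k + 1) = d := by omega
    have e3 : q ^ (2 * (k + 1 + d) - k) - q ^ k = q ^ k * (q ^ (2 * (d + 1)) - 1) := by
      rw [Nat.mul_sub, mul_one, ← pow_add]
      congr 2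
      omega
    rw [e1, e2, e3, Finset.prod_range_succ]
    have e4 : k * (k + 1) / 2 + 2 * k * (d + 1) + (d + 1) ^ 2 =
        ((k + 1) * (k + 1 + 1) / 2 + 2 * (k + 1) * d + d ^ 2) + k := by
      have h1 : (k + 1) * (k + 1 + 1) / 2 = k * (k + 1) / 2 + (k + 1) := by
        have : (k + 1) * (k + 1 + 1) = k * (k + 1) + (k + 1) * 2 := by ring
        rw [this, Nat.add_mul_div_right _ _ (by norm_num)]
      rw [h1]
      ring
    rw [e4, pow_add _ _ k]
    ring

end

end Cfsg.Agent.H5
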