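import Mathlib
import Cfsg.Agent.H5.IsoFrames
import Cfsg.Agent.H5.GLStab2
import Cfsg.Agent.H5.SpStab
import Cfsg.Agent.H5.UnitCenter
set_option autoImplicit false

/-! Stabilisers in unitary groups. -/

namespace Cfsg.Agent.H5

open Matrix Cfsg Module

section

variable {F : Type*} [Field F] [Fintype F] {σ : F →+* F} {n q : ℕ}

omit [Fintype F] in
theorem span_left_zero {V : Type*} [AddCommGroup V] [Module F V]
    {B : V →ₛₗ[σ] V →ₗ[F] F} {ι : Type*} {f : ι → V} {c : V} (hc : ∀ i, B (f i) c = 0) {u : V}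
    (hu : u ∈ Submodule.span F (Set.range f)) : B u c = 0 := by
  induction hu using Submodule.span_induction with
  | mem x hx => obtain ⟨i, rfl⟩ := hx; exact hc i
  | zero => rw [map_zero, LinearMap.zero_apply]
  | add x y _ _ hx hy => rw [map_add, LinearMap.add_apply, hx, hy, add_zero]
  | smul a x _ hx => rw [LinearMap.map_smulₛₗ, LinearMap.smul_apply, hx, smul_zero]

/-- radical-free complement in a perp -/
theorem exists_core {V : Type*} [AddCommGroup V] [Module F V] [FiniteDimensional F V]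
    {B : V →ₛₗ[σ] V →ₗ[F] F} {N : V → F} {s τ ν : F → F}
    (h : FormData σ B N s τ ν) (hσ2 : ∀ a, σ (σ a) = a) (hS : ∀ x y, σ (B x y) = B y x) {k : ℕ} (f : TIF B N k) :
    ∃ C : Submodule F V, C ≤ perpF B f.1 ∧ Submodule.span F (Set.range f.1) ⊓ C = ⊥ ∧
      Submodule.span F (Set.range f.1) ⊔ C = perpF B f.1 ∧ UW B (finrank F V - 2 * k) C := by
  have hle : Submodule.span F (Set.range f.1) ≤ perpF B f.1 := by
    rw [Submodule.span_le]
    rintro _ ⟨i, rfl⟩
    exact mem_perpF.mpr (fun j => f.2.2.1 j i)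
  obtain ⟨D, hD⟩ := Submodule.exists_isCompl (Submodule.span F (Set.range f.1))
  have h1 := finrank_perpF h hσ2 f.2.1
  rw [Fintype.card_fin] at h1
  have h2 := finrank_span_eq_card f.2.1
  rw [Fintype.card_fin] at h2
  have hinf : Submodule.span F (Set.range f.1) ⊓ (D ⊓ perpF B f.1) = ⊥ := by
    rw [← inf_assoc, hD.inf_eq_bot, bot_inf_eq]
  have hsup : Submodule.span F (Set.range f.1) ⊔ (D ⊓ perpF B f.1) = perpF B f.1 := by
    rw [← sup_inf_assoc_of_le _ hle, hD.sup_eq_top, top_inf_eq]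
  refine ⟨D ⊓ perpF B f.1, inf_le_right, hinf, hsup, ?_, ?_⟩
  · have h3 := Submodule.finrank_sup_add_finrank_inf_eq (Submodule.span F (Set.range f.1)) (D ⊓ perpF B f.1)
    rw [hinf, hsup, finrank_bot] at h3
    omega
  · intro c hc hc0
    have hcp : ∀ p ∈ perpF B f.1, B c p = 0 := by
      intro p hp
      rw [← hsup] at hp
      obtain ⟨u, hu, d, hd, rfl⟩ := Submodule.mem_sup.mp hp
      have hcu : B c u = 0 := by
        rw [← hS]
        have : B u c = 0 := span_left_zero (mem_perpF.mp hc.2) hu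
        rw [this, map_zero]
      rw [map_add, hcu, hc0 d hd, add_zero]
    have hcu : c ∈ Submodule.span F (Set.range f.1) := by
      by_contra hnot
      have hli : LinearIndependent F (Fin.cons c f.1 : Fin (k + 1) → V) :=
        (linearIndependent_fin_cons).mpr ⟨f.2.1, hnot⟩
      have h4 := finrank_perpF h hσ2 hli
      rw [Fintype.card_fin] at h4
      have h5 : perpF B f.1 ≤ perpF B (Fin.cons c f.1 : Fin (k + 1) → V) := by
        intro p hp
        rw [mem_perpF]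
        intro i
        rcases Fin.eq_zero_or_eq_succ i with rfl | ⟨i', rfl⟩
        · rw [Fin.cons_zero]; exact hcp p hp
        · rw [Fin.cons_succ]; exact mem_perpF.mp hp i'
      have h6 := Submodule.finrank_mono h5
      omega
    have h7 : c ∈ (⊥ : Submodule F V) := by rw [← hinf]; exact ⟨hcu, hc⟩
    exact (Submodule.mem_bot F).mp h7

theorem card_nxt_u (hF : Fintype.card F = q ^ 2) (hσ1 : σ ≠ RingHom.id F)
    (hσ2 : ∀ x, σ (σ x) = x) {k : ℕ} (f : TIF (hB (Fin n) σ) (fun v => hB (Fin n) σ v v) k) :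
    Nat.card (NXT (hB (Fin n) σ) (fun v => hB (Fin n) σ v v) f.1) = (q ^ 2) ^ k * (nvec σ (n - 2 * k) 0 - 1) := by
  classical
  have hS := hB_symm (ι := Fin n) hσ2
  have hV : finrank F (Fin n → F) = n := by
    rw [Module.finrank_fintype_fun_eq_card, Fintype.card_fin]
  obtain ⟨C, hCP, hinf, hsup, hC⟩ := exists_core (hB_formData hσ1 hσ2) hσ2 hS f
  rw [hV] at hC
  have hq : Nat.card F = q ^ 2 := by rw [Nat.card_eq_fintype_card, hF]
  have h2 := finrank_span_eq_card f.2.1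
  rw [Fintype.card_fin] at h2
  set U := Submodule.span F (Set.range f.1) with hU
  have hcU := card_submodule U hq h2
  have hcC := UW_card hσ1 hσ2 hS _ C hC 0
  have hTS : ∀ x ∈ U, ∀ p ∈ perpF (hB (Fin n) σ) f.1, hB (Fin n) σ x p = 0 := by
    intro x hx p hp
    exact span_left_zero (mem_perpF.mp hp) hx
  have hUP : U ≤ perpF (hB (Fin n) σ) f.1 := by rw [← hsup]; exact le_sup_left
  have hdec : ∀ u ∈ U, ∀ c ∈ C, hB (Fin n) σ (u + c) (u + c) = hB (Fin n) σ c c := by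
    intro u hu c hc
    have e1 := hTS u hu u (hUP hu)
    have e2 := hTS u hu c (hCP hc)
    have e3 : hB (Fin n) σ c u = 0 := by rw [← hS, e2, map_zero]
    rw [FormData.bl_add, FormData.br_add, FormData.br_add, e1, e2, e3, zero_add, zero_add, zero_add]
  -- all isotropic vectors of the perp
  have e : (U × {x : Fin n → F // x ∈ C ∧ hB (Fin n) σ x x = 0}) ≃
      {v : Fin n → F // v ∈ perpF (hB (Fin n) σ) f.1 ∧ hB (Fin n) σ v v = 0} := by
    refine Equiv.ofBijective (fun p => ⟨p.1.1 + p.2.1, ?_, ?_⟩) ⟨?_, ?_⟩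
    · exact Submodule.add_mem _ (hUP p.1.2) (hCP p.2.2.1)
    · rw [hdec _ p.1.2 _ p.2.2.1]; exact p.2.2.2
    · rintro ⟨⟨u, hu⟩, ⟨c, hc, hc'⟩⟩ ⟨⟨u', hu'⟩, ⟨c', hc1, hc2⟩⟩ h
      have h3 : u + c = u' + c' := congrArg Subtype.val h
      have h4 : u - u' = c' - c := by
        rw [sub_eq_sub_iff_add_eq_add, h3, add_comm]
      have h5 : u - u' ∈ U ⊓ C := ⟨U.sub_mem hu hu', by rw [h4]; exact C.sub_mem hc1 hc⟩
      rw [hinf, Submodule.mem_bot] at h5
      have h6 : u = u' := sub_eq_zero.mp h5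
      have h7 : c = c' := by rw [h5] at h4; exact (sub_eq_zero.mp h4.symm).symm
      subst h6; subst h7; rfl
    · rintro ⟨v, hv, hv0⟩
      have hv' := hv
      rw [← hsup] at hv'
      obtain ⟨u, hu, c, hc, rfl⟩ := Submodule.mem_sup.mp hv'
      exact ⟨⟨⟨u, hu⟩, ⟨c, hc, by rw [← hdec u hu c hc]; exact hv0⟩⟩, rfl⟩
  have h8 : Nat.card {v : Fin n → F // v ∈ perpF (hB (Fin n) σ) f.1 ∧ hB (Fin n) σ v v = 0} =
      (q ^ 2) ^ k * nvec σ (n - 2 * k) 0 := by
    rw [← Nat.card_congr e, Nat.card_prod, hcU, hcC]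
  have h9 : Nat.card (NXT (hB (Fin n) σ) (fun v => hB (Fin n) σ v v) f.1) =
      (({v : Fin n → F | v ∈ perpF (hB (Fin n) σ) f.1 ∧ hB (Fin n) σ v v = 0} : Set (Fin n → F)) \ (U : Set (Fin n → F))).ncard := by
    unfold NXT
    rw [← Nat.card_coe_set_eq]
    apply Nat.card_congr
    apply Equiv.subtypeEquivRight
    intro v
    constructor
    · rintro ⟨a1, a2, a3, _⟩
      exact ⟨⟨mem_perpF.mpr a2, a3⟩, a1⟩
    · rintro ⟨⟨a2, a3⟩, a1⟩
      exact ⟨a1, mem_perpF.mp a2, a3, a3⟩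
  rw [h9, Set.ncard_diff (by
    intro u hu
    exact ⟨hUP hu, hTS u hu u (hUP hu)⟩)]
  rw [← Nat.card_coe_set_eq, ← Nat.card_coe_set_eq]
  have h10 : Nat.card ({v : Fin n → F | v ∈ perpF (hB (Fin n) σ) f.1 ∧ hB (Fin n) σ v v = 0} : Set (Fin n → F)) =
      (q ^ 2) ^ k * nvec σ (n - 2 * k) 0 := h8
  have h11 : Nat.card (U : Set (Fin n → F)) = (q ^ 2) ^ k := hcU
  rw [h10, h11, Nat.mul_sub, mul_one]

theorem card_tif_u (hF : Fintype.card F = q ^ 2) (hσ1 : σ ≠ RingHom.id F)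
    (hσ2 : ∀ x, σ (σ x) = x) (k : ℕ) :
    Nat.card (TIF (hB (Fin n) σ) (fun v => hB (Fin n) σ v v) k) =
      ∏ i ∈ Finset.range k, (q ^ 2) ^ i * (nvec σ (n - 2 * i) 0 - 1) :=
  card_tif (hB_formData hσ1 hσ2) _ k (fun _ _ f => card_nxt_u hF hσ1 hσ2 f)

theorem ordU_succ_succ (hF : Fintype.card F = q ^ 2) (hσ : ∀ x, σ x = x ^ q)
    (hσ2 : ∀ x, σ (σ x) = x) (d : ℕ) :
    ordU q (d + 2) = q ^ (2 * d + 1) * (nvec σ (d + 2) 0 - 1) * ordU q d := by
  rw [nvec_isotropic hF hσ hσ2 (d + 1), Nat.add_sub_cancel]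
  unfold ordU
  rw [Finset.prod_range_succ, Finset.prod_range_succ]
  have h1 : (d + 2) * (d + 2 - 1) / 2 = d * (d - 1) / 2 + (2 * d + 1) := by
    rcases d with _ | r
    · rfl
    · have e1 : (r + 1 + 2) * (r + 1 + 2 - 1) = (r + 1) * (r + 1 - 1) + (2 * (r + 1) + 1) * 2 := by
        rw [show r + 1 + 2 - 1 = r + 2 by omega, show r + 1 - 1 = r by omega]; ring
      rw [e1, Nat.add_mul_div_right _ _ (by norm_num)]
  rw [h1, pow_add]
  have h2 : (if Even (d + 1) then (q ^ (d + 1 + 1) + 1) * (q ^ (d + 1) - 1) else (q ^ (d + 1 + 1) - 1) * (q ^ (d + 1) + 1)) =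
      (if Even d then q ^ (d + 1) + 1 else q ^ (d + 1) - 1) *
      (if Even (d + 1) then q ^ (d + 1 + 1) + 1 else q ^ (d + 1 + 1) - 1) := by
    by_cases hd : Even d
    · have hd' : ¬ Even (d + 1) := by rw [Nat.even_add_one]; exact fun h => h hd
      rw [if_neg hd', if_neg hd', if_pos hd]; ring
    · have hd' : Even (d + 1) := by rw [Nat.even_add_one]; exact hd
      rw [if_pos hd', if_pos hd', if_neg hd]; ring
  rw [h2]
  ring

theorem u_arith (hF : Fintype.card F = q ^ 2) (hσ : ∀ x, σ x = x ^ q)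
    (hσ2 : ∀ x, σ (σ x) = x) (n : ℕ) : ∀ (k : ℕ) (_ : 2 * k ≤ n),
    ordU q n = q ^ (k * (2 * n - 3 * k)) * ordU q (n - 2 * k) *
      ∏ i ∈ Finset.range k, (q ^ 2) ^ i * (nvec σ (n - 2 * i) 0 - 1) := by
  intro k
  induction k with
  | zero => intro _; simp
  | succ k ih =>
    intro hk
    rw [ih (by omega), Finset.prod_range_succ]
    obtain ⟨d, hd⟩ : ∃ d, n = 2 * k + (d + 2) := ⟨n - 2 * k - 2, by omega⟩
    have e1 : n - 2 * k = d + 2 := by omega
    have e2 : n - 2 * (k + 1) = d := by omega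
    rw [e1, e2, ordU_succ_succ hF hσ hσ2]
    have e3 : k * (2 * n - 3 * k) + (2 * d + 1) = (k + 1) * (2 * n - 3 * (k + 1)) + 2 * k := by
      have a1 : 2 * n - 3 * k = k + (2 * d + 4) := by omega
      have a2 : 2 * n - 3 * (k + 1) = k + (2 * d + 1) := by omega
      rw [a1, a2]; ring
    have e4 : q ^ (k * (2 * n - 3 * k)) * q ^ (2 * d + 1) = q ^ ((k + 1) * (2 * n - 3 * (k + 1))) * (q ^ 2) ^ k := by
      rw [← pow_add, e3, pow_add, ← pow_mul]
    calc _ = (q ^ (k * (2 * n - 3 * k)) * q ^ (2 * d + 1)) * (nvec σ (d + 2) 0 - 1) * ordU q d *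
          ∏ i ∈ Finset.range k, (q ^ 2) ^ i * (nvec σ (n - 2 * i) 0 - 1) := by ring
      _ = _ := by rw [e4]; ring

theorem nvec_pos (hF : Fintype.card F = q ^ 2) (hσ : ∀ x, σ x = x ^ q)
    (hσ2 : ∀ x, σ (σ x) = x) (d : ℕ) : 0 < nvec σ (d + 2) 0 - 1 := by
  have hq : 2 ≤ q := q_pos hF
  rw [nvec_isotropic hF hσ hσ2 (d + 1), Nat.add_sub_cancel]
  have h1 : 1 < q ^ (d + 1) := Nat.one_lt_pow (by omega) (by omega)
  have h2 : 1 < q ^ (d + 1 + 1) := Nat.one_lt_pow (by omega) (by omega)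
  split_ifs
  · exact Nat.mul_pos (by omega) (by omega)
  · exact Nat.mul_pos (by omega) (by omega)

theorem guE_surj {σ : F →+* F} (hσ : ∀ x, σ x = x ^ q) (e : (Fin n → F) ≃ₗ[F] (Fin n → F))
    (he : ∀ x y, hB (Fin n) σ (e x) (e y) = hB (Fin n) σ x y) :
    ∃ g : GU n F q, (glEhom.comp (GU n F q).subtype) g = e := by
  refine ⟨⟨mkGL e, ?_⟩, ?_⟩
  · rw [mem_GU_iff hσ]
    intro u v
    rw [mkGL_mulVec, mkGL_mulVec]
    exact he u v
  · apply LinearEquiv.ext
    intro x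
    exact mkGL_mulVec e x

theorem card_stab_GU (hF : Fintype.card F = q ^ 2) (n k : ℕ) (hk : 2 * k ≤ n) (W : Submodule F (Fin n → F))
    (hWk : Module.finrank F W = k) (hW : ∀ u ∈ W, ∀ v ∈ W, Cfsg.hermForm n F q u v = 0) :
    Nat.card ↥((Cfsg.stabilizing (Cfsg.glToMat (Fin n) F) (W : Set (Fin n → F))).subgroupOf (Cfsg.GU n F q)) =
      q ^ (k * (2 * n - 3 * k)) * (∏ i : Fin k, ((q ^ 2) ^ k - (q ^ 2) ^ (i : ℕ))) * ordU q (n - 2 * k) := by
  obtain ⟨σ, hσ, hσ2, hσ1⟩ := exists_frob hF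
  have hWB : ∀ x ∈ W, ∀ y ∈ W, hB (Fin n) σ x y = 0 := by
    intro x hx y hy
    rw [← hermForm_eq hσ]
    exact hW y hy x hx
  have key := card_stab_ti (hB_formData (ι := Fin n) hσ1 hσ2) (glEhom.comp (GU n F q).subtype)
    (fun g x y => (mem_GU_iff hσ).mp g.2 x y) (fun g x => (mem_GU_iff hσ).mp g.2 x x)
    (fun e he _ => guE_surj hσ e he) hWk hWB (fun x hx => hWB x hx x hx)
    ((Cfsg.stabilizing (Cfsg.glToMat (Fin n) F) (W : Set (Fin n → F))).subgroupOf (Cfsg.GU n F q))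
    (fun g => by rw [Subgroup.mem_subgroupOf]; exact Iff.rfl)
  rw [card_tif_u hF hσ1 hσ2, card_GU hF, u_arith hF hσ hσ2 n k hk, hF] at key
  have hpos : 0 < ∏ i ∈ Finset.range k, (q ^ 2) ^ i * (nvec σ (n - 2 * i) 0 - 1) := by
    apply Finset.prod_pos
    intro i hi
    rw [Finset.mem_range] at hi
    obtain ⟨d, hd⟩ : ∃ d, n - 2 * i = d + 2 := ⟨n - 2 * i - 2, by omega⟩
    rw [hd]
    have := nvec_pos hF hσ hσ2 d
    have hq : 2 ≤ q := q_pos hF
    positivity
  apply Nat.eq_of_mul_eq_mul_right hpos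
  rw [key]
  ring

/-- the stabiliser contains elements of every norm-one determinant -/
theorem exists_stab_det (hF : Fintype.card F = q ^ 2) {n : ℕ} (hn : 1 ≤ n) (hσ : ∀ x, σ x = x ^ q)
    (hσ1 : σ ≠ RingHom.id F) (hσ2 : ∀ x, σ (σ x) = x) (W : Submodule F (Fin n → F))
    (hW : ∀ x ∈ W, ∀ y ∈ W, hB (Fin n) σ x y = 0) (u : Fˣ) (hu : σ (u : F) * u = 1) :
    ∃ g : GU n F q, g ∈ (Cfsg.stabilizing (Cfsg.glToMat (Fin n) F) (W : Set (Fin n → F))).subgroupOf (Cfsg.GU n F q) ∧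
      detGU n F q g = u := by
  by_cases hbot : W = ⊥
  · obtain ⟨g, hg⟩ := (detGU_range hσ hn u).mpr hu
    refine ⟨g, ?_, hg⟩
    rw [Subgroup.mem_subgroupOf, hbot]
    apply stab_of_maps
    intro w hw
    rw [Submodule.mem_bot] at hw
    rw [hw, Matrix.mulVec_zero]
    exact Submodule.zero_mem _
  · obtain ⟨w, hw, hw0⟩ := Submodule.exists_mem_ne_zero_of_ne_bot hbot
    have hS := hB_symm (ι := Fin n) hσ2
    have hww := hW w hw w hw
    -- partner
    obtain ⟨v, hwv⟩ : ∃ v, hB (Fin n) σ w v = 1 := by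
      by_contra hcon
      push Not at hcon
      apply hw0
      apply hB_nd
      intro y
      by_contra hy
      apply hcon ((hB (Fin n) σ w y)⁻¹ • y)
      rw [map_smul, smul_eq_mul, inv_mul_cancel₀ hy]
    obtain ⟨c, hc⟩ := exists_trace_eq hσ1 hσ2 (-(hB (Fin n) σ v v)) (by rw [map_neg, hS])
    have hvw : hB (Fin n) σ v w = 1 := by rw [← hS, hwv, map_one]
    obtain ⟨p, hwp, hpp⟩ : ∃ p, hB (Fin n) σ w p = 1 ∧ hB (Fin n) σ p p = 0 := by
      refine ⟨v + c • w, ?_, ?_⟩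
      · rw [map_add, map_smul, hww, smul_zero, add_zero, hwv]
      · rw [FormData.bl_add, FormData.br_add, FormData.br_add, FormData.bl_smul, FormData.bl_smul, FormData.br_smul,
          FormData.br_smul, hww, hvw, hwv]
        linear_combination hc
    have hpw : hB (Fin n) σ p w = 1 := by rw [← hS, hwp, map_one]
    obtain ⟨a, ha0, ha⟩ := hilbert90 hσ1 hσ2 (x := (u : F)) (by rw [mul_comm]; exact hu)
    have hsa0 : σ a ≠ 0 := by rw [Ne, map_eq_zero]; exact ha0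
    have hdot : ∀ x y : Fin n → F, (fun i => σ (x i)) ⬝ᵥ y = hB (Fin n) σ x y := fun x y => rfl
    have hd1 : 1 + (fun i => σ (p i)) ⬝ᵥ ((a - 1) • w) ≠ 0 := by
      rw [hdot, map_smul, hpw, smul_eq_mul, mul_one, add_sub_cancel]; exact ha0
    have hd2 : 1 + (fun i => σ (w i)) ⬝ᵥ (((σ a)⁻¹ - 1) • p) ≠ 0 := by
      rw [hdot, map_smul, hwp, smul_eq_mul, mul_one, add_sub_cancel]; exact inv_ne_zero hsa0
    let g : GL (Fin n) F := GLtv ((a - 1) • w) (fun i => σ (p i)) hd1 * GLtv (((σ a)⁻¹ - 1) • p) (fun i => σ (w i)) hd2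
    have hg : ∀ x, (g : Matrix (Fin n) (Fin n) F).mulVec x =
        x + (((σ a)⁻¹ - 1) * hB (Fin n) σ w x) • p + ((a - 1) * hB (Fin n) σ p x) • w := by
      intro x
      show ((GLtv ((a - 1) • w) (fun i => σ (p i)) hd1 * GLtv (((σ a)⁻¹ - 1) • p) (fun i => σ (w i)) hd2 : GL (Fin n) F) :
        Matrix (Fin n) (Fin n) F).mulVec x = _
      rw [Units.val_mul, ← Matrix.mulVec_mulVec, GLtv_mulVec, GLtv_mulVec, hdot, hdot, map_add, map_smul, map_smul, hpp]
      simp only [smul_eq_mul, mul_zero, add_zero, smul_smul]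
      rw [mul_comm (hB (Fin n) σ w x), mul_comm (hB (Fin n) σ p x)]
    have hgU : g ∈ GU n F q := by
      rw [mem_GU_iff hσ]
      intro x y
      rw [hg, hg]
      have e1 : hB (Fin n) σ x w = σ (hB (Fin n) σ w x) := (hS _ _).symm
      have e2 : hB (Fin n) σ x p = σ (hB (Fin n) σ p x) := (hS _ _).symm
      simp only [map_add, LinearMap.add_apply, map_smul, LinearMap.map_smulₛₗ, LinearMap.smul_apply, smul_eq_mul,
        map_mul, map_sub, map_one, map_inv₀, hσ2, hww, hpp, hpw, hwp, e1, e2]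
      field_simp
      ring
    refine ⟨⟨g, hgU⟩, ?_, ?_⟩
    · rw [Subgroup.mem_subgroupOf]
      apply stab_of_maps
      intro x hx
      show (g : Matrix (Fin n) (Fin n) F).mulVec x ∈ W
      rw [hg, hW w hw x hx, mul_zero, zero_smul, add_zero]
      exact W.add_mem hx (W.smul_mem _ hw)
    · apply Units.ext
      rw [detGU_apply]
      show (g : Matrix (Fin n) (Fin n) F).det = u
      show ((GLtv ((a - 1) • w) (fun i => σ (p i)) hd1 * GLtv (((σ a)⁻¹ - 1) • p) (fun i => σ (w i)) hd2 : GL (Fin n) F) :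
        Matrix (Fin n) (Fin n) F).det = u
      rw [Units.val_mul, Matrix.det_mul, GLtv_coe, GLtv_coe, det_one_add_vecMulVec', det_one_add_vecMulVec', hdot, hdot,
        map_smul, map_smul, hpw, hwp, smul_eq_mul, smul_eq_mul, mul_one, mul_one, add_sub_cancel, add_sub_cancel]
      rw [← div_eq_mul_inv, div_eq_iff hsa0]
      exact ha

theorem card_stab_SU_mul (hF : Fintype.card F = q ^ 2) (n : ℕ) (hn : 1 ≤ n) (W : Submodule F (Fin n → F))
    (hW : ∀ u ∈ W, ∀ v ∈ W, Cfsg.hermForm n F q u v = 0) :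
    (q + 1) * Nat.card ↥((Cfsg.stabilizing (Cfsg.slToMat n F) (W : Set (Fin n → F))).subgroupOf (Cfsg.SU n F q)) =
    Nat.card ↥((Cfsg.stabilizing (Cfsg.glToMat (Fin n) F) (W : Set (Fin n → F))).subgroupOf (Cfsg.GU n F q)) := by
  obtain ⟨σ, hσ, hσ2, hσ1⟩ := exists_frob hF
  have hWB : ∀ x ∈ W, ∀ y ∈ W, hB (Fin n) σ x y = 0 := by
    intro x hx y hy
    rw [← hermForm_eq hσ]
    exact hW y hy x hx
  let S := (Cfsg.stabilizing (Cfsg.glToMat (Fin n) F) (W : Set (Fin n → F))).subgroupOf (Cfsg.GU n F q)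
  let φ : S →* Fˣ := (detGU n F q).comp S.subtype
  have hr : Nat.card φ.range = q + 1 := by
    rw [← card_norm_eq hF hσ (map_one σ) one_ne_zero]
    have hmem : ∀ u : Fˣ, u ∈ φ.range ↔ σ (u : F) * u = 1 := by
      intro u
      constructor
      · rintro ⟨g, rfl⟩
        exact (detGU_range hσ hn _).mp ⟨g.1, rfl⟩
      · intro hu
        obtain ⟨g, hg, hgu⟩ := exists_stab_det hF hn hσ hσ1 hσ2 W hWB u hu
        exact ⟨⟨g, hg⟩, hgu⟩
    refine Nat.card_congr ⟨fun u => ⟨(u.1 : F), (hmem u.1).mp u.2⟩,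
      fun x => ⟨unitOfNorm x.2, (hmem _).mpr x.2⟩, fun u => ?_, fun x => rfl⟩
    apply Subtype.ext
    apply Units.ext
    rfl
  have hk : Nat.card φ.ker = Nat.card ↥((Cfsg.stabilizing (Cfsg.slToMat n F) (W : Set (Fin n → F))).subgroupOf (Cfsg.SU n F q)) := by
    symm
    refine Nat.card_congr (Equiv.ofBijective (fun g =>
      (⟨⟨⟨Matrix.SpecialLinearGroup.toGL ((g : SU n F q) : Matrix.SpecialLinearGroup (Fin n) F), g.1.2⟩, g.2⟩, ?_⟩ :
        φ.ker)) ⟨?_, ?_⟩)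
    · rw [MonoidHom.mem_ker]
      apply Units.ext
      exact ((g : SU n F q) : Matrix.SpecialLinearGroup (Fin n) F).2
    · intro g h hgh
      apply Subtype.ext
      apply Subtype.ext
      apply SL_ext
      have h1 := congrArg (fun x : φ.ker =>
        (((x : S) : GU n F q) : Matrix.GeneralLinearGroup (Fin n) F).1) hgh
      exact h1
    · rintro ⟨⟨⟨g, hg⟩, hgS⟩, hgk⟩
      rw [MonoidHom.mem_ker] at hgk
      have h1 : (g : Matrix (Fin n) (Fin n) F).det = 1 := congrArg Units.val hgk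
      refine ⟨⟨⟨⟨g.1, h1⟩, hg⟩, hgS⟩, ?_⟩
      apply Subtype.ext
      apply Subtype.ext
      apply Subtype.ext
      apply Units.ext
      rfl
  rw [← hr, ← hk, ← φ.ker.card_mul_index, Subgroup.index_ker, mul_comm]

end

end Cfsg.Agent.H5
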