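import Mathlib
import Cfsg.Agent.H5.UnitStab
import Cfsg.Agent.H5.AltBasis
set_option autoImplicit false

/-! Isometry groups of sesquilinear forms and stabilisers of nondegenerate subspaces. -/

namespace Cfsg.Agent.H5

open Matrix Cfsg Module

section

variable {F V V' : Type*} [Field F] [AddCommGroup V] [Module F V] [AddCommGroup V'] [Module F V']
  {σ : F →+* F}

/-- isometry group -/
def IsoG (B : V →ₛₗ[σ] V →ₗ[F] F) : Subgroup (V ≃ₗ[F] V) where
  carrier := {g | ∀ x y, B (g x) (g y) = B x y}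
  mul_mem' := fun {a b} ha hb x y => by
    rw [LinearEquiv.mul_apply, LinearEquiv.mul_apply, ha, hb]
  one_mem' := fun x y => rfl
  inv_mem' := fun {a} ha x y => by
    have h : ∀ x, a (a⁻¹ x) = x := fun x => by
      rw [← LinearEquiv.mul_apply, mul_inv_cancel]; rfl
    rw [← ha, h, h]

theorem mem_IsoG {B : V →ₛₗ[σ] V →ₗ[F] F} {g : V ≃ₗ[F] V} : g ∈ IsoG B ↔ ∀ x y, B (g x) (g y) = B x y := Iff.rfl

/-- transport along an isometry -/
def isoCongr {B : V →ₛₗ[σ] V →ₗ[F] F} {B' : V' →ₛₗ[σ] V' →ₗ[F] F} (e : V ≃ₗ[F] V')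
    (h : ∀ x y, B' (e x) (e y) = B x y) : IsoG B ≃* IsoG B' where
  toFun g := ⟨(e.symm.trans g.1).trans e, fun x y => by
    show B' (e (g.1 (e.symm x))) (e (g.1 (e.symm y))) = _
    rw [h, g.2, ← h, e.apply_symm_apply, e.apply_symm_apply]⟩
  invFun g := ⟨(e.trans g.1).trans e.symm, fun x y => by
    show B (e.symm (g.1 (e x))) (e.symm (g.1 (e y))) = _
    rw [← h, e.apply_symm_apply, e.apply_symm_apply, g.2, h]⟩
  left_inv g := by
    apply Subtype.ext
    apply LinearEquiv.ext
    intro x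
    show e.symm (e (g.1 (e.symm (e x)))) = g.1 x
    rw [e.symm_apply_apply, e.symm_apply_apply]
  right_inv g := by
    apply Subtype.ext
    apply LinearEquiv.ext
    intro x
    show e (e.symm (g.1 (e (e.symm x)))) = g.1 x
    rw [e.apply_symm_apply, e.apply_symm_apply]
  map_mul' g g' := by
    apply Subtype.ext
    apply LinearEquiv.ext
    intro x
    show e (g.1 (g'.1 (e.symm x))) = e (g.1 (e.symm (e (g'.1 (e.symm x)))))
    rw [e.symm_apply_apply]

/-- restriction of the form -/
noncomputable def resB (B : V →ₛₗ[σ] V →ₗ[F] F) (W : Submodule F V) : W →ₛₗ[σ] W →ₗ[F] F :=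
  B.domRestrict₁₂ W W

theorem resB_apply (B : V →ₛₗ[σ] V →ₗ[F] F) (W : Submodule F V) (x y : W) : resB B W x y = B (x : V) (y : V) := rfl

/-- orthogonal complement (right) -/
noncomputable def rperp (B : V →ₛₗ[σ] V →ₗ[F] F) (W : Submodule F V) : Submodule F V where
  carrier := {y | ∀ x ∈ W, B x y = 0}
  add_mem' := fun {a b} ha hb x hx => by rw [map_add, ha x hx, hb x hx, add_zero]
  zero_mem' := fun x _ => map_zero _
  smul_mem' := fun c a ha x hx => by rw [map_smul, ha x hx, smul_zero]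

theorem mem_rperp {B : V →ₛₗ[σ] V →ₗ[F] F} {W : Submodule F V} {y : V} : y ∈ rperp B W ↔ ∀ x ∈ W, B x y = 0 := Iff.rfl

/-- the stabiliser of a subspace in the isometry group -/
def stabIso (B : V →ₛₗ[σ] V →ₗ[F] F) (W : Submodule F V) : Subgroup (IsoG B) where
  carrier := {g | ∀ v, v ∈ W ↔ g.1 v ∈ W}
  mul_mem' := fun {a b} ha hb v => (hb v).trans (ha _)
  one_mem' := fun v => Iff.rfl
  inv_mem' := fun {a} ha v => by
    have h : ∀ x, a.1 ((a⁻¹ : IsoG B).1 x) = x := fun x => by
      have h1 : a.1 * (a⁻¹ : IsoG B).1 = 1 := congrArg Subtype.val (mul_inv_cancel a)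
      rw [← LinearEquiv.mul_apply, h1]; rfl
    have h2 := ha ((a⁻¹ : IsoG B).1 v)
    rw [h] at h2
    exact h2.symm

/-- gluing two linear automorphisms -/
noncomputable def glueE {W W' : Submodule F V} (hc : IsCompl W W') (f : W ≃ₗ[F] W) (g : W' ≃ₗ[F] W') : V ≃ₗ[F] V :=
  ((Submodule.prodEquivOfIsCompl W W' hc).symm.trans
    (LinearEquiv.prodCongr f g)).trans (Submodule.prodEquivOfIsCompl W W' hc)

theorem glueE_apply {W W' : Submodule F V} (hc : IsCompl W W') (f : W ≃ₗ[F] W) (g : W' ≃ₗ[F] W') (x1 : W)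
    (x2 : W') : glueE hc f g ((x1 : V) + x2) = (f x1 : V) + (g x2 : V) := by
  have h : ((x1 : V) + x2) = (Submodule.prodEquivOfIsCompl W W' hc) (x1, x2) := by
    rw [Submodule.coe_prodEquivOfIsCompl']
  have h2 : (Submodule.prodEquivOfIsCompl W W' hc).symm ((x1 : V) + x2) = (x1, x2) := by
    rw [LinearEquiv.symm_apply_eq]; exact h
  show (Submodule.prodEquivOfIsCompl W W' hc) ((LinearEquiv.prodCongr f g)
    ((Submodule.prodEquivOfIsCompl W W' hc).symm ((x1 : V) + x2))) = _
  rw [h2, LinearEquiv.prodCongr_apply, Submodule.coe_prodEquivOfIsCompl']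

theorem compl_cases {W W' : Submodule F V} (hc : IsCompl W W') (v : V) : ∃ (x1 : W) (x2 : W'), v = (x1 : V) + x2 := by
  obtain ⟨⟨x1, x2⟩, rfl⟩ := (Submodule.prodEquivOfIsCompl W W' hc).surjective v
  exact ⟨x1, x2, by rw [Submodule.coe_prodEquivOfIsCompl']⟩

theorem glueE_one {W W' : Submodule F V} (hc : IsCompl W W') :
    glueE hc (1 : W ≃ₗ[F] W) (1 : W' ≃ₗ[F] W') = 1 := by
  apply LinearEquiv.ext
  intro x
  obtain ⟨x1, x2, rfl⟩ := compl_cases hc x
  rw [glueE_apply]
  rfl

theorem glueE_mul {W W' : Submodule F V} (hc : IsCompl W W') (f f' : W ≃ₗ[F] W) (g g' : W' ≃ₗ[F] W') :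
    glueE hc (f * f') (g * g') = glueE hc f g * glueE hc f' g' := by
  apply LinearEquiv.ext
  intro x
  obtain ⟨x1, x2, rfl⟩ := compl_cases hc x
  rw [LinearEquiv.mul_apply, glueE_apply, glueE_apply, glueE_apply, LinearEquiv.mul_apply, LinearEquiv.mul_apply]

/-- gluing two isometries -/
noncomputable def glue {B : V →ₛₗ[σ] V →ₗ[F] F} {W : Submodule F V} (hc : IsCompl W (rperp B W))
    (hr : ∀ x y, B x y = 0 → B y x = 0) : IsoG (resB B W) × IsoG (resB B (rperp B W)) →* IsoG B where
  toFun p := ⟨glueE hc p.1.1 p.2.1, by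
      intro x y
      obtain ⟨x1, x2, rfl⟩ := compl_cases hc x
      obtain ⟨y1, y2, rfl⟩ := compl_cases hc y
      rw [glueE_apply, glueE_apply]
      have h1 : ∀ (a : W) (b : rperp B W), B (a : V) (b : V) = 0 := fun a b => b.2 a.1 a.2
      have h2 : ∀ (a : W) (b : rperp B W), B (b : V) (a : V) = 0 := fun a b => hr _ _ (h1 a b)
      have h3 : B (p.1.1 x1 : V) (p.1.1 y1 : V) = B (x1 : V) (y1 : V) := p.1.2 x1 y1
      have h4 : B (p.2.1 x2 : V) (p.2.1 y2 : V) = B (x2 : V) (y2 : V) := p.2.2 x2 y2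
      rw [FormData.bl_add, FormData.br_add, FormData.br_add, FormData.bl_add, FormData.br_add, FormData.br_add,
        h1, h2, h1, h2, h3, h4]⟩
  map_one' := Subtype.ext (glueE_one hc)
  map_mul' p p' := Subtype.ext (glueE_mul hc p.1.1 p'.1.1 p.2.1 p'.2.1)

theorem glue_apply {B : V →ₛₗ[σ] V →ₗ[F] F} {W : Submodule F V} (hc : IsCompl W (rperp B W))
    (hr : ∀ x y, B x y = 0 → B y x = 0) (p : IsoG (resB B W) × IsoG (resB B (rperp B W))) (x1 : W)
    (x2 : rperp B W) : (glue hc hr p).1 ((x1 : V) + x2) = (p.1.1 x1 : V) + (p.2.1 x2 : V) :=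
  glueE_apply hc _ _ _ _

theorem glue_injective {B : V →ₛₗ[σ] V →ₗ[F] F} {W : Submodule F V} (hc : IsCompl W (rperp B W))
    (hr : ∀ x y, B x y = 0 → B y x = 0) : Function.Injective (glue hc hr) := by
  intro p p' h
  have h1 : ∀ (x1 : W) (x2 : rperp B W), (p.1.1 x1 : V) + (p.2.1 x2 : V) = (p'.1.1 x1 : V) + (p'.2.1 x2 : V) := by
    intro x1 x2
    rw [← glue_apply hc hr p, ← glue_apply hc hr p', h]
  apply Prod.ext
  · apply Subtype.ext
    apply LinearEquiv.ext
    intro x
    apply Subtype.ext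
    have := h1 x 0
    rw [map_zero, map_zero, Submodule.coe_zero, add_zero, add_zero] at this
    exact this
  · apply Subtype.ext
    apply LinearEquiv.ext
    intro x
    apply Subtype.ext
    have := h1 0 x
    rw [map_zero, map_zero, Submodule.coe_zero, zero_add, zero_add] at this
    exact this

/-- restriction of a stabilising isometry -/
noncomputable def resE (W : Submodule F V) (g : V ≃ₗ[F] V) (h : ∀ v, v ∈ W ↔ g v ∈ W) : W ≃ₗ[F] W where
  toFun x := ⟨g x, (h _).mp x.2⟩
  map_add' x y := Subtype.ext (map_add g _ _)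
  map_smul' a x := Subtype.ext (map_smul g _ _)
  invFun x := ⟨g.symm x, (h _).mpr (by rw [g.apply_symm_apply]; exact x.2)⟩
  left_inv x := Subtype.ext (g.symm_apply_apply _)
  right_inv x := Subtype.ext (g.apply_symm_apply _)

theorem glue_range {B : V →ₛₗ[σ] V →ₗ[F] F} {W : Submodule F V} (hc : IsCompl W (rperp B W))
    (hr : ∀ x y, B x y = 0 → B y x = 0) : (glue hc hr).range = stabIso B W := by
  ext g
  constructor
  · rintro ⟨p, rfl⟩
    intro v
    obtain ⟨x1, x2, rfl⟩ := compl_cases hc v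
    rw [glue_apply]
    constructor
    · intro hv
      have hx2 : (x2 : V) ∈ W := by
        have := W.sub_mem hv x1.2
        simpa using this
      have h0 : (x2 : V) = 0 := by
        have : (x2 : V) ∈ W ⊓ rperp B W := ⟨hx2, x2.2⟩
        rw [hc.inf_eq_bot] at this
        exact (Submodule.mem_bot F).mp this
      have h0' : x2 = 0 := Subtype.ext h0
      rw [h0', map_zero, Submodule.coe_zero, add_zero]
      exact (p.1.1 x1).2
    · intro hv
      have hx2 : (p.2.1 x2 : V) ∈ W := by
        have := W.sub_mem hv (p.1.1 x1).2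
        simpa using this
      have h0 : (p.2.1 x2 : V) = 0 := by
        have : (p.2.1 x2 : V) ∈ W ⊓ rperp B W := ⟨hx2, (p.2.1 x2).2⟩
        rw [hc.inf_eq_bot] at this
        exact (Submodule.mem_bot F).mp this
      have h0' : x2 = 0 := by
        apply p.2.1.injective
        rw [map_zero]
        exact Subtype.ext h0
      rw [h0', Submodule.coe_zero, add_zero]
      exact x1.2
  · intro hg
    have hg' : ∀ v, v ∈ rperp B W ↔ g.1 v ∈ rperp B W := by
      intro v
      constructor
      · intro hv x hx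
        have h1 : x = g.1 (g.1.symm x) := (g.1.apply_symm_apply x).symm
        rw [h1, g.2]
        apply hv
        exact (hg _).mpr (by rw [← h1]; exact hx)
      · intro hv x hx
        rw [← g.2]
        exact hv _ ((hg x).mp hx)
    refine ⟨(⟨resE W g.1 hg, fun x y => g.2 _ _⟩, ⟨resE (rperp B W) g.1 hg', fun x y => g.2 _ _⟩), ?_⟩
    apply Subtype.ext
    apply LinearEquiv.ext
    intro v
    obtain ⟨x1, x2, rfl⟩ := compl_cases hc v
    rw [glue_apply]
    exact (map_add g.1 _ _).symm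

/-- stabiliser of a nondegenerate subspace -/
noncomputable def stabIsoEquiv {B : V →ₛₗ[σ] V →ₗ[F] F} {W : Submodule F V} (hc : IsCompl W (rperp B W))
    (hr : ∀ x y, B x y = 0 → B y x = 0) :
    stabIso B W ≃* IsoG (resB B W) × IsoG (resB B (rperp B W)) :=
  (MulEquiv.subgroupCongr (glue_range hc hr).symm).trans (MonoidHom.ofInjective (glue_injective hc hr)).symm

end

section compl

variable {F V : Type*} [Field F] [AddCommGroup V] [Module F V] [FiniteDimensional F V]
  {σ : F →+* F} {B : V →ₛₗ[σ] V →ₗ[F] F} {N : V → F} {s τ ν : F → F}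

theorem rperp_isCompl (h : FormData σ B N s τ ν) (hσ : ∀ a, σ (σ a) = a) {W : Submodule F V}
    (hW : ∀ x ∈ W, (∀ y ∈ W, B x y = 0) → x = 0) : IsCompl W (rperp B W) := by
  have hinf : W ⊓ rperp B W = ⊥ := by
    rw [eq_bot_iff]
    rintro x ⟨hx, hx'⟩
    rw [Submodule.mem_bot]
    apply hW x hx
    intro y hy
    rw [h.symm, hx' y hy, h.s_zero]
  have hfr : finrank F (rperp B W) + finrank F W = finrank F V := by
    let b := Module.finBasis F W
    have hli : LinearIndependent F (fun i => (b i : V)) := b.linearIndependent.map' W.subtype W.ker_subtype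
    have h1 := finrank_perpF h hσ hli
    rw [Fintype.card_fin] at h1
    have h2 : perpF B (fun i => (b i : V)) = rperp B W := by
      ext x
      rw [mem_perpF, mem_rperp]
      constructor
      · intro hx w hw
        have h3 : (⟨w, hw⟩ : W) = ∑ i, b.repr ⟨w, hw⟩ i • b i := (b.sum_repr _).symm
        have h4 : w = ∑ i, b.repr ⟨w, hw⟩ i • (b i : V) := by
          have := congrArg W.subtype h3
          rw [map_sum] at this
          simpa only [map_smul, Submodule.subtype_apply] using this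
        rw [h4, map_sum, LinearMap.sum_apply]
        apply Finset.sum_eq_zero
        intro i _
        rw [LinearMap.map_smulₛₗ, LinearMap.smul_apply, hx i, smul_zero]
      · intro hx i
        exact hx _ (b i).2
    rw [← h2]; exact h1
  refine ⟨disjoint_iff.mpr hinf, codisjoint_iff.mpr ?_⟩
  apply Submodule.eq_top_of_finrank_eq
  have h3 := Submodule.finrank_sup_add_finrank_inf_eq W (rperp B W)
  rw [hinf, finrank_bot] at h3
  omega

theorem rperp_nd (h : FormData σ B N s τ ν) {W : Submodule F V} (hc : IsCompl W (rperp B W)) :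
    ∀ x ∈ rperp B W, (∀ y ∈ rperp B W, B x y = 0) → x = 0 := by
  intro x hx hx'
  apply h.nd
  intro y
  have hy : y ∈ W ⊔ rperp B W := by rw [hc.sup_eq_top]; exact Submodule.mem_top
  obtain ⟨w, hw, z, hz, rfl⟩ := Submodule.mem_sup.mp hy
  rw [map_add, hx' z hz, h.symm, hx w hw, h.s_zero, add_zero]

end compl

end Cfsg.Agent.H5
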