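import Mathlib
import Cfsg.Agent.H5.IsoG
set_option autoImplicit false

/-! Concrete isometry groups. -/

namespace Cfsg.Agent.H5

open Matrix Cfsg Module

section sp

variable {F : Type*} [Field F] {m : ℕ}

noncomputable def spIso (m : ℕ) (F : Type*) [Field F] : Matrix.symplecticGroup (Fin m) F ≃* IsoG (sympB m F) :=
  MulEquiv.ofBijective ((spEhom m F).codRestrict (IsoG (sympB m F)) (fun g x y => mem_Sp_iff.mp g.2 x y)) (by
    constructor
    · intro g h hgh
      apply Subtype.ext
      apply Matrix.ext_of_mulVec_single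
      intro i
      exact congrArg (fun e : IsoG (sympB m F) => e.1 (Pi.single i 1)) hgh
    · rintro ⟨e, he⟩
      obtain ⟨g, hg⟩ := spEhom_surj e he
      exact ⟨g, Subtype.ext hg⟩)

theorem spIso_apply (g : Matrix.symplecticGroup (Fin m) F) (x : Fin m ⊕ Fin m → F) :
    (spIso m F g).1 x = (g : Matrix (Fin m ⊕ Fin m) (Fin m ⊕ Fin m) F).mulVec x := rfl

noncomputable def spStabIso (W : Submodule F (Fin m ⊕ Fin m → F)) :
    stabilizing (spToMat m F) (W : Set (Fin m ⊕ Fin m → F)) ≃* stabIso (sympB m F) W where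
  toFun g := ⟨spIso m F g.1, g.2⟩
  invFun g := ⟨(spIso m F).symm g.1, by
    intro v
    have h := g.2 v
    have h1 : ((spIso m F) ((spIso m F).symm g.1)).1 v = g.1.1 v := by rw [MulEquiv.apply_symm_apply]
    rw [← h1] at h
    exact h⟩
  left_inv g := Subtype.ext ((spIso m F).symm_apply_apply _)
  right_inv g := Subtype.ext ((spIso m F).apply_symm_apply _)
  map_mul' g h := Subtype.ext (map_mul (spIso m F) _ _)

theorem exists_symp_iso {V : Type*} [AddCommGroup V] [Module F V] [FiniteDimensional F V]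
    {B : LinearMap.BilinForm F V} (hA : B.IsAlt) (hN : ∀ x, (∀ y, B x y = 0) → x = 0) {k : ℕ}
    (hV : finrank F V = 2 * k) :
    ∃ e : V ≃ₗ[F] (Fin k ⊕ Fin k → F), ∀ x y, sympB k F (e x) (e y) = B x y := by
  obtain ⟨m, l, b, hb1, hb2, hb3, hb4⟩ := alt_basis _ B hA rfl
  have hl : l = 0 := by
    by_contra h0
    have h1 := hN (b (Sum.inr ⟨0, by omega⟩)) (fun v => hb4 _ v)
    exact b.ne_zero _ h1
  subst hl
  have hc : finrank F V = m + m := by
    rw [Module.finrank_eq_card_basis b]; simp
  have hm : m = k := by omega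
  subst hm
  let c : Module.Basis (Fin m ⊕ Fin m) F V := (b.reindex (Equiv.sumEmpty (Fin m ⊕ Fin m) (Fin 0))).reindex (Equiv.sumComm _ _)
  have hc1 : ∀ i, c (Sum.inl i) = b (Sum.inl (Sum.inr i)) := fun i => by
    simp only [c, Module.Basis.reindex_apply]
    rfl
  have hc2 : ∀ i, c (Sum.inr i) = b (Sum.inl (Sum.inl i)) := fun i => by
    simp only [c, Module.Basis.reindex_apply]
    rfl
  have hec : ∀ i, c.equivFun (c i) = Pi.single i 1 := fun i => by
    funext j
    rw [Module.Basis.equivFun_self, Pi.single_apply]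
    by_cases h : i = j
    · rw [if_pos h, if_pos h.symm]
    · rw [if_neg h, if_neg (fun h' => h h'.symm)]
  refine ⟨c.equivFun, ?_⟩
  have hcomp : (sympB m F).comp (c.equivFun : V →ₗ[F] (Fin m ⊕ Fin m → F)) (c.equivFun : V →ₗ[F] (Fin m ⊕ Fin m → F)) = B := by
    apply LinearMap.BilinForm.ext_basis c
    intro i j
    rw [LinearMap.BilinForm.comp_apply, LinearEquiv.coe_coe, hec, hec, sympB_single]
    have hneg : ∀ x y, B x y = - B y x := fun x y => (LinearMap.BilinForm.IsAlt.neg_eq hA y x).symm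
    rcases i with i | i <;> rcases j with j | j
    · rw [hc1, hc1, hb3]
      simp [Matrix.J]
    · rw [hc1, hc2, hneg, hb1]
      simp [Matrix.J, Matrix.one_apply, eq_comm]
    · rw [hc2, hc1, hb1]
      simp [Matrix.J, Matrix.one_apply]
    · rw [hc2, hc2, hb2]
      simp [Matrix.J]
  intro x y
  exact congrArg (fun X : LinearMap.BilinForm F V => X x y) hcomp

end sp

section u

variable {F : Type*} [Field F] {n q : ℕ} {σ : F →+* F}

noncomputable def guIso (hσ : ∀ x, σ x = x ^ q) : GU n F q ≃* IsoG (hB (Fin n) σ) :=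
  MulEquiv.ofBijective ((glEhom.comp (GU n F q).subtype).codRestrict (IsoG (hB (Fin n) σ))
    (fun g x y => (mem_GU_iff hσ).mp g.2 x y)) (by
    constructor
    · intro g h hgh
      apply Subtype.ext
      apply gl_ext_mulVec
      intro x
      exact congrArg (fun e : IsoG (hB (Fin n) σ) => e.1 x) hgh
    · rintro ⟨e, he⟩
      refine ⟨⟨mkGL e, ?_⟩, ?_⟩
      · rw [mem_GU_iff hσ]
        intro u v
        rw [mkGL_mulVec, mkGL_mulVec]
        exact he u v
      · apply Subtype.ext
        apply LinearEquiv.ext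
        intro x
        exact mkGL_mulVec e x)

theorem guIso_apply (hσ : ∀ x, σ x = x ^ q) (g : GU n F q) (x : Fin n → F) :
    (guIso hσ g).1 x = ((g : GL (Fin n) F) : Matrix (Fin n) (Fin n) F).mulVec x := rfl

noncomputable def guStabIso (hσ : ∀ x, σ x = x ^ q) (W : Submodule F (Fin n → F)) :
    (stabilizing (glToMat (Fin n) F) (W : Set (Fin n → F))).subgroupOf (GU n F q) ≃* stabIso (hB (Fin n) σ) W where
  toFun g := ⟨guIso hσ g.1, g.2⟩
  invFun g := ⟨(guIso hσ).symm g.1, by
    rw [Subgroup.mem_subgroupOf]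
    intro v
    have h := g.2 v
    have h1 : ((guIso hσ) ((guIso hσ).symm g.1)).1 v = g.1.1 v := by rw [MulEquiv.apply_symm_apply]
    rw [← h1] at h
    exact h⟩
  left_inv g := Subtype.ext ((guIso hσ).symm_apply_apply _)
  right_inv g := Subtype.ext ((guIso hσ).apply_symm_apply _)
  map_mul' g h := Subtype.ext (map_mul (guIso hσ) _ _)

theorem exists_herm_iso [Finite F] {V : Type*} [AddCommGroup V] [Module F V] [FiniteDimensional F V]
    {B : V →ₛₗ[σ] V →ₗ[F] F} (hσ1 : σ ≠ RingHom.id F) (hσ2 : ∀ a, σ (σ a) = a) (hS : ∀ x y, σ (B x y) = B y x)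
    {k : ℕ} (W : Submodule F V) (hWk : finrank F W = k) (hN : ∀ x ∈ W, (∀ y ∈ W, B x y = 0) → x = 0) :
    ∃ e : W ≃ₗ[F] (Fin k → F), ∀ x y, hB (Fin k) σ (e x) (e y) = resB B W x y := by
  obtain ⟨v, hvW, hv⟩ := exists_orthonormal hσ1 hσ2 hS k W hWk hN
  have hli : LinearIndependent F (fun i => (⟨v i, hvW i⟩ : W)) := by
    rw [Fintype.linearIndependent_iff]
    intro g hg i
    have h1 : (∑ j, g j • v j) = 0 := by
      have := congrArg W.subtype hg
      rw [map_sum] at this
      simpa only [map_smul, Submodule.subtype_apply, map_zero] using this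
    have h2 : B (v i) (∑ j, g j • v j) = 0 := by rw [h1, map_zero]
    rw [map_sum, Finset.sum_eq_single i] at h2
    · rw [map_smul, hv, if_pos rfl, smul_eq_mul, mul_one] at h2
      exact h2
    · intro j _ hj
      rw [map_smul, hv, if_neg (Ne.symm hj), smul_zero]
    · intro h; exact absurd (Finset.mem_univ i) h
  let b : Module.Basis (Fin k) F W := basisOfLinearIndependentOfCardEqFinrank' _ hli (by rw [Fintype.card_fin, hWk])
  have hb : ∀ i, (b i : V) = v i := by
    intro i
    simp only [b]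
    rw [coe_basisOfLinearIndependentOfCardEqFinrank']
  refine ⟨b.equivFun, ?_⟩
  intro x y
  have hx : (x : V) = ∑ i, b.equivFun x i • v i := by
    conv_lhs => rw [← b.sum_equivFun x]
    rw [Submodule.coe_sum]
    apply Finset.sum_congr rfl
    intro i _
    rw [Submodule.coe_smul, hb]
  have hy : (y : V) = ∑ i, b.equivFun y i • v i := by
    conv_lhs => rw [← b.sum_equivFun y]
    rw [Submodule.coe_sum]
    apply Finset.sum_congr rfl
    intro i _
    rw [Submodule.coe_smul, hb]
  rw [resB_apply, hx, hy, FormData.B_sum, hB_apply]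
  apply Finset.sum_congr rfl
  intro i _
  rw [Finset.sum_eq_single i]
  · rw [hv, if_pos rfl, mul_one]
  · intro j _ hj
    rw [hv, if_neg (Ne.symm hj), mul_zero]
  · intro h; exact absurd (Finset.mem_univ i) h

end u

end Cfsg.Agent.H5
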