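import Mathlib
import Cfsg.Agent.H5.OrthForms
set_option autoImplicit false

/-! Maximal totally singular subspaces of a hyperbolic quadric. -/

namespace Cfsg.Agent.H5

open Matrix Cfsg Module

section ms

variable {F V : Type*} [Field F] [AddCommGroup V] [Module F V] [FiniteDimensional F V]
  {Q : QuadraticForm F V}

/-- totally singular subspace -/
def TS (Q : QuadraticForm F V) (U : Submodule F V) : Prop := ∀ x ∈ U, Q x = 0

omit [FiniteDimensional F V] in
theorem TS.pb {U : Submodule F V} (h : TS Q U) {x y : V} (hx : x ∈ U) (hy : y ∈ U) : pB Q x y = 0 := by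
  have h1 := h _ (U.add_mem hx hy)
  rw [q_add, h x hx, h y hy] at h1
  linear_combination h1

omit [FiniteDimensional F V] in
theorem TS.le_oc {U : Submodule F V} (h : TS Q U) : U ≤ oc Q U := fun _ hx _ hy => h.pb hy hx

omit [FiniteDimensional F V] in
theorem TS.mono {U W : Submodule F V} (h : TS Q U) (hW : W ≤ U) : TS Q W := fun x hx => h x (hW hx)

variable {m : ℕ} (hnd : ND Q) (hV : finrank F V = 2 * m)

include hnd hV in
theorem TS.finrank_le {U : Submodule F V} (h : TS Q U) : finrank F U ≤ m := by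
  have h1 := finrank_oc hnd U
  have h2 := Submodule.finrank_mono h.le_oc
  omega

include hnd hV in
theorem TS.oc_eq {U : Submodule F V} (h : TS Q U) (hU : finrank F U = m) : oc Q U = U := by
  have h1 := finrank_oc hnd U
  exact (Submodule.eq_of_le_of_finrank_eq h.le_oc (by omega)).symm

omit [FiniteDimensional F V] in
theorem oc_sup (U W : Submodule F V) : oc Q (U ⊔ W) = oc Q U ⊓ oc Q W := by
  ext x
  rw [Submodule.mem_inf, mem_oc, mem_oc, mem_oc]
  constructor
  · intro h
    exact ⟨fun n hn => h n (Submodule.mem_sup_left hn), fun n hn => h n (Submodule.mem_sup_right hn)⟩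
  · rintro ⟨h1, h2⟩ n hn
    obtain ⟨a, ha, b, hb, rfl⟩ := Submodule.mem_sup.mp hn
    rw [pl_add, h1 a ha, h2 b hb, add_zero]

omit [FiniteDimensional F V] in
theorem oc_anti {U W : Submodule F V} (h : U ≤ W) : oc Q W ≤ oc Q U := fun _ hx n hn => hx n (h hn)

include hnd hV in
theorem TS.inf_oc {U : Submodule F V} (h : TS Q U) (hU : finrank F U = m) (Y : Submodule F V) :
    finrank F (U ⊓ oc Q Y : Submodule F V) + finrank F Y = m + finrank F (U ⊓ Y : Submodule F V) := by
  have h1 : U ⊓ oc Q Y = oc Q (U ⊔ Y) := by rw [oc_sup, h.oc_eq hnd hV hU]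
  have h2 := finrank_oc hnd (U ⊔ Y)
  have h3 := Submodule.finrank_sup_add_finrank_inf_eq U Y
  rw [h1]
  omega

omit [FiniteDimensional F V] in
theorem TS.sup_of {U Y : Submodule F V} (hU : TS Q U) (hY : TS Q Y) (h : U ≤ oc Q Y) : TS Q (U ⊔ Y) := by
  intro x hx
  obtain ⟨a, ha, b, hb, rfl⟩ := Submodule.mem_sup.mp hx
  rw [q_add, hU a ha, hY b hb, pB_symm, h ha b hb, add_zero, add_zero]

include hnd hV in
theorem TS.proj {U : Submodule F V} (h : TS Q U) (hU : finrank F U = m) {Y : Submodule F V} (hY : TS Q Y) :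
    TS Q ((U ⊓ oc Q Y) ⊔ Y) ∧ finrank F ((U ⊓ oc Q Y) ⊔ Y : Submodule F V) = m := by
  refine ⟨TS.sup_of (h.mono inf_le_left) hY inf_le_right, ?_⟩
  have h1 := h.inf_oc hnd hV hU Y
  have h2 := Submodule.finrank_sup_add_finrank_inf_eq (U ⊓ oc Q Y) Y
  have h3 : (U ⊓ oc Q Y) ⊓ Y = U ⊓ Y := by
    rw [inf_assoc, inf_eq_right.mpr hY.le_oc]
  rw [h3] at h2
  omega

include hnd hV in
/-- an `(m-1)`-dimensional subspace lies in at most two maximal ones -/
theorem TS.two {Y W X Z : Submodule F V} (hY : finrank F Y + 1 = m)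
    (hW : TS Q W) (hWm : finrank F W = m) (hX : TS Q X) (hXm : finrank F X = m)
    (hZ : TS Q Z) (hZm : finrank F Z = m) (hYW : Y ≤ W) (hYX : Y ≤ X) (hYZ : Y ≤ Z) (hne : W ≠ X) :
    Z = W ∨ Z = X := by
  have hinf : finrank F (W ⊓ X : Submodule F V) + 1 = m := by
    have h1 := Submodule.finrank_mono (le_inf hYW hYX)
    have h2 : finrank F (W ⊓ X : Submodule F V) ≠ m := by
      intro h
      apply hne
      have h3 : W ⊓ X = W := Submodule.eq_of_le_of_finrank_eq inf_le_left (by omega)
      exact Submodule.eq_of_le_of_finrank_eq (inf_eq_left.mp h3) (by omega)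
    have h4 := Submodule.finrank_mono (inf_le_left : W ⊓ X ≤ W)
    omega
  have hsup : W ⊔ X = oc Q Y := by
    apply Submodule.eq_of_le_of_finrank_eq
    · apply sup_le
      · exact hW.le_oc.trans (oc_anti hYW)
      · exact hX.le_oc.trans (oc_anti hYX)
    · have h1 := Submodule.finrank_sup_add_finrank_inf_eq W X
      have h2 := finrank_oc hnd Y
      omega
  have key : ∀ z ∈ Z, z ∈ W ∨ z ∈ X := by
    intro z hz
    have hz' : z ∈ W ⊔ X := by
      rw [hsup]
      exact hZ.le_oc.trans (oc_anti hYZ) hz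
    obtain ⟨w, hw, x, hx, rfl⟩ := Submodule.mem_sup.mp hz'
    have hq := hZ _ hz
    rw [q_add, hW w hw, hX x hx, zero_add, zero_add] at hq
    by_cases hwX : w ∈ X
    · right; exact X.add_mem hwX hx
    by_cases hxW : x ∈ W
    · left; exact W.add_mem hw hxW
    exfalso
    -- X = Y + <x>
    apply hwX
    rw [← hX.oc_eq hnd hV hXm]
    have hYx : Y ⊔ Submodule.span F {x} = X := by
      apply Submodule.eq_of_le_of_finrank_eq
      · exact sup_le hYX (by rw [Submodule.span_singleton_le_iff_mem]; exact hx)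
      · have h0 : x ∉ Y := fun h => hxW (hYW h)
        rw [Submodule.finrank_sup_span_singleton h0]
        omega
    intro y hy
    rw [← hYx] at hy
    obtain ⟨a, ha, b, hb, rfl⟩ := Submodule.mem_sup.mp hy
    obtain ⟨c, rfl⟩ := Submodule.mem_span_singleton.mp hb
    rw [pl_add, pl_smul, hW.pb (hYW ha) hw, pB_symm Q x w, hq, mul_zero, add_zero]
  have hor : Z ≤ W ∨ Z ≤ X := by
    by_contra hcon
    push Not at hcon
    obtain ⟨h1, h2⟩ := hcon
    obtain ⟨a, ha, haW⟩ := SetLike.not_le_iff_exists.mp h1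
    obtain ⟨b, hb, hbX⟩ := SetLike.not_le_iff_exists.mp h2
    have haX := (key a ha).resolve_left haW
    have hbW := (key b hb).resolve_right hbX
    rcases key _ (Z.add_mem ha hb) with h | h
    · exact haW (by simpa using W.sub_mem h hbW)
    · exact hbX (by simpa using X.sub_mem h haX)
  rcases hor with h | h
  · left; exact Submodule.eq_of_le_of_finrank_eq h (by omega)
  · right; exact Submodule.eq_of_le_of_finrank_eq h (by omega)

include hnd hV in
theorem TS.adj_aux {Y W X U : Submodule F V} (hY : finrank F Y + 1 = m)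
    (hW : TS Q W) (hWm : finrank F W = m) (_ : TS Q X) (hXm : finrank F X = m)
    (hU : TS Q U) (hUm : finrank F U = m) (hYW : Y ≤ W) (hYX : Y ≤ X) (hne : W ≠ X)
    (hZ : (U ⊓ oc Q Y) ⊔ Y = W) :
    finrank F (U ⊓ W : Submodule F V) = finrank F (U ⊓ X : Submodule F V) + 1 := by
  have hinf : W ⊓ X = Y := by
    symm
    apply Submodule.eq_of_le_of_finrank_eq (le_inf hYW hYX)
    have h1 := Submodule.finrank_mono (le_inf hYW hYX)
    have h2 : finrank F (W ⊓ X : Submodule F V) ≠ m := by
      intro h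
      apply hne
      have h3 : W ⊓ X = W := Submodule.eq_of_le_of_finrank_eq inf_le_left (by omega)
      exact Submodule.eq_of_le_of_finrank_eq (inf_eq_left.mp h3) (by omega)
    have h4 := Submodule.finrank_mono (inf_le_left : W ⊓ X ≤ W)
    omega
  have h1 : U ⊓ W = U ⊓ oc Q Y := by
    apply le_antisymm
    · exact le_inf inf_le_left (inf_le_right.trans (hW.le_oc.trans (oc_anti hYW)))
    · refine le_inf inf_le_left ?_
      rw [← hZ]
      exact le_sup_left
  have hXo : X ≤ oc Q Y := by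
    have hX' : TS Q X := by assumption
    exact hX'.le_oc.trans (oc_anti hYX)
  have h2 : U ⊓ X = U ⊓ Y := by
    apply le_antisymm
    · refine le_inf inf_le_left ?_
      rw [← hinf]
      refine le_inf ?_ inf_le_right
      have : U ⊓ X ≤ U ⊓ oc Q Y := le_inf inf_le_left (inf_le_right.trans hXo)
      rw [← h1] at this
      exact this.trans inf_le_right
    · exact inf_le_inf_left _ hYX
  have h3 := hU.inf_oc hnd hV hUm Y
  rw [h1, h2]
  omega

include hnd hV in
theorem TS.adj {Y W X U : Submodule F V} (hY : finrank F Y + 1 = m)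
    (hW : TS Q W) (hWm : finrank F W = m) (hX : TS Q X) (hXm : finrank F X = m)
    (hU : TS Q U) (hUm : finrank F U = m) (hYW : Y ≤ W) (hYX : Y ≤ X) (hne : W ≠ X) :
    finrank F (U ⊓ W : Submodule F V) = finrank F (U ⊓ X : Submodule F V) + 1 ∨
    finrank F (U ⊓ X : Submodule F V) = finrank F (U ⊓ W : Submodule F V) + 1 := by
  obtain ⟨h1, h2⟩ := hU.proj hnd hV hUm (hW.mono hYW)
  rcases TS.two hnd hV hY hW hWm hX hXm h1 h2 hYW hYX le_sup_right hne with h | h
  · left; exact TS.adj_aux hnd hV hY hW hWm hX hXm hU hUm hYW hYX hne h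
  · right; exact TS.adj_aux hnd hV hY hX hXm hW hWm hU hUm hYX hYW hne.symm h

include hnd hV in
/-- neighbour of `X` through a singular vector outside -/
theorem TS.neighbor {X : Submodule F V} (hX : TS Q X) (hXm : finrank F X = m) {w : V} (hw : Q w = 0)
    (hwX : w ∉ X) : ∃ X' Y : Submodule F V, TS Q X' ∧ finrank F X' = m ∧ w ∈ X' ∧ finrank F Y + 1 = m ∧
      Y ≤ X ∧ Y ≤ X' ∧ (∀ y ∈ X, pB Q w y = 0 → y ∈ Y) ∧ X ≠ X' := by
  let Y : Submodule F V := X ⊓ LinearMap.ker (pB Q w)
  have hYm : ∀ y, y ∈ Y ↔ y ∈ X ∧ pB Q w y = 0 := fun y => by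
    simp only [Y]; rw [Submodule.mem_inf, LinearMap.mem_ker]
  have hYr : finrank F Y + 1 = m := by
    have h1 : w ∉ oc Q X := by rw [hX.oc_eq hnd hV hXm]; exact hwX
    rw [mem_oc] at h1
    push Not at h1
    obtain ⟨x, hx, hxw⟩ := h1
    have h2 := finrank_inf_ker_of_surj (pB Q w) X (fun c => ⟨(c / pB Q w x) • x, X.smul_mem _ hx, by
      rw [map_smul, smul_eq_mul, div_mul_cancel₀ _ (by rw [pB_symm]; exact hxw)]⟩) (finrank_self F)
    have h3 : finrank F Y + 1 = finrank F X := h2
    omega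
  have hwY : w ∉ Y := fun h => hwX ((hYm w).mp h).1
  refine ⟨Y ⊔ Submodule.span F {w}, Y, ?_, ?_, ?_, hYr, inf_le_left, le_sup_left, ?_, ?_⟩
  · intro x hx
    obtain ⟨a, ha, b, hb, rfl⟩ := Submodule.mem_sup.mp hx
    obtain ⟨c, rfl⟩ := Submodule.mem_span_singleton.mp hb
    rw [q_add, q_smul, hw, pB_symm, pl_smul, ((hYm a).mp ha).2, hX a ((hYm a).mp ha).1]
    ring
  · rw [Submodule.finrank_sup_span_singleton hwY]; exact hYr
  · exact Submodule.mem_sup_right (Submodule.mem_span_singleton_self w)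
  · intro y hy hyw
    exact (hYm y).mpr ⟨hy, hyw⟩
  · intro h
    apply hwX
    rw [h]
    exact Submodule.mem_sup_right (Submodule.mem_span_singleton_self w)

include hnd hV in
theorem TS.parity : ∀ (n : ℕ) {U W X : Submodule F V}, TS Q U → finrank F U = m → TS Q W → finrank F W = m →
    TS Q X → finrank F X = m → finrank F (W ⊓ X : Submodule F V) + n = m →
    Even (finrank F (U ⊓ W : Submodule F V) + finrank F (W ⊓ X : Submodule F V) +
      finrank F (U ⊓ X : Submodule F V) + m) := by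
  intro n
  induction n with
  | zero =>
    intro U W X hU hUm hW hWm hX hXm h
    have h1 : W ⊓ X = W := Submodule.eq_of_le_of_finrank_eq inf_le_left (by omega)
    have h2 : W = X := Submodule.eq_of_le_of_finrank_eq (inf_eq_left.mp h1) (by omega)
    subst h2
    rw [inf_idem, hWm]
    exact ⟨finrank F (U ⊓ W : Submodule F V) + m, by ring⟩
  | succ n ih =>
    intro U W X hU hUm hW hWm hX hXm h
    have hne : ¬ W ≤ X := by
      intro hle
      rw [inf_eq_left.mpr hle] at h
      omega
    obtain ⟨w, hw, hwX⟩ := SetLike.not_le_iff_exists.mp hne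
    obtain ⟨X', Y, hX', hX'm, hwX', hY, hYX, hYX', hYc, hXX'⟩ := hX.neighbor hnd hV hXm (hW w hw) hwX
    have hle : W ⊓ X ≤ W ⊓ X' := by
      intro y hy
      refine ⟨hy.1, hYX' (hYc y hy.2 (hW.pb hw hy.1))⟩
    have hlt : W ⊓ X < W ⊓ X' := by
      refine lt_of_le_of_ne hle ?_
      intro heq
      have : w ∈ W ⊓ X := by rw [heq]; exact ⟨hw, hwX'⟩
      exact hwX this.2
    have hfr := Submodule.finrank_lt_finrank_of_lt hlt
    have h1 := TS.adj hnd hV hY hX hXm hX' hX'm hW hWm hYX hYX' hXX'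
    have h2 := TS.adj hnd hV hY hX hXm hX' hX'm hU hUm hYX hYX' hXX'
    have h3 : finrank F (W ⊓ X' : Submodule F V) = finrank F (W ⊓ X : Submodule F V) + 1 := by
      rcases h1 with h1 | h1 <;> omega
    have h4 := ih hU hUm hW hWm hX' hX'm (by omega)
    obtain ⟨r, hr⟩ := h4
    rcases h2 with h2 | h2
    · exact ⟨r, by omega⟩
    · exact ⟨r - 1, by omega⟩

include hnd hV in
/-- exactly two maximal totally singular subspaces over an `(m-1)`-dimensional one -/
theorem TS.exists_two {E : Submodule F V} (hE : TS Q E) (hEm : finrank F E = m) {U : Submodule F V}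
    (hU : TS Q U) (hUm : finrank F U + 1 = m) :
    ∃ W X : Submodule F V, TS Q W ∧ finrank F W = m ∧ TS Q X ∧ finrank F X = m ∧ U ≤ W ∧ U ≤ X ∧ W ≠ X := by
  obtain ⟨hW, hWm⟩ := hE.proj hnd hV hEm hU
  set W := (E ⊓ oc Q U) ⊔ U with hWdef
  have hUW : U ≤ W := le_sup_right
  have h1 := finrank_oc hnd U
  have hnle : ¬ oc Q U ≤ W := by
    intro h
    have := Submodule.finrank_mono h
    omega
  obtain ⟨x, hx, hxW⟩ := SetLike.not_le_iff_exists.mp hnle
  have hxW' : x ∉ oc Q W := by rw [hW.oc_eq hnd hV hWm]; exact hxW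
  rw [mem_oc] at hxW'
  push Not at hxW'
  obtain ⟨w, hw, hwx⟩ := hxW'
  have hq : Q (x - (Q x / pB Q w x) • w) = 0 := by
    rw [q_sub, q_smul, hW w hw, pr_smul, pB_symm Q x w]
    field_simp
    ring
  have hnot : x - (Q x / pB Q w x) • w ∉ W := by
    intro h
    apply hxW
    have := W.add_mem h (W.smul_mem (Q x / pB Q w x) hw)
    simpa using this
  obtain ⟨X', Y, hX', hX'm, hwX', hY, hYX, hYX', hYc, hXX'⟩ := hW.neighbor hnd hV hWm hq hnot
  refine ⟨W, X', hW, hWm, hX', hX'm, hUW, ?_, hXX'⟩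
  intro u hu
  apply hYX'
  apply hYc u (hUW hu)
  rw [pl_sub, pl_smul, hW.pb hw (hUW hu), pB_symm, hx u hu]
  ring

end ms

section std

variable {F : Type*} [Field F] {m : ℕ}

theorem std_max (m : ℕ) : ∃ E : Submodule F (Fin m ⊕ Fin m → F), TS (qPlus m F) E ∧ finrank F E = m := by
  let j : (Fin m → F) →ₗ[F] (Fin m ⊕ Fin m → F) :=
    { toFun := fun x => Sum.elim x 0
      map_add' := fun x y => by ext i; rcases i with i | i <;> simp
      map_smul' := fun a x => by ext i; rcases i with i | i <;> simp }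
  have hj : Function.Injective j := by
    intro x y hxy
    funext i
    exact congrFun hxy (Sum.inl i)
  refine ⟨LinearMap.range j, ?_, ?_⟩
  · rintro _ ⟨x, rfl⟩
    rw [qPlus_coe]
    unfold quadFormPlus
    simp [j]
  · rw [LinearMap.finrank_range_of_inj hj, Module.finrank_fintype_fun_eq_card, Fintype.card_fin]

end std

end Cfsg.Agent.H5
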