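import Cfsg.Agent.H5.Dk12
import Cfsg.Agent.H5.PGLOrd
set_option autoImplicit false
set_option linter.style.haveILetI false
set_option linter.unusedSectionVars false

/-! Borel subgroups of `PSL₂(q)`; order estimates. -/

namespace Cfsg.Agent.H5

open OnePoint Cfsg.Agent.H4 Cfsg.Agent.H2

section
variable {K : Type*} [Field K] [DecidableEq K]
variable (p : ℕ) [hp : Fact p.Prime] [CharP K p]

theorem eq_one_of_two_fix {γ : Equiv.Perm (OnePoint K)} (h : γ ∈ (slPerm K).range) {k : ℕ} (hk : γ ^ p ^ k = 1) {a b : OnePoint K}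
    (hab : a ≠ b) (ha : γ a = a) (hb : γ b = b) : γ = 1 := by
  obtain ⟨g, hg, ga, gb⟩ := exists_conj_infty_zero hab
  obtain ⟨α, hα, h1⟩ := mul_of_fix2 (conj_range hg h) (conj_app ga ga ha) (conj_app gb gb hb)
  have h2 := conj_app ga ga ha
  obtain ⟨β, hβ⟩ := pow_aff (σ := g * γ * g⁻¹) (α := α) (β := 0) (fun k => by rw [h1, add_zero]) (p ^ k)
  have h3 : (g * γ * g⁻¹) ^ p ^ k = 1 := by rw [conj_pow, hk]; group
  rw [h3] at hβ
  have e0 : β = 0 := by
    have := coe_inj'.1 (hβ 0)
    rw [mul_zero, zero_add] at this; exact this.symm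
  have e1 : α ^ p ^ k = 1 := by
    have := coe_inj'.1 (hβ 1)
    rw [mul_one, e0, add_zero] at this; exact this.symm
  have e2 : α = 1 := by
    have h5 : (α - 1) ^ p ^ k = 0 := by rw [sub_pow_char_pow, e1, one_pow, sub_self]
    have := eq_zero_of_pow_eq_zero h5
    linear_combination this
  have h6 : g * γ * g⁻¹ = 1 := by
    apply perm_ext
    · rw [h2]; rfl
    · intro k
      rw [h1, e2, one_mul]; rfl
  have : γ = g⁻¹ * (g * γ * g⁻¹) * g := by group
  rw [this, h6]; group

end

section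
variable {F : Type*} [Field F] [Fintype F] [DecidableEq F]

local notation "PSL₂" => Matrix.ProjectiveSpecialLinearGroup (Fin 2) F

/-- stabilizer of a rational point -/
noncomputable def pstab (a : OnePoint F) : Subgroup PSL₂ where
  carrier := {x | pemb (RingHom.id F) x a = a}
  mul_mem' := by
    intro x y hx hy
    show pemb (RingHom.id F) (x * y) a = a
    rw [map_mul, Equiv.Perm.mul_apply]
    have hx' : pemb (RingHom.id F) x a = a := hx
    have hy' : pemb (RingHom.id F) y a = a := hy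
    rw [hy', hx']
  one_mem' := by
    show pemb (RingHom.id F) 1 a = a
    rw [map_one]; rfl
  inv_mem' := by
    intro x hx
    have hx' : pemb (RingHom.id F) x a = a := hx
    show pemb (RingHom.id F) x⁻¹ a = a
    rw [map_inv, Equiv.Perm.inv_eq_iff_eq, hx']

theorem mem_pstab {a : OnePoint F} {x : PSL₂} : x ∈ pstab a ↔ pemb (RingHom.id F) x a = a := Iff.rfl

theorem index_pstab (a : OnePoint F) : (pstab (F := F) a).index = Fintype.card F + 1 := by
  letI : MulAction PSL₂ (OnePoint F) := MulAction.compHom _ (pemb (RingHom.id F))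
  have h1 : pstab a = MulAction.stabilizer PSL₂ a := by
    ext x; exact Iff.rfl
  haveI : MulAction.IsPretransitive PSL₂ (OnePoint F) := by
    constructor
    have key : ∀ x : OnePoint F, ∃ g : PSL₂, g • x = ∞ := by
      intro x
      obtain ⟨A, hA⟩ := exists_to_infty x
      refine ⟨QuotientGroup.mk A, ?_⟩
      show slPerm F (Matrix.SpecialLinearGroup.map (RingHom.id F) A) x = ∞
      have : Matrix.SpecialLinearGroup.map (RingHom.id F) A = A := by
        apply Subtype.ext; ext i j; rfl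
      rw [this, hA]
    intro x y
    obtain ⟨g, hg⟩ := key x
    obtain ⟨k, hk⟩ := key y
    exact ⟨k⁻¹ * g, by rw [mul_smul, hg, inv_smul_eq_iff, hk]⟩
  rw [h1, MulAction.index_stabilizer_of_transitive]
  show Nat.card (Option F) = _
  rw [Nat.card_eq_fintype_card, Fintype.card_option]

theorem sylow_norm_le (p : ℕ) [hp : Fact p.Prime] [CharP F p] (P : Sylow p PSL₂) :
    ∃ a : OnePoint F, Subgroup.normalizer ((P : Subgroup PSL₂) : Set PSL₂) ≤ pstab a := by
  letI : MulAction P (OnePoint F) := MulAction.compHom _ ((pemb (RingHom.id F)).comp (P : Subgroup PSL₂).subtype)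
  have hfp := P.2.card_modEq_card_fixedPoints (OnePoint F)
  obtain ⟨r, hr, hcard⟩ := FiniteField.card F p
  have hpF : p ∣ Fintype.card F := by rw [hcard]; exact dvd_pow_self _ r.ne_zero
  have h1 : Nat.card (OnePoint F) = Fintype.card F + 1 := by
    show Nat.card (Option F) = _
    rw [Nat.card_eq_fintype_card, Fintype.card_option]
  have h2 : Nat.card (MulAction.fixedPoints P (OnePoint F)) ≠ 0 := by
    intro h0
    rw [h0, h1] at hfp
    have h3 := (Nat.modEq_zero_iff_dvd.1 hfp)
    have h4 : p ∣ 1 := (Nat.dvd_add_right hpF).1 h3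
    exact hp.out.one_lt.ne' (Nat.dvd_one.1 h4)
  haveI := (Nat.card_ne_zero.1 h2).1
  obtain ⟨a, ha⟩ := ‹Nonempty (MulAction.fixedPoints P (OnePoint F))›
  refine ⟨a, fun g hg => ?_⟩
  -- `p` divides the order of the group
  have hPne : (P : Subgroup PSL₂) ≠ ⊥ := by
    intro hb
    have h5 := P.not_dvd_index
    rw [hb, Subgroup.index_bot] at h5
    have h6 := card_PSL2 (F := F) rfl
    have h7 : p ∣ Nat.gcd 2 (Fintype.card F - 1) * Nat.card PSL₂ := by
      rw [h6]; exact hpF.mul_right _
    rcases hp.out.dvd_mul.1 h7 with h8 | h8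
    · have h9 : p ∣ Fintype.card F - 1 := h8.trans (Nat.gcd_dvd_right _ _)
      have h10 : p ∣ 1 := by
        have hlt : 1 < Fintype.card F := Fintype.one_lt_card
        have := Nat.dvd_sub hpF h9
        rwa [show Fintype.card F - (Fintype.card F - 1) = 1 by omega] at this
      exact hp.out.one_lt.ne' (Nat.dvd_one.1 h10)
    · exact h5 h8
  obtain ⟨x, hx, hx1⟩ := (Subgroup.bot_or_exists_ne_one _).resolve_left hPne
  have hfix : ∀ y ∈ (P : Subgroup PSL₂), pemb (RingHom.id F) y a = a := fun y hy => ha ⟨y, hy⟩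
  rw [mem_pstab]
  by_contra hne
  obtain ⟨k, hk⟩ := P.2 ⟨x, hx⟩
  have hk' : x ^ p ^ k = 1 := by simpa using congrArg Subtype.val hk
  have h6 : pemb (RingHom.id F) x (pemb (RingHom.id F) g a) = pemb (RingHom.id F) g a := by
    have h7 : g⁻¹ * x * g ∈ (P : Subgroup PSL₂) := by
      have := (Subgroup.mem_normalizer_iff.1 (inv_mem hg) x).1 hx
      rwa [inv_inv] at this
    have h8 := hfix _ h7
    rw [map_mul, map_mul, map_inv, Equiv.Perm.mul_apply, Equiv.Perm.mul_apply, Equiv.Perm.inv_eq_iff_eq] at h8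
    exact h8
  have h9 := eq_one_of_two_fix p (pemb_range (RingHom.id F) x) (k := k) (by rw [← map_pow, hk', map_one]) (Ne.symm hne) (hfix x hx) h6
  apply hx1
  apply pemb_injective (RingHom.id F)
  rw [h9, map_one]

omit [DecidableEq F] in
theorem sub_types {H : Subgroup PSL₂} (hH : H ≠ ⊤) {C : Type*} [Field C] [Fintype C] {m : ℕ}
    (hm : Fintype.card C ^ m = Fintype.card F)
    (h : Nonempty (H ≃* Matrix.ProjectiveSpecialLinearGroup (Fin 2) C) ∨ Nonempty (H ≃* Matrix.ProjGenLinGroup (Fin 2) C)) :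
    2 ≤ m ∧ Fintype.card C ^ 2 ≤ Fintype.card F ∧ 2 ≤ Fintype.card C ∧ Nat.card H ≤ Fintype.card C * (Fintype.card C ^ 2 - 1) ∧
      ∀ x : H, orderOf x ≤ Fintype.card C + 1 := by
  have hC : 1 < Fintype.card C := Fintype.one_lt_card
  have hF : 1 < Fintype.card F := Fintype.one_lt_card
  have hcardG := card_PSL2 (F := F) rfl
  have hlt : Nat.card H < Nat.card PSL₂ := by
    apply lt_of_le_of_ne (Subgroup.card_le_card_group H)
    intro h1
    exact hH (Subgroup.eq_top_of_card_eq H h1)
  have hgcd : Nat.gcd 2 (Fintype.card F - 1) ≠ 0 := by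
    intro h0
    have := Nat.eq_zero_of_gcd_eq_zero_left h0
    omega
  have hle : Nat.card H ≤ Fintype.card C * (Fintype.card C ^ 2 - 1) := by
    rcases h with ⟨⟨e⟩⟩ | ⟨⟨e⟩⟩
    · rw [Nat.card_congr e.toEquiv, ← card_PSL2 (F := C) rfl]
      apply Nat.le_mul_of_pos_left
      apply Nat.pos_of_ne_zero
      intro h0
      have := Nat.eq_zero_of_gcd_eq_zero_left h0
      omega
    · rw [Nat.card_congr e.toEquiv, card_PGL2 (K := C) rfl]
  have hm2 : 2 ≤ m := by
    by_contra hcon
    have : m = 0 ∨ m = 1 := by omega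
    rcases this with rfl | rfl
    · rw [pow_zero] at hm; omega
    · rw [pow_one] at hm
      rcases h with ⟨⟨e⟩⟩ | ⟨⟨e⟩⟩
      · have h1 := card_PSL2 (F := C) rfl
        rw [hm, ← hcardG, ← Nat.card_congr e.toEquiv] at h1
        have := Nat.eq_of_mul_eq_mul_left (Nat.pos_of_ne_zero hgcd) h1
        omega
      · have h1 := card_PGL2 (K := C) rfl
        rw [hm, ← hcardG, ← Nat.card_congr e.toEquiv] at h1
        have : Nat.card PSL₂ ≤ Nat.gcd 2 (Fintype.card F - 1) * Nat.card PSL₂ :=
          Nat.le_mul_of_pos_left _ (Nat.pos_of_ne_zero hgcd)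
        omega
  refine ⟨hm2, ?_, hC, hle, ?_⟩
  · rw [← hm]; exact Nat.pow_le_pow_right (by omega) hm2
  · obtain ⟨f, hf⟩ : ∃ f : H →* Matrix.ProjGenLinGroup (Fin 2) C, Function.Injective f := by
      rcases h with ⟨⟨e⟩⟩ | ⟨⟨e⟩⟩
      · exact ⟨Matrix.ProjectiveSpecialLinearGroup.toPGL.comp e.toMonoidHom,
          Matrix.ProjectiveSpecialLinearGroup.toPGL_injective.comp e.injective⟩
      · exact ⟨e.toMonoidHom, e.injective⟩
    intro x
    have h1 := pgl_ord_bound (F := C) 2 (by norm_num) (f x)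
    have h2 : orderOf (f x) = orderOf x := orderOf_injective f hf x
    have h3 : (Fintype.card C - 1) * orderOf x ≤ (Fintype.card C - 1) * (Fintype.card C + 1) := by
      rw [← h2]
      refine h1.trans (le_of_eq ?_)
      obtain ⟨c, hc⟩ : ∃ c, Fintype.card C = c + 1 := ⟨Fintype.card C - 1, by omega⟩
      rw [hc, Nat.add_sub_cancel]
      have : (c + 1) ^ 2 = c * (c + 1 + 1) + 1 := by ring
      rw [this, Nat.add_sub_cancel]
    exact Nat.le_of_mul_le_mul_left h3 (by omega)

end

end Cfsg.Agent.H5
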