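import Cfsg.Agent.H5.Dk13
set_option autoImplicit false
set_option linter.style.haveILetI false
set_option linter.unusedSectionVars false

/-! Minimal index (Galois). -/

namespace Cfsg.Agent.H5

open OnePoint Cfsg.Agent.H4 Cfsg.Agent.H2

section
variable {F : Type*} [Field F] [Fintype F]

local notation "PSL₂" => Matrix.ProjectiveSpecialLinearGroup (Fin 2) F

/-- parity data -/
theorem gcd_cases (p : ℕ) [hp : Fact p.Prime] [CharP F p] :
    (p = 2 ∧ Nat.gcd 2 (Fintype.card F - 1) = 1 ∧ ∃ r, Fintype.card F = 2 ^ r ∧ 1 ≤ r) ∨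
    (p ≠ 2 ∧ Nat.gcd 2 (Fintype.card F - 1) = 2 ∧ Fintype.card F % 2 = 1) := by
  obtain ⟨r, hr, hcard⟩ := FiniteField.card F p
  have hr1 : 1 ≤ (r : ℕ) := r.pos
  rcases eq_or_ne p 2 with h2 | h2
  · left
    subst h2
    refine ⟨rfl, ?_, r, hcard, hr1⟩
    have h1 : Fintype.card F % 2 = 0 := by
      rw [hcard]
      exact Nat.mod_eq_zero_of_dvd (dvd_pow_self _ (by omega))
    have hlt : 1 < Fintype.card F := Fintype.one_lt_card
    rcases (Nat.dvd_prime Nat.prime_two).1 (Nat.gcd_dvd_left 2 (Fintype.card F - 1)) with h3 | h3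
    · exact h3
    · exfalso
      have : 2 ∣ Fintype.card F - 1 := h3 ▸ Nat.gcd_dvd_right _ _
      omega
  · right
    have h1 : Odd (Fintype.card F) := by
      rw [hcard]; exact (hp.out.odd_of_ne_two h2).pow
    have h1' := Nat.odd_iff.1 h1
    refine ⟨h2, ?_, h1'⟩
    apply Nat.gcd_eq_left
    omega

theorem card_A4' : Nat.card (alternatingGroup (Fin 4)) = 12 := by
  rw [nat_card_alternatingGroup]; simp; decide
theorem card_A5' : Nat.card (alternatingGroup (Fin 5)) = 60 := by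
  rw [nat_card_alternatingGroup]; simp; decide
theorem card_S4' : Nat.card (Equiv.Perm (Fin 4)) = 24 := by
  rw [Nat.card_perm]; simp; decide

/-- numerical form -/
theorem index_ge_of {H : Subgroup PSL₂}
    (h : Nat.gcd 2 (Fintype.card F - 1) * Nat.card H ≤ Fintype.card F * (Fintype.card F - 1)) : Fintype.card F + 1 ≤ H.index := by
  by_contra hcon
  have hcardG := card_PSL2 (F := F) rfl
  have hmul := H.card_mul_index
  have hlt : 1 < Fintype.card F := Fintype.one_lt_card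
  obtain ⟨q, hq⟩ : ∃ q, Fintype.card F = q + 1 := ⟨Fintype.card F - 1, by omega⟩
  have e1 : Fintype.card F ^ 2 - 1 = q * (q + 2) := by
    rw [hq]; have : (q + 1) ^ 2 = q * (q + 2) + 1 := by ring
    rw [this, Nat.add_sub_cancel]
  rw [e1, ← hmul, ← mul_assoc, hq, Nat.add_sub_cancel] at hcardG
  rw [hq, Nat.add_sub_cancel] at h
  have h3 : H.index ≤ q + 1 := by omega
  have h4 : Nat.gcd 2 q * Nat.card H * H.index ≤ ((q + 1) * q) * (q + 1) := Nat.mul_le_mul h h3
  rw [hcardG] at h4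
  have h5 : (q + 1) * (q * (q + 2)) = ((q + 1) * q) * (q + 1) + (q + 1) * q := by ring
  rw [h5] at h4
  have h6 : 0 < (q + 1) * q := by apply Nat.mul_pos <;> omega
  omega

theorem le_of_dvd_div {k q d : ℕ} (hd : 0 < d) (hq : 0 < q) (h : k ∣ q / d) (hdq : d ≤ q) : d * k ≤ q := by
  have h1 : 0 < q / d := Nat.div_pos hdq hd
  have h2 := Nat.le_of_dvd h1 h
  calc d * k ≤ d * (q / d) := Nat.mul_le_mul_left _ h2
    _ ≤ q := Nat.mul_div_le _ _

theorem min_index {q : ℕ} (hF : Fintype.card F = q) (hq : q ∉ ({2, 3, 5, 7, 9, 11} : Finset ℕ)) (H : Subgroup PSL₂) (hH : H ≠ ⊤) :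
    q + 1 ≤ H.index := by
  classical
  obtain ⟨p, hp⟩ := CharP.exists F
  haveI : Fact p.Prime := ⟨CharP.char_is_prime F p⟩
  simp only [Finset.mem_insert, Finset.mem_singleton, not_or] at hq
  obtain ⟨q2, q3, q5, q7, q9, q11⟩ := hq
  have hlt : 1 < Fintype.card F := Fintype.one_lt_card
  have hcardG := card_PSL2 (F := F) rfl
  have hcases : (Nat.gcd 2 (q - 1) = 1 ∧ (q = 4 ∨ q = 8 ∨ 16 ≤ q)) ∨ (Nat.gcd 2 (q - 1) = 2 ∧ 13 ≤ q) := by
    rcases gcd_cases (F := F) p with ⟨-, h1, r, h2, h3⟩ | ⟨-, h1, h2⟩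
    · left
      rw [hF] at h1 h2
      refine ⟨h1, ?_⟩
      rcases Nat.lt_or_ge r 4 with h4 | h4
      · interval_cases r
        · omega
        · left; rw [h2]; norm_num
        · right; left; rw [h2]; norm_num
      · right; right
        rw [h2]
        calc 16 = 2 ^ 4 := by norm_num
          _ ≤ 2 ^ r := Nat.pow_le_pow_right (by norm_num) h4
    · right
      rw [hF] at h1 h2 hlt
      exact ⟨h1, by omega⟩
  have hd : 0 < Nat.gcd 2 (q - 1) := by rcases hcases with h | h <;> omega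
  have hq4 : 4 ≤ q := by omega
  rw [hF] at hcardG hlt
  have hdvd := Subgroup.card_subgroup_dvd_card H
  have hne : Nat.card H ≠ Nat.card PSL₂ := fun h1 => hH (Subgroup.eq_top_of_card_eq H h1)
  have bound : ∀ n, Nat.gcd 2 (q - 1) * n ≤ q * (q - 1) → Nat.card H = n → q + 1 ≤ H.index := by
    intro n hn hHn
    have := index_ge_of (F := F) (H := H) (by rw [hF, hHn]; exact hn)
    rwa [hF] at this
  rcases dickson p H with ⟨k, hk, h⟩ | ⟨P, hP⟩ | ⟨⟨e⟩⟩ | ⟨⟨e⟩⟩ | ⟨⟨e⟩⟩ | ⟨C, i1, i2, m, hm, h⟩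
  · rw [hF] at hk
    have hdk : Nat.gcd 2 (q - 1) * k ≤ q + 1 := by
      have hd2 : Nat.gcd 2 (q - 1) ≤ 2 := by rcases hcases with h | h <;> omega
      rcases hk with hk | hk
      · exact le_of_dvd_div hd (by omega) hk (by omega)
      · exact (le_of_dvd_div hd (by omega) hk (by omega)).trans (by omega)
    have hcard : Nat.card H ≤ 2 * k := by
      rcases h with ⟨-, h⟩ | ⟨⟨e⟩⟩
      · omega
      · rw [Nat.card_congr e.toEquiv, DihedralGroup.nat_card]
    refine bound _ ?_ rfl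
    obtain ⟨x, rfl⟩ : ∃ x, q = x + 4 := ⟨q - 4, by omega⟩
    have e1 : (x + 4) * (x + 4 - 1) = x * x + 7 * x + 12 := by
      have : x + 4 - 1 = x + 3 := by omega
      rw [this]; ring
    rw [e1]
    calc Nat.gcd 2 (x + 4 - 1) * Nat.card H ≤ Nat.gcd 2 (x + 4 - 1) * (2 * k) := Nat.mul_le_mul_left _ hcard
      _ = 2 * (Nat.gcd 2 (x + 4 - 1) * k) := by ring
      _ ≤ 2 * (x + 4 + 1) := Nat.mul_le_mul_left _ hdk
      _ ≤ x * x + 7 * x + 12 := by
        have : 0 ≤ x * x := Nat.zero_le _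
        omega
  · obtain ⟨a, ha⟩ := sylow_norm_le (F := F) p P
    have h1 : (pstab a).index ∣ H.index := Subgroup.index_dvd_of_le (hP.trans ha)
    rw [index_pstab, hF] at h1
    exact Nat.le_of_dvd (Nat.pos_of_ne_zero Subgroup.index_ne_zero_of_finite) h1
  · apply bound 12 _ (by rw [Nat.card_congr e.toEquiv, card_A4'])
    rcases hcases with ⟨h1, h2⟩ | ⟨h1, h2⟩
    · rw [h1]
      calc 1 * 12 = 4 * (4 - 1) := by norm_num
        _ ≤ q * (q - 1) := Nat.mul_le_mul hq4 (by omega)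
    · rw [h1]
      calc 2 * 12 ≤ 13 * 12 := by norm_num
        _ ≤ q * (q - 1) := Nat.mul_le_mul h2 (by omega)
  · have hc : Nat.card H = 24 := by rw [Nat.card_congr e.toEquiv, card_S4']
    apply bound 24 _ hc
    rcases hcases with ⟨h1, h2 | h2 | h2⟩ | ⟨h1, h2⟩
    · exfalso
      rw [h1, h2] at hcardG
      rw [hc] at hdvd
      have : Nat.card PSL₂ = 60 := by omega
      rw [this] at hdvd
      revert hdvd; decide
    · rw [h1, h2]; norm_num
    · rw [h1]
      calc 1 * 24 ≤ 16 * 15 := by norm_num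
        _ ≤ q * (q - 1) := Nat.mul_le_mul h2 (by omega)
    · rw [h1]
      calc 2 * 24 ≤ 13 * 12 := by norm_num
        _ ≤ q * (q - 1) := Nat.mul_le_mul h2 (by omega)
  · have hc : Nat.card H = 60 := by rw [Nat.card_congr e.toEquiv, card_A5']
    rcases hcases with ⟨h1, h2 | h2 | h2⟩ | ⟨h1, h2⟩
    · exfalso
      rw [h1, h2] at hcardG
      apply hne
      rw [hc]; omega
    · exfalso
      rw [h1, h2] at hcardG
      have : Nat.card PSL₂ = 504 := by omega
      rw [hc, this] at hdvd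
      revert hdvd; decide
    · apply bound 60 _ hc
      rw [h1]
      calc 1 * 60 ≤ 16 * 15 := by norm_num
        _ ≤ q * (q - 1) := Nat.mul_le_mul h2 (by omega)
    · apply bound 60 _ hc
      rw [h1]
      calc 2 * 60 ≤ 13 * 12 := by norm_num
        _ ≤ q * (q - 1) := Nat.mul_le_mul h2 (by omega)
  · obtain ⟨hm2, hc2, hC, hle, -⟩ := sub_types hH hm h
    refine bound _ ?_ rfl
    rw [hF] at hc2
    have hd2 : Nat.gcd 2 (q - 1) ≤ Fintype.card C := by
      rcases hcases with h | h <;> omega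
    calc Nat.gcd 2 (q - 1) * Nat.card H ≤ Fintype.card C * (Fintype.card C * (Fintype.card C ^ 2 - 1)) :=
          Nat.mul_le_mul hd2 hle
      _ = Fintype.card C ^ 2 * (Fintype.card C ^ 2 - 1) := by ring
      _ ≤ q * (q - 1) := Nat.mul_le_mul hc2 (by omega)

end

end Cfsg.Agent.H5
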