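import Cfsg.Agent.H5.Dk14
set_option autoImplicit false
set_option linter.style.haveILetI false
set_option linter.unusedSectionVars false

/-! Dihedral subgroups of `PSL₂(q)` of orders `2(q±1)/d`. -/

namespace Cfsg.Agent.H5

open OnePoint Cfsg.Agent.H4 Cfsg.Agent.H2 Polynomial

section
variable {F : Type*} [Field F] {K : Type*} [Field K] [DecidableEq K]

local notation "PSL₂" => Matrix.ProjectiveSpecialLinearGroup (Fin 2) F

/-- equivariance of the action with respect to a field endomorphism trivial on the base -/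
theorem pemb_frob (ι : F →+* K) (φ : K →+* K) (hφ : ∀ x : F, φ (ι x) = ι x) (x : PSL₂) (y : OnePoint K) :
    pemb ι x (OnePoint.map φ y) = OnePoint.map φ (pemb ι x y) := by
  obtain ⟨A, rfl⟩ := QuotientGroup.mk_surjective x
  have h1 := OnePoint.map_smul φ (Matrix.SpecialLinearGroup.toGL (Matrix.SpecialLinearGroup.map ι A)) y
  have h2 : (Matrix.SpecialLinearGroup.toGL (Matrix.SpecialLinearGroup.map ι A)).map φ =
      Matrix.SpecialLinearGroup.toGL (Matrix.SpecialLinearGroup.map ι A) := by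
    apply Units.ext
    ext i j
    exact hφ (A.1 i j)
  rw [h2] at h1
  exact h1.symm

/-- dihedral subgroups from swaps -/
theorem exists_dihedral_sub (ι : F →+* K) {a b : OnePoint K} (hab : a ≠ b) (c w : PSL₂) (ca : pemb ι c a = a) (cb : pemb ι c b = b)
    (wa : pemb ι w a = b) (wb : pemb ι w b = a) :
    ∃ H : Subgroup PSL₂, c ∈ H ∧ w ∈ H ∧ w * w = 1 ∧ w * c * w = c⁻¹ ∧ Nonempty (H ≃* DihedralGroup (orderOf c)) := by
  obtain ⟨i1, i2⟩ := inv_of_swap hab (pemb_range ι c) (pemb_range ι w) ca cb wa wb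
  have j1 : w * w = 1 := by
    apply pemb_injective ι
    rw [map_mul, i1, map_one]
  have j2 : w * c * w = c⁻¹ := by
    apply pemb_injective ι
    rw [map_mul, map_mul, i2, map_inv]
  have hn : w ∉ Subgroup.zpowers c := by
    intro h
    have h1 : ∀ y ∈ Subgroup.zpowers c, pemb ι y a = a := by
      rintro _ ⟨k, rfl⟩
      show pemb ι (c ^ k) a = a
      rw [map_zpow]
      exact Function.IsFixedPt.perm_zpow ca k
    have h2 := h1 w h
    rw [wa] at h2
    exact hab h2.symm
  have hx := pow_orderOf_eq_one c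
  have hinj := Cfsg.Agent.H22.dihedralLift_injective (orderOf c) c w hx j1 j2 rfl hn
  refine ⟨(Cfsg.Agent.H22.dihedralLift (orderOf c) c w hx j1 j2).range, ⟨.r 1, ?_⟩, ⟨.sr 0, ?_⟩, j1, j2,
    ⟨(MonoidHom.ofInjective hinj).symm⟩⟩
  · have := Cfsg.Agent.H22.dihedralLift_r (orderOf c) c w hx j1 j2 1
    simpa using this
  · have := Cfsg.Agent.H22.dihedralLift_sr (orderOf c) c w hx j1 j2 0
    simpa using this

end

section
variable {F : Type*} [Field F] [Fintype F]

local notation "PSL₂" => Matrix.ProjectiveSpecialLinearGroup (Fin 2) F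

theorem exists_dihedral_minus (p : ℕ) [hp : Fact p.Prime] [CharP F p] :
    ∃ c w : PSL₂, orderOf c * Nat.gcd 2 (Fintype.card F - 1) = Fintype.card F + 1 ∧
      ∃ H : Subgroup PSL₂, c ∈ H ∧ w ∈ H ∧ w * w = 1 ∧ w * c * w = c⁻¹ ∧ Nonempty (H ≃* DihedralGroup (orderOf c)) := by
  classical
  let K := AlgebraicClosure F
  haveI : CharP K p := charP_of_injective_algebraMap (algebraMap F K).injective p
  let ι : F →+* K := algebraMap F K
  obtain ⟨r, hr, hcard⟩ := FiniteField.card F p
  set q := Fintype.card F with hq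
  have hlt : 1 < q := Fintype.one_lt_card
  let φ : K →+* K := iterateFrobenius K p r
  have hφ : ∀ x : K, φ x = x ^ q := by
    intro x
    show iterateFrobenius K p r x = _
    rw [iterateFrobenius_def, hcard]
  have hφF : ∀ x : F, φ (ι x) = ι x := by
    intro x
    rw [hφ, ← map_pow, FiniteField.pow_card]
  -- the quadratic points
  let R : Finset K := ((X ^ (q ^ 2) - X : K[X]).roots).toFinset
  have hpq : p ∣ q ^ 2 := by
    rw [hcard, ← pow_mul]; exact dvd_pow_self _ (by positivity)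
  have hq2 : 1 < q ^ 2 := by nlinarith
  have hdeg : (X ^ (q ^ 2) - X : K[X]).natDegree = q ^ 2 := by
    have := FiniteField.X_pow_card_sub_X_natDegree_eq K hq2
    exact this
  have hne0 : (X ^ (q ^ 2) - X : K[X]) ≠ 0 := by
    intro h0; rw [h0, natDegree_zero] at hdeg; omega
  have hR : ∀ k : K, k ∈ R ↔ k ^ (q ^ 2) = k := by
    intro k
    show k ∈ ((X ^ (q ^ 2) - X : K[X]).roots).toFinset ↔ _
    rw [Multiset.mem_toFinset, mem_roots hne0]
    simp [sub_eq_zero]
  have hRcard : R.card = q ^ 2 := by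
    show ((X ^ (q ^ 2) - X : K[X]).roots).toFinset.card = _
    rw [Multiset.toFinset_card_of_nodup (nodup_roots (galois_poly_separable p _ hpq)),
      IsAlgClosed.card_roots_eq_natDegree, hdeg]
  have hR1 : (R.filter (fun k => k ^ q = k)).card ≤ q := by
    have hdeg1 : (X ^ q - X : K[X]).natDegree = q := FiniteField.X_pow_card_sub_X_natDegree_eq K hlt
    have hne1 : (X ^ q - X : K[X]) ≠ 0 := by
      intro h0; rw [h0, natDegree_zero] at hdeg1; omega
    have hsub : R.filter (fun k => k ^ q = k) ⊆ ((X ^ q - X : K[X]).roots).toFinset := by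
      intro k hk
      rw [Finset.mem_filter] at hk
      rw [Multiset.mem_toFinset, mem_roots hne1]
      simp [sub_eq_zero, hk.2]
    refine (Finset.card_le_card hsub).trans ((Multiset.toFinset_card_le _).trans ?_)
    have := card_roots' (X ^ q - X : K[X])
    rwa [hdeg1] at this
  have hR2 : q ≤ (R.filter (fun k => k ^ q = k)).card := by
    have hsub : Finset.univ.image ι ⊆ R.filter (fun k => k ^ q = k) := by
      intro k hk
      rw [Finset.mem_image] at hk
      obtain ⟨x, -, rfl⟩ := hk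
      rw [Finset.mem_filter, hR]
      have : (ι x) ^ q = ι x := by rw [← map_pow, FiniteField.pow_card]
      refine ⟨?_, this⟩
      rw [pow_two, pow_mul, this, this]
    have := Finset.card_le_card hsub
    rwa [Finset.card_image_of_injective _ ι.injective, Finset.card_univ] at this
  obtain ⟨Q, hQ⟩ : ∃ Q : Finset K, Q = R.filter (fun k => ¬ k ^ q = k) := ⟨_, rfl⟩
  have hsum := Finset.card_filter_add_card_filter_not (s := R) (fun k => k ^ q = k)
  rw [hRcard, ← hQ] at hsum
  have hQc : Q.card + q = q ^ 2 := by omega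
  have hQpos : 0 < Q.card := by
    have : q < q ^ 2 := by nlinarith
    omega
  obtain ⟨k, hk⟩ := Finset.card_pos.1 hQpos
  have hmemQ : ∀ x : K, x ∈ Q ↔ x ^ (q ^ 2) = x ∧ x ^ q ≠ x := by
    intro x
    rw [hQ, Finset.mem_filter, hR]
  have hk1 := ((hmemQ k).1 hk).1
  have hk2 := ((hmemQ k).1 hk).2
  let Fr : OnePoint K → OnePoint K := OnePoint.map φ
  have hFrk : ∀ x : K, Fr (x : OnePoint K) = ((x ^ q : K) : OnePoint K) := by
    intro x
    show ((φ x : K) : OnePoint K) = _
    rw [hφ]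
  have heq : ∀ (x : PSL₂) (y : OnePoint K), pemb ι x (Fr y) = Fr (pemb ι x y) := pemb_frob ι φ hφF
  letI : MulAction PSL₂ (OnePoint K) := MulAction.compHom _ (pemb ι)
  have hsm : ∀ (x : PSL₂) (y : OnePoint K), x • y = pemb ι x y := fun _ _ => rfl
  -- stabilizer
  let S : Subgroup PSL₂ := MulAction.stabilizer PSL₂ (k : OnePoint K)
  have hSk : ∀ x ∈ S, pemb ι x (k : OnePoint K) = (k : OnePoint K) := fun x hx => hx
  have hSk2 : ∀ x ∈ S, pemb ι x ((k ^ q : K) : OnePoint K) = ((k ^ q : K) : OnePoint K) := by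
    intro x hx
    rw [← hFrk, heq, hSk x hx]
  have hkne : (k : OnePoint K) ≠ ((k ^ q : K) : OnePoint K) := fun h => hk2 (coe_inj'.1 h).symm
  have hpS : ¬ p ∣ Nat.card S := by
    intro hdvd
    obtain ⟨x, hx⟩ := exists_prime_orderOf_dvd_card' p hdvd
    have h1 : (x : PSL₂) ^ p = 1 := by
      have := pow_orderOf_eq_one x
      rw [hx] at this
      simpa using congrArg Subtype.val this
    have h2 := eq_one_of_two_fix p (pemb_range ι (x : PSL₂)) (k := 1) (by rw [← map_pow, pow_one, h1, map_one]) hkne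
      (hSk x x.2) (hSk2 x x.2)
    have h3 : (x : PSL₂) = 1 := by
      apply pemb_injective ι
      rw [h2, map_one]
    have h4 : x = 1 := Subtype.ext h3
    rw [h4, orderOf_one] at hx
    exact hp.out.one_lt.ne hx
  have hScyc : IsCyclic S := by
    let Γ : Subgroup (Equiv.Perm (OnePoint K)) := S.map (pemb ι)
    have hΓ : Γ ≤ (slPerm K).range := by
      rintro _ ⟨x, -, rfl⟩; exact pemb_range ι x
    let e : S ≃* Γ := Subgroup.equivMapOfInjective S _ (pemb_injective ι)
    haveI : Finite Γ := Finite.of_equiv _ e.toEquiv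
    have : IsCyclic Γ := by
      apply cyclic_of_fix p Γ hΓ (a := (k : OnePoint K))
      · rw [← Nat.card_congr e.toEquiv]; exact hpS
      · rintro _ ⟨x, hx, rfl⟩
        exact hSk x hx
    exact isCyclic_of_surjective e.symm.toMonoidHom e.symm.surjective
  obtain ⟨c, hc⟩ := hScyc.exists_generator
  have hco : orderOf (c : PSL₂) = Nat.card S := by
    rw [Subgroup.orderOf_coe]; exact orderOf_eq_card_of_forall_mem_zpowers hc
  have hd0 : 0 < Nat.gcd 2 (q - 1) := Nat.gcd_pos_of_pos_left _ (by norm_num)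
  have hd1 : Nat.gcd 2 (q - 1) ≤ q - 1 := Nat.le_of_dvd (by omega) (Nat.gcd_dvd_right _ _)
  have hSle : Nat.gcd 2 (q - 1) * Nat.card S ≤ q + 1 := by
    have h1 := psl_order_dvd p (c : PSL₂) (by
      rw [hco]
      exact ((hp.out.coprime_iff_not_dvd).2 hpS).symm)
    rw [hco] at h1
    rcases h1 with h1 | h1
    · exact le_of_dvd_div hd0 (by omega) h1 (by omega)
    · exact (le_of_dvd_div hd0 (by omega) h1 (by omega)).trans (by omega)
  -- orbit
  have horb : ∀ y ∈ MulAction.orbit PSL₂ (k : OnePoint K), ∃ z ∈ Q, y = (z : OnePoint K) := by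
    rintro y ⟨g, rfl⟩
    show ∃ z ∈ Q, pemb ι g (k : OnePoint K) = (z : OnePoint K)
    have h1 : Fr (pemb ι g (k : OnePoint K)) ≠ pemb ι g (k : OnePoint K) := by
      rw [← heq, hFrk]
      intro h
      exact hkne ((pemb ι g).injective h).symm
    have h2 : Fr (Fr (pemb ι g (k : OnePoint K))) = pemb ι g (k : OnePoint K) := by
      rw [← heq, ← heq, hFrk, hFrk, ← pow_mul, ← pow_two, hk1]
    generalize pemb ι g (k : OnePoint K) = y at h1 h2
    cases y with
    | infty => exact absurd rfl h1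
    | coe z =>
      refine ⟨z, ?_, rfl⟩
      rw [hmemQ]
      rw [hFrk, hFrk, ← pow_mul, ← pow_two] at h2
      rw [hFrk] at h1
      exact ⟨coe_inj'.1 h2, fun h => h1 (by rw [h])⟩
  have horbsub : MulAction.orbit PSL₂ (k : OnePoint K) ⊆ ((Q.image (fun z : K => (z : OnePoint K)) : Finset (OnePoint K)) : Set (OnePoint K)) := by
    intro y hy
    obtain ⟨z, hz, rfl⟩ := horb y hy
    rw [Finset.mem_coe, Finset.mem_image]
    exact ⟨z, hz, rfl⟩
  have hQic : (Q.image (fun z : K => (z : OnePoint K))).card = Q.card :=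
    Finset.card_image_of_injective _ OnePoint.coe_injective
  have hmul := card_orbit_mul' (Γ := PSL₂) (k : OnePoint K)
  have hcardG := card_PSL2 (F := F) rfl
  rw [← hq] at hcardG
  obtain ⟨n, hn⟩ : ∃ n, n = Nat.card (MulAction.orbit PSL₂ (k : OnePoint K)) := ⟨_, rfl⟩
  have hnle : n ≤ Q.card := by
    rw [hn, ← hQic, ← Set.ncard_coe_finset, Nat.card_coe_set_eq]
    exact Set.ncard_le_ncard horbsub (Finset.finite_toSet _)
  have hmul' : n * Nat.card S = Nat.card PSL₂ := by rw [hn]; exact hmul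
  have hprod : n * (Nat.gcd 2 (q - 1) * Nat.card S) = Q.card * (q + 1) := by
    have h1 : n * (Nat.gcd 2 (q - 1) * Nat.card S) = Nat.gcd 2 (q - 1) * (n * Nat.card S) := by ring
    rw [h1, hmul', hcardG]
    have h2 : Q.card = q * (q - 1) := by
      obtain ⟨t, ht⟩ : ∃ t, q = t + 1 := ⟨q - 1, by omega⟩
      rw [ht, Nat.add_sub_cancel]
      rw [ht] at hQc
      have : (t + 1) ^ 2 = (t + 1) * t + (t + 1) := by ring
      omega
    rw [h2]
    obtain ⟨t, ht⟩ : ∃ t, q = t + 1 := ⟨q - 1, by omega⟩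
    rw [ht, Nat.add_sub_cancel]
    have : (t + 1) ^ 2 = t * (t + 2) + 1 := by ring
    rw [this, Nat.add_sub_cancel]; ring
  have hSeq : Nat.gcd 2 (q - 1) * Nat.card S = q + 1 := by
    by_contra hne
    have h1 : Nat.gcd 2 (q - 1) * Nat.card S ≤ q := by omega
    have h2 : n * (Nat.gcd 2 (q - 1) * Nat.card S) ≤ Q.card * q := Nat.mul_le_mul hnle h1
    rw [hprod, Nat.mul_succ] at h2
    omega
  have hneq : n = Q.card := by
    rw [hSeq] at hprod
    exact Nat.eq_of_mul_eq_mul_right (by omega) hprod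
  have horbeq : MulAction.orbit PSL₂ (k : OnePoint K) = ((Q.image (fun z : K => (z : OnePoint K)) : Finset (OnePoint K)) : Set (OnePoint K)) := by
    apply Set.eq_of_subset_of_ncard_le horbsub
    · rw [Set.ncard_coe_finset, hQic, ← hneq, hn, Nat.card_coe_set_eq]
  have hkq : ((k ^ q : K) : OnePoint K) ∈ MulAction.orbit PSL₂ (k : OnePoint K) := by
    rw [horbeq, Finset.mem_coe, Finset.mem_image]
    refine ⟨k ^ q, ?_, rfl⟩
    rw [hmemQ]
    constructor
    · rw [← pow_mul, mul_comm, pow_mul, hk1]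
    · intro h
      apply hk2
      apply φ.injective
      rw [hφ, hφ]; exact h
  obtain ⟨w, hw⟩ := hkq
  have hw1 : pemb ι w (k : OnePoint K) = ((k ^ q : K) : OnePoint K) := hw
  have hw2 : pemb ι w ((k ^ q : K) : OnePoint K) = (k : OnePoint K) := by
    rw [← hFrk, heq, hw1, hFrk, ← pow_mul, ← pow_two, hk1]
  refine ⟨c, w, ?_, exists_dihedral_sub ι hkne (c : PSL₂) w (hSk c c.2) (hSk2 c c.2) hw1 hw2⟩
  rw [hco, mul_comm, hSeq]

theorem exists_dihedral_plus (p : ℕ) [hp : Fact p.Prime] [CharP F p] :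
    ∃ c w : PSL₂, orderOf c * Nat.gcd 2 (Fintype.card F - 1) = Fintype.card F - 1 ∧
      ∃ H : Subgroup PSL₂, c ∈ H ∧ w ∈ H ∧ w * w = 1 ∧ w * c * w = c⁻¹ ∧ Nonempty (H ≃* DihedralGroup (orderOf c)) := by
  classical
  obtain ⟨z, hz⟩ := IsCyclic.exists_generator (α := Fˣ)
  have hzo : orderOf z = Fintype.card F - 1 := by
    rw [orderOf_eq_card_of_forall_mem_zpowers hz, Nat.card_eq_fintype_card, Fintype.card_units]
  have hlt : 1 < Fintype.card F := Fintype.one_lt_card
  let C : Matrix.SpecialLinearGroup (Fin 2) F := mkSL (z : F) 0 0 ((z⁻¹ : Fˣ) : F) (by simp)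
  let W : Matrix.SpecialLinearGroup (Fin 2) F := mkSL 0 (-1) 1 0 (by ring)
  have hid : ∀ A : Matrix.SpecialLinearGroup (Fin 2) F, Matrix.SpecialLinearGroup.map (RingHom.id F) A = A := by
    intro A; apply Subtype.ext; ext i j; rfl
  have hCk : ∀ k : F, slPerm F C (k : OnePoint F) = ((((z ^ 2 : Fˣ) : F) * k : F) : OnePoint F) := by
    intro k
    rw [slPerm_mkSL_some, zero_mul, zero_add, if_neg (z⁻¹).ne_zero]
    congr 1
    push_cast
    field_simp
    ring
  have hCi : slPerm F C ∞ = ∞ := by rw [slPerm_mkSL_infty, if_pos rfl]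
  have hCn : ∀ (n : ℕ) (k : F), (slPerm F C ^ n) (k : OnePoint F) = (((((z ^ 2) ^ n : Fˣ) : F) * k : F) : OnePoint F) := by
    intro n
    induction n with
    | zero => intro k; simp
    | succ n ih =>
      intro k
      rw [pow_succ, Equiv.Perm.mul_apply, hCk, ih]
      congr 1
      push_cast
      ring
  have hord : orderOf (QuotientGroup.mk C : PSL₂) = orderOf (z ^ 2) := by
    rw [← orderOf_injective (pemb (RingHom.id F)) (pemb_injective _), pemb_mk, hid]
    apply orderOf_eq_orderOf_iff.2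
    intro n
    constructor
    · intro h
      have h1 := hCn n 1
      rw [h] at h1
      have h2 := coe_inj'.1 h1
      rw [mul_one] at h2
      exact Units.ext h2.symm
    · intro h
      apply perm_ext
      · rw [pow_infty hCi]; rfl
      · intro k
        rw [hCn, h]; simp
  refine ⟨QuotientGroup.mk C, QuotientGroup.mk W, ?_, exists_dihedral_sub (RingHom.id F) (a := ∞) (b := ((0 : F) : OnePoint F)) (OnePoint.infty_ne_coe _) _ _ ?_ ?_ ?_ ?_⟩
  · rw [hord, orderOf_pow, hzo, Nat.gcd_comm]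
    exact Nat.div_mul_cancel (Nat.gcd_dvd_right _ _)
  · rw [pemb_mk, hid, hCi]
  · rw [pemb_mk, hid, hCk, mul_zero]
  · rw [pemb_mk, hid, slPerm_mkSL_infty]; simp
  · rw [pemb_mk, hid, slPerm_mkSL_some]; simp

end

end Cfsg.Agent.H5
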