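import Cfsg.Agent.H5.Dk15
set_option autoImplicit false
set_option linter.style.haveILetI false
set_option linter.unusedSectionVars false

/-! Maximality of the dihedral subgroups of `PSL₂(q)`. -/

namespace Cfsg.Agent.H5

open OnePoint Cfsg.Agent.H4 Cfsg.Agent.H2

theorem a5_order_le (x : alternatingGroup (Fin 5)) : orderOf x ∣ 2 ∨ orderOf x ∣ 3 ∨ orderOf x ∣ 5 := by
  have h : x ^ 2 = 1 ∨ x ^ 3 = 1 ∨ x ^ 5 = 1 := by
    revert x
    decide +kernel
  rcases h with h | h | h
  · exact Or.inl (orderOf_dvd_of_pow_eq_one h)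
  · exact Or.inr (Or.inl (orderOf_dvd_of_pow_eq_one h))
  · exact Or.inr (Or.inr (orderOf_dvd_of_pow_eq_one h))

theorem a4_no_six (H : Subgroup (alternatingGroup (Fin 4))) (h : Nat.card H = 6) : False := by
  have h1 := H.card_mul_index
  rw [h, card_A4'] at h1
  have h2 : H.index = 2 := by omega
  have h3 : ∀ x : alternatingGroup (Fin 4), x ^ 3 = 1 → x ∈ H := by
    intro x hx
    have h4 : (x ^ 2) ^ 2 = x := by
      rw [← pow_mul]
      calc x ^ 4 = x ^ 3 * x := by rw [← pow_succ]
        _ = x := by rw [hx, one_mul]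
    rw [← h4]
    exact Subgroup.sq_mem_of_index_two h2 _
  have h5 : Nat.card {x : alternatingGroup (Fin 4) // x ^ 3 = 1} = 9 := by
    rw [Nat.card_eq_fintype_card]; decide +kernel
  have h6 : Nat.card {x : alternatingGroup (Fin 4) // x ^ 3 = 1} ≤ Nat.card H :=
    Nat.card_le_card_of_injective (fun x => (⟨x.1, h3 x.1 x.2⟩ : H)) (by
      intro x y hxy
      have h7 := congrArg (fun z : H => (z : alternatingGroup (Fin 4))) hxy
      exact Subtype.ext h7)
  omega

section
variable {K : Type*} [Field K] [DecidableEq K]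
variable (p : ℕ) [hp : Fact p.Prime] [CharP K p]

theorem comm_pow_of_fix {x y : Equiv.Perm (OnePoint K)} (hx : x ∈ (slPerm K).range) (hy : y ∈ (slPerm K).range) {a : OnePoint K}
    (xa : x a = a) (ya : y a = a) : (x * y * x⁻¹ * y⁻¹) ^ p = 1 := by
  obtain ⟨g, hg, ga⟩ := exists_conj_infty a
  have i1 := conj_app ga ga xa
  have i2 := conj_app ga ga ya
  obtain ⟨α, β, hα, h1⟩ := aff_of_fix (conj_range hg hx) i1
  obtain ⟨γ, δ, hγ, h2⟩ := aff_of_fix (conj_range hg hy) i2
  have e : x * y * x⁻¹ * y⁻¹ = g⁻¹ * ((g * x * g⁻¹) * (g * y * g⁻¹) * (g * x * g⁻¹)⁻¹ * (g * y * g⁻¹)⁻¹) * g := by group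
  have hX := conj_range hg hx
  have hY := conj_range hg hy
  rw [e]
  generalize g * x * g⁻¹ = X at *
  generalize g * y * g⁻¹ = Y at *
  have hZr : X * Y * X⁻¹ * Y⁻¹ ∈ (slPerm K).range := mul_mem (mul_mem (mul_mem hX hY) (inv_mem hX)) (inv_mem hY)
  have hZ : (X * Y * X⁻¹ * Y⁻¹) * (Y * X) = X * Y := by group
  have j : (X * Y * X⁻¹ * Y⁻¹) ∞ = ∞ := by
    have := congrArg (fun σ : Equiv.Perm (OnePoint K) => σ ∞) hZ
    simp only [Equiv.Perm.mul_apply] at this ⊢
    rw [i1, i2, i1] at this
    exact this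
  generalize X * Y * X⁻¹ * Y⁻¹ = Z at *
  obtain ⟨ζ, η, hζ, h3⟩ := aff_of_fix hZr j
  have key : ∀ k : K, ζ * (γ * (α * k + β) + δ) + η = α * (γ * k + δ) + β := by
    intro k
    have := congrArg (fun σ : Equiv.Perm (OnePoint K) => σ (k : OnePoint K)) hZ
    simp only [Equiv.Perm.mul_apply] at this
    rw [h1, h2, h3, h2, h1] at this
    exact coe_inj'.1 this
  have k0 := key 0
  have k1 := key 1
  have hζ1 : ζ = 1 := by
    have h4 : (ζ - 1) * (γ * α) = 0 := by linear_combination k1 - k0
    rcases mul_eq_zero.1 h4 with h | h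
    · linear_combination h
    · exact absurd h (mul_ne_zero hγ hα)
  have h5 : Z ^ p = 1 := by
    apply perm_ext
    · exact pow_infty j p
    · intro k
      rw [pow_trans (fun k => by rw [h3, hζ1, one_mul]) p k, CharP.cast_eq_zero]
      simp
  have : (g⁻¹ * Z * g) ^ p = g⁻¹ * Z ^ p * g := by
    have := conj_pow (a := g⁻¹) (b := Z) (i := p)
    rwa [inv_inv] at this
  rw [this, h5]; group

end

section
variable {F : Type*} [Field F] [Fintype F]

local notation "PSL₂" => Matrix.ProjectiveSpecialLinearGroup (Fin 2) F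

theorem card_pstab [DecidableEq F] (a : OnePoint F) :
    Nat.gcd 2 (Fintype.card F - 1) * Nat.card (pstab a) = Fintype.card F * (Fintype.card F - 1) := by
  have h1 := (pstab a).card_mul_index
  rw [index_pstab] at h1
  have h2 := card_PSL2 (F := F) rfl
  rw [← h1] at h2
  have hlt : 1 < Fintype.card F := Fintype.one_lt_card
  obtain ⟨t, ht⟩ : ∃ t, Fintype.card F = t + 1 := ⟨Fintype.card F - 1, by omega⟩
  rw [ht, Nat.add_sub_cancel] at h2 ⊢
  have h3 : (t + 1) ^ 2 - 1 = t * (t + 2) := by
    have : (t + 1) ^ 2 = t * (t + 2) + 1 := by ring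
    rw [this, Nat.add_sub_cancel]
  rw [h3] at h2
  apply Nat.eq_of_mul_eq_mul_right (show 0 < t + 1 + 1 by omega)
  rw [mul_assoc, h2]; ring

/-- common part of the two maximality arguments -/
theorem dihedral_over {n : ℕ} {H M : Subgroup PSL₂} (hHM : H < M) (e : Nonempty (H ≃* DihedralGroup n)) :
    2 * n ∣ Nat.card M ∧ 4 * n ≤ Nat.card M := by
  obtain ⟨e⟩ := e
  have h1 : Nat.card H = 2 * n := by rw [Nat.card_congr e.toEquiv, DihedralGroup.nat_card]
  have h2 := Subgroup.card_dvd_of_le hHM.le
  rw [h1] at h2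
  refine ⟨h2, ?_⟩
  obtain ⟨k, hk⟩ := h2
  have h3 : Nat.card M ≠ Nat.card H := by
    intro h4
    exact hHM.ne (Subgroup.eq_of_le_of_card_ge hHM.le (le_of_eq h4))
  rw [h1] at h3
  have hpos : 0 < Nat.card M := Nat.card_pos
  have hk0 : k ≠ 0 := by rintro rfl; rw [mul_zero] at hk; omega
  have hk1 : k ≠ 1 := by rintro rfl; rw [mul_one] at hk; exact h3 hk
  rw [hk]
  calc 4 * n = 2 * n * 2 := by ring
    _ ≤ 2 * n * k := Nat.mul_le_mul_left _ (by omega)

theorem max_dihedral_minus {q : ℕ} (hF : Fintype.card F = q) (hq : q ∉ ({2, 7, 9} : Finset ℕ)) :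
    ∃ H : Subgroup PSL₂, IsCoatom H ∧ Nonempty (H ≃* DihedralGroup ((q + 1) / Nat.gcd 2 (q - 1))) := by
  classical
  obtain ⟨p, hp⟩ := CharP.exists F
  haveI : Fact p.Prime := ⟨CharP.char_is_prime F p⟩
  simp only [Finset.mem_insert, Finset.mem_singleton, not_or] at hq
  obtain ⟨q2, q7, q9⟩ := hq
  have hlt : 1 < Fintype.card F := Fintype.one_lt_card
  have hcardG := card_PSL2 (F := F) rfl
  obtain ⟨c, w, hc, H, hcH, hwH, -, -, e⟩ := exists_dihedral_minus (F := F) p
  have hgc := gcd_cases (F := F) p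
  rw [hF] at hlt hcardG hc hgc
  obtain ⟨d, hd⟩ : ∃ d, d = Nat.gcd 2 (q - 1) := ⟨_, rfl⟩
  rw [← hd] at hcardG hc hgc
  have hpar : (d = 1 ∧ q % 2 = 0) ∨ (d = 2 ∧ q % 2 = 1) := by
    rcases hgc with ⟨-, h1, r, h2, h3⟩ | ⟨-, h1, h2⟩
    · exact Or.inl ⟨h1, by rw [h2]; exact Nat.mod_eq_zero_of_dvd (dvd_pow_self _ (by omega))⟩
    · exact Or.inr ⟨h1, h2⟩
  clear hgc
  have hd12 : d = 1 ∨ d = 2 := by omega
  obtain ⟨n, hn⟩ : ∃ n, n = orderOf c := ⟨_, rfl⟩
  rw [← hn] at hc e
  have hn' : (q + 1) / Nat.gcd 2 (q - 1) = n := by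
    rw [← hd, ← hc]; exact Nat.mul_div_cancel _ (by omega)
  refine ⟨H, ?_, by rw [hn']; exact e⟩
  -- order of `H`
  have hHc : Nat.card H = 2 * n := by
    obtain ⟨e⟩ := e
    rw [Nat.card_congr e.toEquiv, DihedralGroup.nat_card]
  -- every proper subgroup containing `H` is `H`
  have hn1 : 2 ≤ n := by
    rcases hd12 with h | h <;> rw [h] at hc <;> omega
  have key : ∀ M : Subgroup PSL₂, H < M → M = ⊤ := by
    intro M hHM
    by_contra hM
    obtain ⟨h2n, h4n⟩ := dihedral_over hHM e
    have hcM : c ∈ M := hHM.le hcH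
    have hNM := Subgroup.card_subgroup_dvd_card M
    have hneM : Nat.card M ≠ Nat.card PSL₂ := fun h1 => hM (Subgroup.eq_top_of_card_eq M h1)
    have horc : orderOf (⟨c, hcM⟩ : M) = n := by rw [hn]; exact Subgroup.orderOf_mk _ _
    rcases dickson p M with ⟨k, hk, h⟩ | ⟨P, hP⟩ | ⟨⟨f⟩⟩ | ⟨⟨f⟩⟩ | ⟨⟨f⟩⟩ | ⟨C, i1, i2, m, hm, h⟩
    · rw [hF] at hk
      have hcard : Nat.card M ≤ 2 * k := by
        rcases h with ⟨-, h⟩ | ⟨⟨e⟩⟩
        · omega
        · rw [Nat.card_congr e.toEquiv, DihedralGroup.nat_card]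
      have hkn : k ≤ n := by
        rcases hk with hk | hk
        · rw [hn'] at hk
          exact Nat.le_of_dvd (by omega) hk
        · have h1 : d * k ≤ q - 1 := le_of_dvd_div (by omega) (by omega) (hd ▸ hk) (by omega)
          by_contra hcon
          have h2 : n + 1 ≤ k := by omega
          have h3 : d * (n + 1) ≤ q - 1 := (Nat.mul_le_mul_left d h2).trans h1
          rw [Nat.mul_succ, mul_comm d n, hc] at h3
          omega
      omega
    · obtain ⟨a, ha⟩ := sylow_norm_le (F := F) p P
      have h1 := Subgroup.card_dvd_of_le (hP.trans ha)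
      have h2 := card_pstab (F := F) a
      rw [hF, ← hd] at h2
      have h3 : 2 * (q + 1) ∣ q * (q - 1) := by
        rw [← h2, ← hc]
        calc 2 * (n * d) = d * (2 * n) := by ring
          _ ∣ d * Nat.card (pstab a) := Nat.mul_dvd_mul_left _ (h2n.trans h1)
      have h4 : (q + 1) ∣ q * (q - 1) := (Dvd.intro_left 2 rfl).trans h3
      have h5 : Nat.Coprime (q + 1) q := by
        rw [Nat.coprime_comm]; exact (Nat.coprime_self_add_right).2 (Nat.coprime_one_right q)
      have h6 := h5.dvd_of_dvd_mul_left h4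
      have := Nat.le_of_dvd (by omega) h6
      omega
    · have hc12 : Nat.card M = 12 := by rw [Nat.card_congr f.toEquiv, card_A4']
      rw [hc12] at h4n h2n hNM hneM
      have hn3 : n ≤ 3 := by omega
      rcases hd12 with h | h
      · rw [h] at hc; omega
      · rw [h] at hc hcardG
        have : n = 2 ∨ n = 3 := by omega
        rcases this with h5 | h5
        · have hq3 : q = 3 := by omega
          rw [hq3] at hcardG
          omega
        · -- `A4` has no subgroup of order 6
          let H' : Subgroup (alternatingGroup (Fin 4)) := (H.subgroupOf M).map f.toMonoidHom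
          apply a4_no_six H'
          rw [← Nat.card_congr (Subgroup.equivMapOfInjective (H.subgroupOf M) _ f.injective).toEquiv,
            Nat.card_congr (Subgroup.subgroupOfEquivOfLe hHM.le).toEquiv, hHc, h5]
    · have hc24 : Nat.card M = 24 := by rw [Nat.card_congr f.toEquiv, card_S4']
      rw [hc24] at h4n h2n hNM hneM
      have hn6 : n ≤ 6 := by omega
      have h2n' : n = 2 ∨ n = 3 ∨ n = 4 ∨ n = 6 := by
        have : n ∣ 12 := by
          obtain ⟨k, hk⟩ := h2n
          exact ⟨k, by rw [mul_assoc] at hk; omega⟩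
        interval_cases n <;> first | omega | (exfalso; revert this; decide)
      rcases hd12 with h | h
      · rw [h] at hc hcardG
        have h8 : q = 2 ∨ q = 3 ∨ q = 5 := by omega
        have h9 : q = 2 := by omega
        exact q2 h9
      · rw [h] at hc hcardG
        rcases h2n' with h5 | h5 | h5 | h5
        · have hq3 : q = 3 := by omega
          rw [hq3] at hcardG
          have : Nat.card PSL₂ = 12 := by omega
          rw [this] at hNM; revert hNM; decide
        · have hq3 : q = 5 := by omega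
          rw [hq3] at hcardG
          have : Nat.card PSL₂ = 60 := by omega
          rw [this] at hNM; revert hNM; decide
        · omega
        · have hq3 : q = 11 := by omega
          rw [hq3] at hcardG
          have : Nat.card PSL₂ = 660 := by omega
          rw [this] at hNM; revert hNM; decide
    · have hc60 : Nat.card M = 60 := by rw [Nat.card_congr f.toEquiv, card_A5']
      rw [hc60] at h4n h2n hNM hneM
      have h5 : n ∣ 2 ∨ n ∣ 3 ∨ n ∣ 5 := by
        have := a5_order_le (f ⟨c, hcM⟩)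
        rwa [MulEquiv.orderOf_eq, horc] at this
      have h6 : n = 2 ∨ n = 3 ∨ n = 5 := by
        rcases h5 with h5 | h5 | h5
        · rcases (Nat.dvd_prime Nat.prime_two).1 h5 with h | h <;> omega
        · rcases (Nat.dvd_prime Nat.prime_three).1 h5 with h | h <;> omega
        · rcases (Nat.dvd_prime Nat.prime_five).1 h5 with h | h <;> omega
      rcases hd12 with h | h
      · rw [h] at hc hcardG
        rcases h6 with h6 | h6 | h6
        · omega
        · omega
        · have hq4 : q = 4 := by omega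
          rw [hq4] at hcardG
          omega
      · rw [h] at hc hcardG
        rcases h6 with h6 | h6 | h6
        · have hq4 : q = 3 := by omega
          rw [hq4] at hcardG
          have : Nat.card PSL₂ = 12 := by omega
          rw [this] at hNM; revert hNM; decide
        · have hq4 : q = 5 := by omega
          rw [hq4] at hcardG
          omega
        · omega
    · obtain ⟨hm2, hc2, hC, hle, hord⟩ := sub_types hM hm h
      have h1 := hord ⟨c, hcM⟩
      rw [horc] at h1
      rw [hF] at hc2 hm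
      obtain ⟨t, ht⟩ : ∃ t, Fintype.card C = t + 2 := ⟨Fintype.card C - 2, by omega⟩
      rw [ht] at hc2 h1
      have e1 : (t + 2) ^ 2 = t * t + 4 * t + 4 := by ring
      rw [e1] at hc2
      have e2 : 0 ≤ t * t := Nat.zero_le _
      rcases hd12 with h | h
      · rw [h] at hc; omega
      · rw [h] at hc
        have : t = 0 := by
          rcases Nat.eq_zero_or_pos t with h | h
          · exact h
          · have : t ≤ t * t := Nat.le_mul_self t
            omega
        -- `q` is odd, `C` has two elements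
        rcases hpar with ⟨h7, -⟩ | ⟨-, h8⟩
        · omega
        · rw [ht, this] at hm
          rw [← hm] at h8
          have : (0 + 2) ^ m % 2 = 0 := by
            rw [zero_add]
            exact Nat.mod_eq_zero_of_dvd (dvd_pow_self _ (by omega))
          omega
  constructor
  · intro h
    have h1 := Subgroup.card_top (G := PSL₂)
    rw [← h, hHc] at h1
    rw [← h1] at hcardG
    -- `d * 2n = q (q²-1)`
    have h2 : d * (2 * n) = 2 * (q + 1) := by rw [← hc]; ring
    rw [h2] at hcardG
    obtain ⟨t, ht⟩ : ∃ t, q = t + 2 := ⟨q - 2, by omega⟩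
    rw [ht] at hcardG
    have e1 : (t + 2) ^ 2 - 1 = (t + 1) * (t + 2 + 1) := by
      have : (t + 2) ^ 2 = (t + 1) * (t + 2 + 1) + 1 := by ring
      rw [this, Nat.add_sub_cancel]
    rw [e1] at hcardG
    have h3 : (t + 2) * (t + 1) = 2 := by
      apply Nat.eq_of_mul_eq_mul_right (show 0 < t + 2 + 1 by omega)
      rw [hcardG]; ring
    have h4 : 0 < t := by omega
    nlinarith
  · intro M hM
    exact key M hM

theorem max_dihedral_plus {q : ℕ} (hF : Fintype.card F = q) (hq : q ∉ ({2, 3, 5, 7, 9, 11} : Finset ℕ)) :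
    ∃ H : Subgroup PSL₂, IsCoatom H ∧ Nonempty (H ≃* DihedralGroup ((q - 1) / Nat.gcd 2 (q - 1))) := by
  classical
  obtain ⟨p, hp⟩ := CharP.exists F
  haveI : Fact p.Prime := ⟨CharP.char_is_prime F p⟩
  simp only [Finset.mem_insert, Finset.mem_singleton, not_or] at hq
  obtain ⟨q2, q3, q5, q7, q9, q11⟩ := hq
  have hlt : 1 < Fintype.card F := Fintype.one_lt_card
  have hcardG := card_PSL2 (F := F) rfl
  obtain ⟨c, w, hc, H, hcH, hwH, hww, hwcw, e⟩ := exists_dihedral_plus (F := F) p
  have hgc := gcd_cases (F := F) p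
  rw [hF] at hlt hcardG hc hgc
  obtain ⟨d, hd⟩ : ∃ d, d = Nat.gcd 2 (q - 1) := ⟨_, rfl⟩
  rw [← hd] at hcardG hc hgc
  have hpar : (d = 1 ∧ p = 2 ∧ q % 2 = 0 ∧ (q = 4 ∨ q = 8 ∨ 16 ≤ q)) ∨ (d = 2 ∧ q % 2 = 1 ∧ 13 ≤ q) := by
    rcases hgc with ⟨hp2, h1, r, h2, h3⟩ | ⟨-, h1, h2⟩
    · refine Or.inl ⟨h1, hp2, by rw [h2]; exact Nat.mod_eq_zero_of_dvd (dvd_pow_self _ (by omega)), ?_⟩
      rcases Nat.lt_or_ge r 4 with h4 | h4
      · interval_cases r
        · omega
        · left; rw [h2]; norm_num
        · right; left; rw [h2]; norm_num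
      · right; right
        rw [h2]
        calc 16 = 2 ^ 4 := by norm_num
          _ ≤ 2 ^ r := Nat.pow_le_pow_right (by norm_num) h4
    · exact Or.inr ⟨h1, h2, by omega⟩
  clear hgc
  have hd12 : d = 1 ∨ d = 2 := by omega
  obtain ⟨n, hn⟩ : ∃ n, n = orderOf c := ⟨_, rfl⟩
  rw [← hn] at hc e
  have hn' : (q - 1) / Nat.gcd 2 (q - 1) = n := by
    rw [← hd, ← hc]; exact Nat.mul_div_cancel _ (by omega)
  refine ⟨H, ?_, by rw [hn']; exact e⟩
  have hHc : Nat.card H = 2 * n := by
    obtain ⟨e⟩ := e
    rw [Nat.card_congr e.toEquiv, DihedralGroup.nat_card]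
  have hn1 : 3 ≤ n := by
    rcases hd12 with h | h <;> rw [h] at hc <;> omega
  have key : ∀ M : Subgroup PSL₂, H < M → M = ⊤ := by
    intro M hHM
    by_contra hM
    obtain ⟨h2n, h4n⟩ := dihedral_over hHM e
    have hcM : c ∈ M := hHM.le hcH
    have hwM : w ∈ M := hHM.le hwH
    have hNM := Subgroup.card_subgroup_dvd_card M
    have hneM : Nat.card M ≠ Nat.card PSL₂ := fun h1 => hM (Subgroup.eq_top_of_card_eq M h1)
    have horc : orderOf (⟨c, hcM⟩ : M) = n := by rw [hn]; exact Subgroup.orderOf_mk _ _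
    rcases dickson p M with ⟨k, hk, h⟩ | ⟨P, hP⟩ | ⟨⟨f⟩⟩ | ⟨⟨f⟩⟩ | ⟨⟨f⟩⟩ | ⟨C, i1, i2, m, hm, h⟩
    · rw [hF] at hk
      have hcard : Nat.card M ≤ 2 * k := by
        rcases h with ⟨-, h⟩ | ⟨⟨e⟩⟩
        · omega
        · rw [Nat.card_congr e.toEquiv, DihedralGroup.nat_card]
      have hkn : d * k ≤ q + 1 := by
        rcases hk with hk | hk
        · exact le_of_dvd_div (by omega) (by omega) (hd ▸ hk) (by omega)
        · exact (le_of_dvd_div (by omega) (by omega) (hd ▸ hk) (by omega)).trans (by omega)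
      have h1 : 2 * n ≤ k := by omega
      have h2 : d * (2 * n) ≤ d * k := Nat.mul_le_mul_left d h1
      have h3 : d * (2 * n) = 2 * (q - 1) := by rw [← hc]; ring
      omega
    · obtain ⟨a, ha⟩ := sylow_norm_le (F := F) p P
      have h1 := Subgroup.card_dvd_of_le (hP.trans ha)
      have h2 := card_pstab (F := F) a
      rw [hF, ← hd] at h2
      have h3 : 2 * (q - 1) ∣ q * (q - 1) := by
        rw [← h2]
        calc 2 * (q - 1) = d * (2 * n) := by rw [← hc]; ring
          _ ∣ d * Nat.card (pstab a) := Nat.mul_dvd_mul_left _ (h2n.trans h1)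
      have h4 : 2 ∣ q := Nat.dvd_of_mul_dvd_mul_right (by omega) h3
      have hp2 : p = 2 := by omega
      have hd1 : d = 1 := by omega
      have hca : pemb (RingHom.id F) c a = a := (hP.trans ha) hcM
      have hwa : pemb (RingHom.id F) w a = a := (hP.trans ha) hwM
      have h5 := comm_pow_of_fix p (pemb_range _ c) (pemb_range _ w) hca hwa
      have h6 : c * w * c⁻¹ * w⁻¹ = c ^ 2 := by
        have h7 : w⁻¹ = w := inv_eq_of_mul_eq_one_left hww
        rw [h7]
        have h8 : w * c⁻¹ * w = c := by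
          have := congrArg (fun z => z⁻¹) hwcw
          simp only [mul_inv_rev, inv_inv, h7] at this
          rw [← mul_assoc] at this
          exact this
        calc c * w * c⁻¹ * w = c * (w * c⁻¹ * w) := by group
          _ = c ^ 2 := by rw [h8, pow_two]
      rw [← map_inv, ← map_inv, ← map_mul, ← map_mul, ← map_mul, h6, ← map_pow, hp2] at h5
      have h7 : (c ^ 2) ^ 2 = 1 := by
        apply pemb_injective (RingHom.id F)
        rw [h5, map_one]
      rw [← pow_mul] at h7
      have h8 := orderOf_dvd_of_pow_eq_one h7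
      rw [← hn] at h8
      have h9 := Nat.le_of_dvd (by norm_num) h8
      rw [hd1, mul_one] at hc
      have : n = 3 ∨ n = 4 := by omega
      rcases this with h | h
      · rw [h] at h8; omega
      · omega
    · have hc12 : Nat.card M = 12 := by rw [Nat.card_congr f.toEquiv, card_A4']
      rw [hc12] at h4n h2n hNM hneM
      have h5 : n = 3 := by omega
      let H' : Subgroup (alternatingGroup (Fin 4)) := (H.subgroupOf M).map f.toMonoidHom
      apply a4_no_six H'
      rw [← Nat.card_congr (Subgroup.equivMapOfInjective (H.subgroupOf M) _ f.injective).toEquiv,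
        Nat.card_congr (Subgroup.subgroupOfEquivOfLe hHM.le).toEquiv, hHc, h5]
    · have hc24 : Nat.card M = 24 := by rw [Nat.card_congr f.toEquiv, card_S4']
      rw [hc24] at h4n h2n hNM hneM
      have hn6 : n ≤ 6 := by omega
      rcases hd12 with h | h
      · rw [h] at hc hcardG
        have hq4 : q = 4 := by omega
        rw [hq4] at hcardG
        have : Nat.card PSL₂ = 60 := by omega
        rw [this] at hNM; revert hNM; decide
      · rw [h] at hc hcardG
        have hq4 : q = 13 := by omega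
        rw [hq4] at hcardG
        have : Nat.card PSL₂ = 1092 := by omega
        rw [this] at hNM; revert hNM; decide
    · have hc60 : Nat.card M = 60 := by rw [Nat.card_congr f.toEquiv, card_A5']
      rw [hc60] at h4n h2n hNM hneM
      have h5 : n ∣ 2 ∨ n ∣ 3 ∨ n ∣ 5 := by
        have := a5_order_le (f ⟨c, hcM⟩)
        rwa [MulEquiv.orderOf_eq, horc] at this
      have h6 : n ≤ 5 := by
        rcases h5 with h5 | h5 | h5 <;> have := Nat.le_of_dvd (by norm_num) h5 <;> omega
      have hd1 : d = 1 := by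
        rcases hd12 with h | h
        · exact h
        · rw [h] at hc; omega
      rw [hd1] at hc hcardG
      have hq4 : q = 4 := by omega
      rw [hq4] at hcardG
      omega
    · obtain ⟨hm2, hc2, hC, hle, hord⟩ := sub_types hM hm h
      have h1 := hord ⟨c, hcM⟩
      rw [horc] at h1
      rw [hF] at hc2 hm
      obtain ⟨t, ht⟩ : ∃ t, Fintype.card C = t + 2 := ⟨Fintype.card C - 2, by omega⟩
      rw [ht] at hc2 h1 hle
      have e1 : (t + 2) ^ 2 = t * t + 4 * t + 4 := by ring
      rw [e1] at hc2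
      rcases hd12 with h | h
      · rw [h] at hc
        have : t = 0 := by
          rcases Nat.eq_zero_or_pos t with h | h
          · exact h
          · have : t ≤ t * t := Nat.le_mul_self t
            omega
        rw [this] at hle hc2 h1
        have h66 : (0 + 2) * ((0 + 2) ^ 2 - 1) = 6 := by norm_num
        rw [h66] at hle
        omega
      · rw [h] at hc
        have h9 : t * t + 4 * t + 4 ≤ 2 * (t + 2 + 1) + 1 := by omega
        have : t ≤ 1 := by
          by_contra hcon
          have : 2 ≤ t := by omega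
          nlinarith
        have h10 : n ≤ 4 := by omega
        omega
  constructor
  · intro h
    have h1 := Subgroup.card_top (G := PSL₂)
    rw [← h, hHc] at h1
    rw [← h1] at hcardG
    have h2 : d * (2 * n) = 2 * (q - 1) := by rw [← hc]; ring
    rw [h2] at hcardG
    obtain ⟨t, ht⟩ : ∃ t, q = t + 2 := ⟨q - 2, by omega⟩
    rw [ht] at hcardG
    have e1 : (t + 2) ^ 2 - 1 = (t + 3) * (t + 1) := by
      have : (t + 2) ^ 2 = (t + 3) * (t + 1) + 1 := by ring
      rw [this, Nat.add_sub_cancel]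
    rw [e1, show t + 2 - 1 = t + 1 by omega] at hcardG
    have h3 : (t + 2) * (t + 3) = 2 := by
      apply Nat.eq_of_mul_eq_mul_right (show 0 < t + 1 by omega)
      rw [hcardG]; ring
    nlinarith
  · intro M hM
    exact key M hM

end

end Cfsg.Agent.H5
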