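import Cfsg.Agent.H5.Dk16
import Cfsg.Agent.H5.PSLSimple
import Cfsg.Agent.H21.Ord120
import Cfsg.Agent.H1.Basic
set_option autoImplicit false
set_option linter.style.haveILetI false
set_option linter.unusedSectionVars false

/-! Non-solvable subgroups of `PSL₂(q)`. -/

namespace Cfsg.Agent.H5

open OnePoint Cfsg.Agent.H4 Cfsg.Agent.H2

section
variable {K : Type*} [Field K] [DecidableEq K]

theorem aff_huniq {a b c d : K} (h : ∀ k : K, ((a * k + b : K) : OnePoint K) = ((c * k + d : K) : OnePoint K)) : a = c ∧ b = d := by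
  have h0 := h 0
  have h1 := h 1
  rw [coe_inj'] at h0 h1
  have : b = d := by simpa using h0
  exact ⟨by rw [this] at h1; simpa using h1, this⟩

/-- a group of Möbius transformations fixing a point is metabelian -/
theorem solvable_of_fix (Γ : Subgroup (Equiv.Perm (OnePoint K))) (hΓ : Γ ≤ (slPerm K).range)
    {a : OnePoint K} (ha : ∀ γ ∈ Γ, γ a = a) : Group.IsSolvable Γ := by
  obtain ⟨g, hg, ga⟩ := exists_conj_infty a
  have key : ∀ γ : Γ, ∃ α β : K, α ≠ 0 ∧ ∀ k : K, (g * (γ : Equiv.Perm (OnePoint K)) * g⁻¹) (k : OnePoint K) = ((α * k + β : K) : OnePoint K) :=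
    fun γ => aff_of_fix (conj_range hg (hΓ γ.2)) (conj_app ga ga (ha γ γ.2))
  choose α β hα hk using key
  let φ : Γ →* K :=
    { toFun := α
      map_one' := by
        refine (aff_huniq (a := α 1) (b := β 1) (c := 1) (d := 0) (fun k => ?_)).1
        rw [← hk 1 k]
        simp
      map_mul' := by
        intro x y
        refine (aff_huniq (a := α (x * y)) (b := β (x * y)) (c := α x * α y) (d := α x * β y + β x) (fun k => ?_)).1
        rw [← hk (x * y) k]
        have : g * ((x * y : Γ) : Equiv.Perm (OnePoint K)) * g⁻¹ = (g * (x : Equiv.Perm (OnePoint K)) * g⁻¹) * (g * (y : Equiv.Perm (OnePoint K)) * g⁻¹) := by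
          rw [Subgroup.coe_mul]; group
        rw [this, Equiv.Perm.mul_apply, hk y, hk x]
        congr 1; ring }
  have hcomm : ∀ x y : Γ, φ x = 1 → φ y = 1 → x * y = y * x := by
    intro x y hx hy
    have hx' : α x = 1 := hx
    have hy' : α y = 1 := hy
    have h1 : (g * (x : Equiv.Perm (OnePoint K)) * g⁻¹) * (g * (y : Equiv.Perm (OnePoint K)) * g⁻¹) =
        (g * (y : Equiv.Perm (OnePoint K)) * g⁻¹) * (g * (x : Equiv.Perm (OnePoint K)) * g⁻¹) := by
      have ix := conj_app ga ga (ha x x.2)
      have iy := conj_app ga ga (ha y y.2)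
      have kx := hk x
      have ky := hk y
      generalize g * (x : Equiv.Perm (OnePoint K)) * g⁻¹ = X at *
      generalize g * (y : Equiv.Perm (OnePoint K)) * g⁻¹ = Y at *
      apply perm_ext
      · rw [Equiv.Perm.mul_apply, Equiv.Perm.mul_apply, ix, iy, ix]
      · intro k
        rw [Equiv.Perm.mul_apply, Equiv.Perm.mul_apply, kx, ky, ky, kx, hx', hy']
        congr 1; ring
    apply Subtype.ext
    show (x : Equiv.Perm (OnePoint K)) * y = y * x
    calc (x : Equiv.Perm (OnePoint K)) * y = g⁻¹ * ((g * (x : Equiv.Perm (OnePoint K)) * g⁻¹) * (g * (y : Equiv.Perm (OnePoint K)) * g⁻¹)) * g := by group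
      _ = y * x := by rw [h1]; group
  let ψ : Γ →* Kˣ := φ.toHomUnits
  haveI : Group.IsSolvable ψ.ker := by
    apply Group.isSolvable_of_comm
    intro x y
    apply Subtype.ext
    apply hcomm
    · have := x.2
      rw [MonoidHom.mem_ker] at this
      exact congrArg Units.val this
    · have := y.2
      rw [MonoidHom.mem_ker] at this
      exact congrArg Units.val this
  haveI : Group.IsSolvable Kˣ := Group.isSolvable_of_comm mul_comm
  exact Group.isSolvable_of_ker_le_range ψ.ker.subtype ψ (by rw [Subgroup.range_subtype])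

end

theorem dihedral_solvable (n : ℕ) : Group.IsSolvable (DihedralGroup n) := by
  let ψ : DihedralGroup n →* Multiplicative (ZMod 2) :=
    { toFun := fun x => match x with
        | .r _ => 1
        | .sr _ => Multiplicative.ofAdd 1
      map_one' := rfl
      map_mul' := by
        rintro (i | i) (j | j)
        · rfl
        · rfl
        · rfl
        · show (1 : Multiplicative (ZMod 2)) = Multiplicative.ofAdd 1 * Multiplicative.ofAdd 1
          decide }
  haveI : Group.IsSolvable ψ.ker := by
    apply Group.isSolvable_of_comm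
    rintro ⟨x, hx⟩ ⟨y, hy⟩
    apply Subtype.ext
    rw [MonoidHom.mem_ker] at hx hy
    rcases x with i | i
    · rcases y with j | j
      · show DihedralGroup.r i * DihedralGroup.r j = DihedralGroup.r j * DihedralGroup.r i
        rw [DihedralGroup.r_mul_r, DihedralGroup.r_mul_r, add_comm]
      · have : (Multiplicative.ofAdd 1 : Multiplicative (ZMod 2)) = 1 := hy
        exact absurd this (by decide)
    · have : (Multiplicative.ofAdd 1 : Multiplicative (ZMod 2)) = 1 := hx
      exact absurd this (by decide)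
  haveI : Group.IsSolvable (Multiplicative (ZMod 2)) := Group.isSolvable_of_comm mul_comm
  exact Group.isSolvable_of_ker_le_range ψ.ker.subtype ψ (by rw [Subgroup.range_subtype])

section
variable {F : Type*} [Field F] [Fintype F]

local notation "PSL₂" => Matrix.ProjectiveSpecialLinearGroup (Fin 2) F

theorem pstab_solvable [DecidableEq F] (a : OnePoint F) {H : Subgroup PSL₂} (hH : H ≤ pstab a) : Group.IsSolvable H := by
  let Γ : Subgroup (Equiv.Perm (OnePoint F)) := H.map (pemb (RingHom.id F))
  have hΓ : Γ ≤ (slPerm F).range := by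
    rintro _ ⟨x, -, rfl⟩; exact pemb_range _ x
  let e : H ≃* Γ := Subgroup.equivMapOfInjective H _ (pemb_injective (RingHom.id F))
  have : Group.IsSolvable Γ := by
    apply solvable_of_fix Γ hΓ (a := a)
    rintro _ ⟨x, hx, rfl⟩
    exact hH hx
  exact H1.isSolvable_of_equiv e.symm this

/-- non-solvable subgroups of `PSL₂(q)` -/
theorem nonsolv_cases (H : Subgroup PSL₂) (hns : ¬ Group.IsSolvable H) :
    Nonempty (H ≃* alternatingGroup (Fin 5)) ∨
    (∃ (C : Type) (_ : Field C) (_ : Fintype C) (m : ℕ), Fintype.card C ^ m = Fintype.card F ∧ 4 ≤ Fintype.card C ∧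
      (Nonempty (H ≃* Matrix.ProjectiveSpecialLinearGroup (Fin 2) C) ∨ Nonempty (H ≃* Matrix.ProjGenLinGroup (Fin 2) C))) := by
  classical
  obtain ⟨p, hp⟩ := CharP.exists F
  haveI : Fact p.Prime := ⟨CharP.char_is_prime F p⟩
  rcases dickson p H with ⟨k, -, ⟨h, -⟩ | ⟨⟨e⟩⟩⟩ | ⟨P, hP⟩ | ⟨⟨f⟩⟩ | ⟨⟨f⟩⟩ | h | ⟨C, i1, i2, m, hm, h⟩
  · exfalso; apply hns
    apply Group.isSolvable_of_comm
    intro x y
    obtain ⟨g, hg⟩ := h.exists_generator
    obtain ⟨a, rfl⟩ := hg x
    obtain ⟨b, rfl⟩ := hg y
    show g ^ a * g ^ b = g ^ b * g ^ a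
    rw [← zpow_add, ← zpow_add, add_comm]
  · exfalso; apply hns
    exact H1.isSolvable_of_equiv e.symm (dihedral_solvable k)
  · exfalso; apply hns
    obtain ⟨a, ha⟩ := sylow_norm_le (F := F) p P
    exact pstab_solvable a (hP.trans ha)
  · exfalso; apply hns
    exact H21.solvable_of_card_lt_60 _ rfl (by rw [Nat.card_congr f.toEquiv, card_A4']; norm_num)
  · exfalso; apply hns
    exact H21.solvable_of_card_lt_60 _ rfl (by rw [Nat.card_congr f.toEquiv, card_S4']; norm_num)
  · exact Or.inl h
  · right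
    refine ⟨C, i1, i2, m, hm, ?_, h⟩
    by_contra hcon
    apply hns
    have hC : 1 < Fintype.card C := Fintype.one_lt_card
    have hle : Nat.card H ≤ Fintype.card C * (Fintype.card C ^ 2 - 1) := by
      rcases h with ⟨⟨e⟩⟩ | ⟨⟨e⟩⟩
      · rw [Nat.card_congr e.toEquiv, ← card_PSL2 (F := C) rfl]
        apply Nat.le_mul_of_pos_left
        apply Nat.pos_of_ne_zero
        intro h0
        have := Nat.eq_zero_of_gcd_eq_zero_left h0
        omega
      · rw [Nat.card_congr e.toEquiv, card_PGL2 (K := C) rfl]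
    apply H21.solvable_of_card_lt_60 _ rfl
    have : Fintype.card C = 2 ∨ Fintype.card C = 3 := by omega
    rcases this with h | h <;> rw [h] at hle <;> exact lt_of_le_of_lt hle (by norm_num)

end

end Cfsg.Agent.H5
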