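import Mathlib
import Cfsg.Agent.H5.Small
import Cfsg.Agent.H5.GLStab

set_option autoImplicit false

/-! Klein four-subgroups of groups with dihedral involution centralizers. -/

namespace Cfsg.Agent.H5

variable {G : Type*} [Group G]

/-- the subgroup `{1, x, y, xy}` -/
def kl (x y : G) (hx : x * x = 1) (hy : y * y = 1) (h : x * y = y * x) : Subgroup G where
  carrier := {1, x, y, x * y}
  one_mem' := by simp
  mul_mem' := by
    intro a b ha hb
    have h1 : y * x = x * y := h.symm
    have h2 : ∀ z, x * (x * z) = z := fun z => by rw [← mul_assoc, hx, one_mul]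
    have h3 : ∀ z, y * (y * z) = z := fun z => by rw [← mul_assoc, hy, one_mul]
    have h4 : ∀ z, y * (x * z) = x * (y * z) := fun z => by rw [← mul_assoc, h1, mul_assoc]
    rcases ha with rfl | rfl | rfl | rfl <;> rcases hb with rfl | rfl | rfl | rfl <;>
      simp [mul_assoc, h1, h2, h3, h4, hx, hy]
  inv_mem' := by
    intro a ha
    have ix : x⁻¹ = x := inv_eq_of_mul_eq_one_left hx
    have iy : y⁻¹ = y := inv_eq_of_mul_eq_one_left hy
    rcases ha with rfl | rfl | rfl | rfl
    · simp
    · simp [ix]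
    · simp [iy]
    · simp [ix, iy, h]

theorem mem_kl {x y : G} {hx : x * x = 1} {hy : y * y = 1} {h : x * y = y * x} {z : G} :
    z ∈ kl x y hx hy h ↔ z = 1 ∨ z = x ∨ z = y ∨ z = x * y := Iff.rfl

theorem kl_isKlein {x y : G} (hx : x * x = 1) (hy : y * y = 1) (h : x * y = y * x) (hx1 : x ≠ 1) (hy1 : y ≠ 1)
    (hxy : x ≠ y) : IsKleinFour (kl x y hx hy h) := by
  classical
  have hne : x * y ≠ 1 := by
    intro h1; apply hxy
    have : x * y = x * x := by rw [h1, hx]
    exact (mul_left_cancel this).symm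
  have hcard : Nat.card (kl x y hx hy h) = 4 := by
    have e : ((kl x y hx hy h : Subgroup G) : Set G) = (({1, x, y, x * y} : Finset G) : Set G) := by
      ext z
      simp [mem_kl]
    have h1 : Nat.card (kl x y hx hy h) = (((kl x y hx hy h : Subgroup G) : Set G)).ncard := rfl
    rw [h1, e, Set.ncard_coe_finset]
    rw [Finset.card_insert_of_notMem, Finset.card_insert_of_notMem, Finset.card_insert_of_notMem,
      Finset.card_singleton]
    · simpa using hx1
    · simp only [Finset.mem_insert, Finset.mem_singleton, not_or]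
      exact ⟨hxy, fun h => hy1 (by simpa using h.symm)⟩
    · simp only [Finset.mem_insert, Finset.mem_singleton, not_or]
      exact ⟨hx1.symm, hy1.symm, hne.symm⟩
  refine ⟨hcard, ?_⟩
  have hle : ∀ z : kl x y hx hy h, z ^ 2 = 1 := by
    rintro ⟨z, hz⟩
    apply Subtype.ext
    show z ^ 2 = 1
    rw [pow_two]
    rcases hz with rfl | rfl | rfl | rfl
    · simp
    · exact hx
    · exact hy
    · rw [mul_assoc, ← mul_assoc y x y, ← h, mul_assoc, hy, mul_one, hx]
  rcases (Nat.dvd_prime Nat.prime_two).1 (Monoid.exponent_dvd_of_forall_pow_eq_one hle) with h4 | h4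
  · exfalso
    rw [Monoid.exp_eq_one_iff] at h4
    haveI : Finite (kl x y hx hy h) := Nat.finite_of_card_ne_zero (by rw [hcard]; norm_num)
    have := Finite.card_le_one_iff_subsingleton.2 h4
    omega
  · exact h4

theorem klein_sq {V : Subgroup G} (hV : IsKleinFour V) {x : G} (hx : x ∈ V) : x * x = 1 := by
  have := IsKleinFour.mul_self (⟨x, hx⟩ : V)
  exact congrArg Subtype.val this

theorem klein_comm {V : Subgroup G} (hV : IsKleinFour V) {x y : G} (hx : x ∈ V) (hy : y ∈ V) : x * y = y * x := by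
  have h1 := klein_sq hV (V.mul_mem hx hy)
  have h2 := klein_sq hV hx
  have h3 := klein_sq hV hy
  calc x * y = x * y * ((y * x) * (y * x)) := by rw [klein_sq hV (V.mul_mem hy hx), mul_one]
    _ = x * (y * y) * x * (y * x) := by group
    _ = y * x := by rw [h3, mul_one, h2, one_mul]

theorem klein_eq_kl {V : Subgroup G} (hV : IsKleinFour V) {x y : G} (hx : x ∈ V) (hy : y ∈ V) (hx1 : x ≠ 1)
    (hy1 : y ≠ 1) (hxy : x ≠ y) :
    V = kl x y (klein_sq hV hx) (klein_sq hV hy) (klein_comm hV hx hy) := by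
  haveI : Finite V := Nat.finite_of_card_ne_zero (by rw [hV.card_four]; norm_num)
  symm
  apply Subgroup.eq_of_le_of_card_ge
  · intro z hz
    rcases hz with rfl | rfl | rfl | rfl
    · exact V.one_mem
    · exact hx
    · exact hy
    · exact V.mul_mem hx hy
  · rw [hV.card_four, (kl_isKlein _ _ _ hx1 hy1 hxy).card_four]

theorem klein_exists {V : Subgroup G} (hV : IsKleinFour V) : ∃ x y : G, x ∈ V ∧ y ∈ V ∧ x ≠ 1 ∧ y ≠ 1 ∧ x ≠ y := by
  haveI : Finite V := Nat.finite_of_card_ne_zero (by rw [hV.card_four]; norm_num)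
  haveI := Fintype.ofFinite V
  classical
  have h4 : Fintype.card V = 4 := by rw [← Nat.card_eq_fintype_card, hV.card_four]
  obtain ⟨x, hx⟩ : ∃ x : V, x ∉ ({1} : Finset V) := by
    by_contra h
    push Not at h
    have : Fintype.card V ≤ ({1} : Finset V).card := Finset.card_le_card (fun x _ => h x)
    rw [Finset.card_singleton] at this
    omega
  obtain ⟨y, hy⟩ : ∃ y : V, y ∉ ({1, x} : Finset V) := by
    by_contra h
    push Not at h
    have h1 : Fintype.card V ≤ ({1, x} : Finset V).card := Finset.card_le_card (fun x _ => h x)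
    have h2 : ({1, x} : Finset V).card ≤ 2 := Finset.card_le_two
    omega
  simp only [Finset.mem_insert, Finset.mem_singleton, not_or] at hx hy
  refine ⟨x, y, x.2, y.2, fun h => hx (Subtype.ext h), fun h => hy.1 (Subtype.ext h), fun h => hy.2 (Subtype.ext h.symm)⟩

theorem klein_exists_other {V : Subgroup G} (hV : IsKleinFour V) {x : G} (hx : x ∈ V) (hx1 : x ≠ 1) :
    ∃ y : G, y ∈ V ∧ y ≠ 1 ∧ x ≠ y := by
  obtain ⟨a, b, ha, hb, ha1, hb1, hab⟩ := klein_exists hV
  by_cases h : x = a
  · exact ⟨b, hb, hb1, fun h' => hab (h.symm.trans h')⟩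
  · exact ⟨a, ha, ha1, h⟩

/-- dihedral centralizer structure at an involution -/
structure DihC (x : G) (A : Subgroup G) : Prop where
  mem : x ∈ A
  le : A ≤ Subgroup.centralizer {x}
  card : Nat.card (Subgroup.centralizer {x} : Subgroup G) = 2 * Nat.card A
  out : ∀ y ∈ Subgroup.centralizer {x}, y ∉ A → y * y = 1
  uniq : ∀ y ∈ A, y * y = 1 → y = 1 ∨ y = x

variable [Finite G]

theorem DihC.mul_mem {x : G} {A : Subgroup G} (h : DihC x A) {y z : G} (hy : y ∈ Subgroup.centralizer {x})
    (hz : z ∈ Subgroup.centralizer {x}) (hyA : y ∉ A) (hzA : z ∉ A) : y * z ∈ A := by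
  set C : Subgroup G := Subgroup.centralizer {x} with hC
  have hidx : (A.subgroupOf C).index = 2 := by
    have h1 := (A.subgroupOf C).card_mul_index
    rw [Nat.card_congr (Subgroup.subgroupOfEquivOfLe h.le).toEquiv, h.card] at h1
    have h2 : 0 < Nat.card A := Nat.card_pos
    rw [mul_comm 2] at h1
    exact Nat.eq_of_mul_eq_mul_left h2 h1
  have := (Subgroup.mul_mem_iff_of_index_two hidx (a := ⟨y, hy⟩) (b := ⟨z, hz⟩))
  rw [Subgroup.mem_subgroupOf, Subgroup.mem_subgroupOf, Subgroup.mem_subgroupOf] at this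
  exact this.2 ⟨fun h => absurd h hyA, fun h => absurd h hzA⟩

theorem DihC.inverts {x : G} {A : Subgroup G} (h : DihC x A) {y z : G} (hy : y ∈ Subgroup.centralizer {x})
    (hyA : y ∉ A) (hz : z ∈ A) : y * z * y⁻¹ = z⁻¹ := by
  have h1 := h.out y hy hyA
  have h2 : y * z ∉ A := fun h3 => hyA (by simpa using A.mul_mem h3 (A.inv_mem hz))
  have h3 := h.out (y * z) (Subgroup.mul_mem _ hy (h.le hz)) h2
  have h4 : y⁻¹ = y := inv_eq_of_mul_eq_one_left h1
  rw [h4]
  apply eq_inv_of_mul_eq_one_left
  rw [mul_assoc]; exact h3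

/-- the Klein four-groups through `x` -/
theorem DihC.card_klein {x : G} {A : Subgroup G} (h : DihC x A) (hx1 : x ≠ 1) :
    4 * Nat.card {V : Subgroup G // IsKleinFour V ∧ x ∈ V} = Nat.card (Subgroup.centralizer {x} : Subgroup G) := by
  classical
  set C : Subgroup G := Subgroup.centralizer {x} with hC
  have hxx : x * x = 1 := by
    obtain ⟨y, hy⟩ : ∃ y, y ∈ C ∧ y ∉ A := by
      by_contra hcon
      push Not at hcon
      have h1 : C = A := le_antisymm hcon h.le
      have h2 := h.card
      rw [← hC, h1] at h2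
      have : 0 < Nat.card A := Nat.card_pos
      omega
    have h1 := h.inverts hy.1 hy.2 h.mem
    have h2 : y * x = x * y := Subgroup.mem_centralizer_singleton_iff.1 hy.1
    rw [h2, mul_inv_cancel_right] at h1
    rw [mul_eq_one_iff_eq_inv]; exact h1
  have hcomm : ∀ y : {y // y ∈ C ∧ y ∉ A}, x * (y : G) = y * x := fun y =>
    (Subgroup.mem_centralizer_singleton_iff.1 y.2.1).symm
  have hy1 : ∀ y : {y // y ∈ C ∧ y ∉ A}, (y : G) ≠ 1 := fun y h1 => y.2.2 (h1 ▸ A.one_mem)
  have hxy : ∀ y : {y // y ∈ C ∧ y ∉ A}, x ≠ (y : G) := fun y h1 => y.2.2 (h1 ▸ h.mem)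
  let f : {y // y ∈ C ∧ y ∉ A} → {V : Subgroup G // IsKleinFour V ∧ x ∈ V} := fun y =>
    ⟨kl x y hxx (h.out y y.2.1 y.2.2) (hcomm y), kl_isKlein _ _ _ hx1 (hy1 y) (hxy y), by
      rw [mem_kl]; exact Or.inr (Or.inl rfl)⟩
  have hfib : ∀ V, Nat.card {y // f y = V} = 2 := by
    rintro ⟨V, hV, hxV⟩
    obtain ⟨y, hyV, hy1', hxy'⟩ := klein_exists_other hV hxV hx1
    have hyC : ∀ z ∈ V, z ∈ C := fun z hz => by
      rw [hC, Subgroup.mem_centralizer_singleton_iff]
      exact klein_comm hV hz hxV
    have hnA : ∀ z ∈ V, z ≠ 1 → z ≠ x → z ∉ A := by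
      intro z hz hz1 hzx hzA
      rcases h.uniq z hzA (klein_sq hV hz) with h1 | h1
      · exact hz1 h1
      · exact hzx h1
    have hxyV : x * y ∈ V := V.mul_mem hxV hyV
    have hxy1 : x * y ≠ 1 := by
      intro h1; apply hxy'
      have : x * y = x * x := by rw [h1, hxx]
      exact (mul_left_cancel this).symm
    have hxyx : x * y ≠ x := fun h1 => hy1' (by simpa using h1)
    have hne : y ≠ x * y := fun h1 => hx1 (by simpa using h1.symm)
    have h1A := hnA y hyV hy1' hxy'.symm
    have h2A := hnA (x * y) hxyV hxy1 hxyx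
    let g : Bool → {z // f z = ⟨V, hV, hxV⟩} := fun b => match b with
      | true => ⟨⟨y, hyC y hyV, h1A⟩, Subtype.ext (klein_eq_kl hV hxV hyV hx1 hy1' hxy').symm⟩
      | false => ⟨⟨x * y, hyC _ hxyV, h2A⟩, Subtype.ext (klein_eq_kl hV hxV hxyV hx1 hxy1 hxyx.symm).symm⟩
    have hg : Function.Bijective g := by
      constructor
      · intro a b hab
        have h3 := congrArg (fun z => ((z : {y // y ∈ C ∧ y ∉ A}) : G)) (congrArg Subtype.val hab)
        cases a <;> cases b
        · rfl
        · exact absurd h3.symm hne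
        · exact absurd h3 hne
        · rfl
      · rintro ⟨⟨z, hzC, hzA⟩, hz⟩
        have hz' : ((f ⟨z, hzC, hzA⟩ : {V : Subgroup G // IsKleinFour V ∧ x ∈ V}) : Subgroup G) = V := congrArg Subtype.val hz
        have hzV : z ∈ V := le_of_eq hz' (show z ∈ (f ⟨z, hzC, hzA⟩).1 from Or.inr (Or.inr (Or.inl rfl)))
        have hV2 := klein_eq_kl hV hxV hyV hx1 hy1' hxy'
        have h4 : z ∈ kl x y (klein_sq hV hxV) (klein_sq hV hyV) (klein_comm hV hxV hyV) := by
          rw [← hV2]; exact hzV
        rw [mem_kl] at h4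
        rcases h4 with h4 | h4 | h4 | h4
        · exact absurd (h4 ▸ A.one_mem) hzA
        · exact absurd (h4 ▸ h.mem) hzA
        · exact ⟨true, Subtype.ext (Subtype.ext h4.symm)⟩
        · exact ⟨false, Subtype.ext (Subtype.ext h4.symm)⟩
    rw [← Nat.card_eq_of_bijective g hg]
    simp
  have h1 := card_of_fibers_univ f 2 hfib
  have h2 : Nat.card {y // y ∈ C ∧ y ∉ A} + Nat.card A = Nat.card C := by
    have e : ({y // y ∈ C ∧ y ∉ A} ⊕ A) ≃ C :=
      { toFun := fun s => s.elim (fun y => ⟨y.1, y.2.1⟩) (fun a => ⟨a.1, h.le a.2⟩)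
        invFun := fun c => if hc : (c : G) ∈ A then Sum.inr ⟨c, hc⟩ else Sum.inl ⟨c, c.2, hc⟩
        left_inv := by
          rintro (⟨y, hy⟩ | ⟨a, ha⟩)
          · simp [hy.2]
          · simp [ha]
        right_inv := by
          rintro ⟨c, hc⟩
          by_cases h : c ∈ A <;> simp [h] }
    rw [← Nat.card_congr e, Nat.card_sum]
  have h3 := h.card
  rw [← hC] at h3
  omega

/-- counting Klein four-groups -/
theorem card_klein_all (c : ℕ) (hc : 0 < c) (hconj : ∀ x y : G, orderOf x = 2 → orderOf y = 2 → IsConj x y)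
    (hex : ∃ x : G, orderOf x = 2)
    (hd : ∀ x : G, orderOf x = 2 → (∃ A, DihC x A) ∧ Nat.card (Subgroup.centralizer {x} : Subgroup G) = c) :
    12 * Nat.card {V : Subgroup G // IsKleinFour V} = Nat.card G := by
  classical
  have ho : ∀ x : G, orderOf x = 2 ↔ (x ≠ 1 ∧ x * x = 1) := by
    intro x
    constructor
    · intro h
      refine ⟨fun h1 => ?_, ?_⟩
      · rw [h1, orderOf_one] at h; omega
      · have := pow_orderOf_eq_one x
        rwa [h, pow_two] at this
    · rintro ⟨h1, h2⟩
      exact orderOf_eq_prime (by rw [pow_two]; exact h2) h1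
  let P := {p : G × Subgroup G // orderOf p.1 = 2 ∧ IsKleinFour p.2 ∧ p.1 ∈ p.2}
  -- fibres over V
  have h1 : Nat.card P = Nat.card {V : Subgroup G // IsKleinFour V} * 3 := by
    apply card_of_fibers_univ (fun p : P => (⟨p.1.2, p.2.2.1⟩ : {V : Subgroup G // IsKleinFour V}))
    rintro ⟨V, hV⟩
    have e : {p : P // (⟨p.1.2, p.2.2.1⟩ : {V : Subgroup G // IsKleinFour V}) = ⟨V, hV⟩} ≃ {v : V // v ≠ 1} :=
      { toFun := fun p => ⟨⟨p.1.1.1, by
            have h : p.1.1.2 = V := congrArg Subtype.val p.2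
            exact le_of_eq h p.1.2.2.2⟩, fun h => by
            have h2 := congrArg Subtype.val h
            exact ((ho _).1 p.1.2.1).1 h2⟩
        invFun := fun v => ⟨⟨(v.1, V), (ho _).2 ⟨fun h => v.2 (Subtype.ext h), klein_sq hV v.1.2⟩, hV, v.1.2⟩, rfl⟩
        left_inv := by
          rintro ⟨⟨⟨x, W⟩, h1, h2, h3⟩, h4⟩
          have h5 : W = V := congrArg Subtype.val h4
          subst h5
          rfl
        right_inv := fun v => rfl }
    rw [Nat.card_congr e]
    haveI : Finite V := inferInstance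
    have h5 : Nat.card {v : V // v ≠ 1} + 1 = Nat.card V := by
      haveI := Fintype.ofFinite V
      rw [Nat.card_eq_fintype_card, Nat.card_eq_fintype_card, Fintype.card_subtype_compl]
      simp only [Fintype.card_unique]
      have : 0 < Fintype.card V := Fintype.card_pos
      omega
    rw [hV.card_four] at h5
    omega
  -- fibres over x
  obtain ⟨x₀, hx₀⟩ := hex
  have h2 : 4 * Nat.card P = Nat.card {x : G // orderOf x = 2} * c := by
    have h4c : ∃ k, c = 4 * k := by
      obtain ⟨⟨A, hA⟩, hc0⟩ := hd x₀ hx₀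
      exact ⟨_, by rw [← hc0]; exact (hA.card_klein ((ho _).1 hx₀).1).symm⟩
    obtain ⟨k, hk⟩ := h4c
    have := card_of_fibers_univ (fun p : P => (⟨p.1.1, p.2.1⟩ : {x : G // orderOf x = 2})) k (by
      rintro ⟨x, hx⟩
      have e : {p : P // (⟨p.1.1, p.2.1⟩ : {x : G // orderOf x = 2}) = ⟨x, hx⟩} ≃
          {V : Subgroup G // IsKleinFour V ∧ x ∈ V} :=
        { toFun := fun p => ⟨p.1.1.2, p.1.2.2.1, by
            have h : p.1.1.1 = x := congrArg Subtype.val p.2
            exact Eq.subst (motive := fun y => y ∈ p.1.1.2) h p.1.2.2.2⟩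
          invFun := fun V => ⟨⟨(x, V.1), hx, V.2.1, V.2.2⟩, rfl⟩
          left_inv := by
            rintro ⟨⟨⟨y, W⟩, h1, h2, h3⟩, h4⟩
            have h5 : y = x := congrArg Subtype.val h4
            subst h5
            rfl
          right_inv := fun v => rfl }
      rw [Nat.card_congr e]
      obtain ⟨⟨A, hA⟩, hc0⟩ := hd x hx
      have h6 := hA.card_klein ((ho _).1 hx).1
      omega)
    rw [this, hk]; ring
  -- number of involutions
  have h3 : Nat.card {x : G // orderOf x = 2} * c = Nat.card G := by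
    have := card_of_fibers_univ (fun g : G => (⟨g * x₀ * g⁻¹, by rw [← hx₀]; exact
      (show orderOf (g * x₀ * g⁻¹) = orderOf x₀ by
        have := MulEquiv.orderOf_eq (MulAut.conj g) x₀
        rwa [MulAut.conj_apply] at this)⟩ : {x : G // orderOf x = 2})) c (by
      rintro ⟨x, hx⟩
      obtain ⟨g, hg⟩ := isConj_iff.1 (hconj x₀ x hx₀ hx)
      rw [← (hd x₀ hx₀).2]
      symm
      apply Nat.card_congr
      exact
        { toFun := fun z => ⟨g * z.1, by
            apply Subtype.ext
            show g * z.1 * x₀ * (g * z.1)⁻¹ = x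
            have := Subgroup.mem_centralizer_singleton_iff.1 z.2
            rw [mul_assoc g, this, ← hg]; group⟩
          invFun := fun y => ⟨g⁻¹ * y.1, by
            have h : y.1 * x₀ * y.1⁻¹ = x := congrArg Subtype.val y.2
            have h1 : y.1 * x₀ * y.1⁻¹ = g * x₀ * g⁻¹ := h.trans hg.symm
            rw [Subgroup.mem_centralizer_singleton_iff]
            have h' : y.1 * x₀ = g * x₀ * g⁻¹ * y.1 := by rw [← h1]; group
            rw [mul_assoc, h']; group⟩
          left_inv := fun z => by apply Subtype.ext; simp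
          right_inv := fun y => by apply Subtype.ext; simp })
    rw [this]
  rw [← h3, ← h2, h1]; ring

end Cfsg.Agent.H5
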