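import Mathlib
import Cfsg.Agent.H5.Klein
import Cfsg.Agent.H2.AutElem

set_option autoImplicit false

/-! Normalizers and conjugacy classes of Klein four-groups. -/

namespace Cfsg.Agent.H5

variable {G : Type*} [Group G]

theorem DihC.cent_klein [Finite G] {x : G} {A : Subgroup G} (h : DihC x A) (hx1 : x ≠ 1) {V : Subgroup G}
    (hV : IsKleinFour V) (hxV : x ∈ V) : Subgroup.centralizer (V : Set G) = V := by
  apply le_antisymm
  · intro z hz
    rw [Subgroup.mem_centralizer_iff] at hz
    obtain ⟨y, hyV, hy1, hxy⟩ := klein_exists_other hV hxV hx1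
    have hyC : y ∈ Subgroup.centralizer {x} := by
      rw [Subgroup.mem_centralizer_singleton_iff]; exact klein_comm hV hyV hxV
    have hyA : y ∉ A := by
      intro hyA
      rcases h.uniq y hyA (klein_sq hV hyV) with h1 | h1
      · exact hy1 h1
      · exact hxy h1.symm
    have hzC : z ∈ Subgroup.centralizer {x} := by
      rw [Subgroup.mem_centralizer_singleton_iff]; exact (hz x hxV).symm
    have key : ∀ w ∈ A, y * w = w * y → w ∈ V := by
      intro w hw hc
      have h1 := h.inverts hyC hyA hw
      rw [hc, mul_inv_cancel_right] at h1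
      have h2 : w * w = 1 := by rw [mul_eq_one_iff_eq_inv]; exact h1
      rcases h.uniq w hw h2 with h3 | h3
      · rw [h3]; exact V.one_mem
      · rw [h3]; exact hxV
    by_cases hzA : z ∈ A
    · exact key z hzA (hz y hyV)
    · have h1 := h.mul_mem hzC hyC hzA hyA
      have h2 := key (z * y) h1 (by rw [← mul_assoc, hz y hyV])
      have := V.mul_mem h2 (V.inv_mem hyV)
      simpa using this
  · intro z hz
    rw [Subgroup.mem_centralizer_iff]
    intro y hy
    exact klein_comm hV hy hz

theorem card_mulAut_klein {V : Type*} [Group V] [hV : IsKleinFour V] : Nat.card (MulAut V) = 6 := by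
  haveI : Finite V := Nat.finite_of_card_ne_zero (by rw [hV.card_four]; norm_num)
  have := Cfsg.Agent.H2.card_mulAut_elementary (E := V) (p := 2) (n := 2)
    (fun a b => (IsKleinFour.isMulCommutative (G := V)).is_comm.comm a b)
    (fun a => by rw [pow_two]; exact IsKleinFour.mul_self a) (by rw [hV.card_four]; norm_num)
  rw [this, Fin.prod_univ_two]
  norm_num

theorem card_normalizer_klein [Finite G] {V : Subgroup G} (hV : IsKleinFour V)
    (hC : Subgroup.centralizer (V : Set G) = V) :
    ∃ k, k ∣ 6 ∧ Nat.card (Subgroup.normalizer (V : Set G)) = 4 * k := by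
  have h1 := Cfsg.Agent.H2.relIndex_centralizer_dvd_card_mulAut V
  rw [card_mulAut_klein, hC] at h1
  refine ⟨_, h1, ?_⟩
  rw [Subgroup.relIndex]
  have h3 := (V.subgroupOf (Subgroup.normalizer (V : Set G))).card_mul_index
  rw [Nat.card_congr (Subgroup.subgroupOfEquivOfLe (Subgroup.le_normalizer)).toEquiv, hV.card_four] at h3
  exact h3.symm

theorem mem_normalizer_iff_map {V : Subgroup G} {g : G} :
    g ∈ Subgroup.normalizer (V : Set G) ↔ V.map (MulAut.conj g).toMonoidHom = V :=
  Subgroup.mem_normalizer_iff_map_conj_eq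

theorem card_conj_class [Finite G] (V : Subgroup G) :
    Nat.card {W : Subgroup G // ∃ g : G, W = V.map (MulAut.conj g).toMonoidHom} *
      Nat.card (Subgroup.normalizer (V : Set G)) = Nat.card G := by
  symm
  apply card_of_fibers_univ (fun g : G => (⟨V.map (MulAut.conj g).toMonoidHom, g, rfl⟩ :
    {W : Subgroup G // ∃ g : G, W = V.map (MulAut.conj g).toMonoidHom}))
  rintro ⟨W, g, rfl⟩
  symm
  have hmap : ∀ a b : G, V.map (MulAut.conj (a * b)).toMonoidHom =
      (V.map (MulAut.conj b).toMonoidHom).map (MulAut.conj a).toMonoidHom := by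
    intro a b
    rw [Subgroup.map_map]
    congr 1
    ext x
    simp [mul_assoc]
  apply Nat.card_congr
  exact
    { toFun := fun n => ⟨g * n.1, by
        apply Subtype.ext
        show V.map (MulAut.conj (g * n.1)).toMonoidHom = V.map (MulAut.conj g).toMonoidHom
        rw [hmap, mem_normalizer_iff_map.1 n.2]⟩
      invFun := fun y => ⟨g⁻¹ * y.1, by
        have h : V.map (MulAut.conj y.1).toMonoidHom = V.map (MulAut.conj g).toMonoidHom := congrArg Subtype.val y.2
        rw [mem_normalizer_iff_map, hmap, h, ← hmap, inv_mul_cancel]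
        convert Subgroup.map_id V
        ext x; simp⟩
      left_inv := fun n => by apply Subtype.ext; simp
      right_inv := fun y => by apply Subtype.ext; simp }

theorem klein_map {V : Subgroup G} (hV : IsKleinFour V) (g : G) : IsKleinFour (V.map (MulAut.conj g).toMonoidHom) := by
  have e : V ≃* V.map (MulAut.conj g).toMonoidHom := V.equivMapOfInjective _ (MulAut.conj g).injective
  refine ⟨?_, ?_⟩
  · rw [← Nat.card_congr e.toEquiv, hV.card_four]
  · rw [← Monoid.exponent_eq_of_mulEquiv e, hV.exponent_two]

section classes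

variable [Finite G] (hall : 12 * Nat.card {V : Subgroup G // IsKleinFour V} = Nat.card G)
  (hcent : ∀ V : Subgroup G, IsKleinFour V → Subgroup.centralizer (V : Set G) = V)

/-- the conjugacy class -/
def kcl (V : Subgroup G) : Set (Subgroup G) := {W | ∃ g : G, W = V.map (MulAut.conj g).toMonoidHom}

theorem kcl_self (V : Subgroup G) : V ∈ kcl V := ⟨1, by
  symm; convert Subgroup.map_id V; ext x; simp⟩

theorem kcl_symm {V W : Subgroup G} (h : W ∈ kcl V) : V ∈ kcl W := by
  obtain ⟨g, rfl⟩ := h
  refine ⟨g⁻¹, ?_⟩
  rw [Subgroup.map_map]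
  symm; convert Subgroup.map_id V; ext x; simp [mul_assoc]

theorem kcl_trans {U V W : Subgroup G} (h : V ∈ kcl U) (h' : W ∈ kcl V) : W ∈ kcl U := by
  obtain ⟨g, rfl⟩ := h
  obtain ⟨k, rfl⟩ := h'
  refine ⟨k * g, ?_⟩
  rw [Subgroup.map_map]
  congr 1
  ext x; simp [mul_assoc]

theorem kcl_sub {V : Subgroup G} (hV : IsKleinFour V) : kcl V ⊆ {V | IsKleinFour V} := by
  rintro W ⟨g, rfl⟩
  exact klein_map hV g

omit [Finite G] in
theorem kcl_card [Finite G] (V : Subgroup G) : (kcl V).ncard * Nat.card (Subgroup.normalizer (V : Set G)) = Nat.card G :=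
  card_conj_class V

include hall in
theorem kall_card : 12 * ({V : Subgroup G | IsKleinFour V} : Set (Subgroup G)).ncard = Nat.card G := hall

include hall hcent in
theorem card_normalizer_klein' {V : Subgroup G} (hV : IsKleinFour V) :
    Nat.card (Subgroup.normalizer (V : Set G)) = 12 ∨ Nat.card (Subgroup.normalizer (V : Set G)) = 24 := by
  obtain ⟨k, hk, hn⟩ := card_normalizer_klein hV (hcent V hV)
  have h1 := Set.ncard_le_ncard (kcl_sub hV) (Set.toFinite _)
  have h2 := kcl_card V
  have h3 := kall_card hall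
  rw [hn] at h2
  have hG : 0 < Nat.card G := Nat.card_pos
  have hk3 : 3 ≤ k := by
    by_contra hlt
    push Not at hlt
    have h4 : (kcl V).ncard * (4 * k) < 12 * ({V : Subgroup G | IsKleinFour V} : Set (Subgroup G)).ncard := by
      have h5 : 0 < (kcl V).ncard := by
        rcases Nat.eq_zero_or_pos (kcl V).ncard with h | h
        · rw [h, zero_mul] at h2; omega
        · exact h
      calc (kcl V).ncard * (4 * k) < (kcl V).ncard * 12 := Nat.mul_lt_mul_of_pos_left (by omega) h5
        _ ≤ ({V : Subgroup G | IsKleinFour V} : Set (Subgroup G)).ncard * 12 := Nat.mul_le_mul_right _ h1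
        _ = _ := by ring
    omega
  have hk6 := Nat.le_of_dvd (by norm_num) hk
  rw [hn]
  interval_cases k
  · left; norm_num
  · exfalso; revert hk; norm_num
  · exfalso; revert hk; norm_num
  · right; norm_num

include hall in
theorem conj_of_twelve {V : Subgroup G} (hV : IsKleinFour V)
    (h12 : Nat.card (Subgroup.normalizer (V : Set G)) = 12) {W : Subgroup G} (hW : IsKleinFour W) :
    ∃ g : G, W = V.map (MulAut.conj g).toMonoidHom := by
  have h2 := kcl_card V
  have h3 := kall_card hall
  rw [h12] at h2
  have h4 : kcl V = {V : Subgroup G | IsKleinFour V} := by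
    apply Set.eq_of_subset_of_ncard_le (kcl_sub hV) _ (Set.toFinite _)
    omega
  have : W ∈ kcl V := by rw [h4]; exact hW
  exact this

include hall hcent in
theorem conj_of_not_24 (h24 : ¬ 24 ∣ Nat.card G) {V W : Subgroup G} (hV : IsKleinFour V) (hW : IsKleinFour W) :
    ∃ g : G, W = V.map (MulAut.conj g).toMonoidHom := by
  rcases card_normalizer_klein' hall hcent hV with h | h
  · exact conj_of_twelve hall hV h hW
  · exfalso; apply h24; rw [← h]; exact Subgroup.card_subgroup_dvd_card _

include hall hcent in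
theorem two_classes (h8 : 8 ∣ Nat.card G) :
    ∃ V₁ V₂ : Subgroup G, IsKleinFour V₁ ∧ IsKleinFour V₂ ∧ (¬ ∃ g : G, V₂ = V₁.map (MulAut.conj g).toMonoidHom) ∧
      ∀ W : Subgroup G, IsKleinFour W → (∃ g : G, W = V₁.map (MulAut.conj g).toMonoidHom) ∨
        (∃ g : G, W = V₂.map (MulAut.conj g).toMonoidHom) := by
  classical
  have hG : 0 < Nat.card G := Nat.card_pos
  have h3 := kall_card hall
  set K : Set (Subgroup G) := {V : Subgroup G | IsKleinFour V} with hK
  have h24 : ∀ V : Subgroup G, IsKleinFour V → 2 * (kcl V).ncard = K.ncard := by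
    intro V hV
    have h1 := Sylow.prime_pow_dvd_card_normalizer (p := 2) (n := 2) (H := V) (by norm_num; exact h8)
      (by rw [hV.card_four]; norm_num)
    have h2 := kcl_card V
    rcases card_normalizer_klein' hall hcent hV with h | h
    · rw [h] at h1; revert h1; norm_num
    · rw [h] at h2; omega
  have hKpos : 0 < K.ncard := by omega
  obtain ⟨V₁, hV₁⟩ := (Set.ncard_pos (Set.toFinite _)).1 hKpos
  have e1 := h24 V₁ hV₁
  obtain ⟨V₂, hV₂, hV₂n⟩ : ∃ V₂, V₂ ∈ K ∧ V₂ ∉ kcl V₁ := by
    by_contra hcon
    push Not at hcon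
    have := Set.ncard_le_ncard (show K ⊆ kcl V₁ from hcon) (Set.toFinite _)
    omega
  have e2 := h24 V₂ hV₂
  refine ⟨V₁, V₂, hV₁, hV₂, hV₂n, ?_⟩
  intro W hW
  by_contra hcon
  push Not at hcon
  have hW1 : W ∉ kcl V₁ := fun h => by obtain ⟨g, hg⟩ := h; exact hcon.1 g hg
  have hW2 : W ∉ kcl V₂ := fun h => by obtain ⟨g, hg⟩ := h; exact hcon.2 g hg
  have hdisj : Disjoint (kcl V₁) (kcl V₂) := by
    rw [Set.disjoint_left]
    intro U h1 h2
    exact hV₂n (kcl_trans h1 (kcl_symm h2))
  have h5 : (kcl V₁ ∪ kcl V₂).ncard = K.ncard := by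
    rw [Set.ncard_union_eq hdisj (Set.toFinite _) (Set.toFinite _)]; omega
  have h6 : kcl V₁ ∪ kcl V₂ = K := by
    apply Set.eq_of_subset_of_ncard_le _ _ (Set.toFinite _)
    · exact Set.union_subset (kcl_sub hV₁) (kcl_sub hV₂)
    · omega
  have : W ∈ kcl V₁ ∪ kcl V₂ := by rw [h6]; exact hW
  rcases this with h | h
  · exact hW1 h
  · exact hW2 h

end classes

/-- a group with a normal self-centralizing Klein four-group and order divisible by 3 acts faithfully on four points -/
theorem perm4_of_klein [Finite G] (V : Subgroup G) [V.Normal] (hV : IsKleinFour V)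
    (hC : Subgroup.centralizer (V : Set G) = V) (h3 : 3 ∣ Nat.card G) :
    ∃ f : G →* Equiv.Perm (Sylow 3 G), Function.Injective f ∧ Nat.card (Sylow 3 G) = 4 := by
  classical
  haveI : Fact (Nat.Prime 3) := ⟨Nat.prime_three⟩
  obtain ⟨k, hk, hn⟩ := card_normalizer_klein hV hC
  have hnt : Subgroup.normalizer (V : Set G) = ⊤ := Subgroup.normalizer_eq_top_iff.2 inferInstance
  rw [hnt, Subgroup.card_top] at hn
  have hk36 : k = 3 ∨ k = 6 := by
    have hk6 := Nat.le_of_dvd (by norm_num) hk
    have : 3 ∣ k := by
      rw [hn] at h3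
      exact (Nat.Coprime.dvd_of_dvd_mul_left (by norm_num) h3)
    have hk0 := Nat.pos_of_dvd_of_pos hk (by norm_num)
    omega
  have hfac : (Nat.card G).factorization 3 = 1 := by
    rw [hn]
    rcases hk36 with rfl | rfl
    · rw [show 4 * 3 = 3 ^ 1 * 4 by norm_num, Nat.factorization_mul (by norm_num) (by norm_num), Finsupp.add_apply,
        Nat.factorization_eq_zero_of_not_dvd (show ¬ 3 ∣ 4 by norm_num), Nat.Prime.factorization_pow Nat.prime_three]
      simp
    · rw [show 4 * 6 = 3 ^ 1 * 8 by norm_num, Nat.factorization_mul (by norm_num) (by norm_num), Finsupp.add_apply,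
        Nat.factorization_eq_zero_of_not_dvd (show ¬ 3 ∣ 8 by norm_num), Nat.Prime.factorization_pow Nat.prime_three]
      simp
  have hT3 : ∀ T : Sylow 3 G, Nat.card T = 3 := by
    intro T
    rw [T.card_eq_multiplicity, hfac, pow_one]
  -- an element of order three does not centralise a nontrivial element of V normalising T
  have hcommV : ∀ T : Sylow 3 G, ¬ ((T : Subgroup G) ≤ Subgroup.centralizer (V : Set G)) := by
    intro T hT
    rw [hC] at hT
    have h1 := Subgroup.card_dvd_of_le hT
    rw [hV.card_four] at h1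
    have h2 : Nat.card (T : Subgroup G) = 3 := hT3 T
    rw [h2] at h1
    omega
  have hdis : ∀ T : Sylow 3 G, ∀ x, x ∈ T → x ∈ V → x = 1 := by
    intro T x hxT hxV
    have h1 := klein_sq hV hxV
    have h2 : x ^ 3 = 1 := by
      have h3 : Nat.card (T : Subgroup G) = 3 := hT3 T
      have := pow_card_eq_one' (x := (⟨x, hxT⟩ : (T : Subgroup G)))
      rw [h3] at this
      exact congrArg Subtype.val this
    rw [pow_succ, pow_two, h1, one_mul] at h2
    exact h2
  have hfix : ∀ T : Sylow 3 G, ∀ v ∈ V, v ∈ Subgroup.normalizer (T : Set G) → v = 1 := by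
    intro T v hvV hvT
    by_contra hv1
    apply hcommV T
    have hvt : ∀ t ∈ T, v * t = t * v := by
      intro t ht
      have h1 : v * t * v⁻¹ ∈ T := (Subgroup.mem_normalizer_iff.1 hvT t).1 ht
      have h2 : v * t * v⁻¹ * t⁻¹ ∈ T := (T : Subgroup G).mul_mem h1 ((T : Subgroup G).inv_mem ht)
      have h4 : v * t * v⁻¹ * t⁻¹ ∈ V := by
        have h5 : t * v⁻¹ * t⁻¹ ∈ V := Subgroup.Normal.conj_mem inferInstance _ (V.inv_mem hvV) t
        have := V.mul_mem hvV h5
        rwa [← mul_assoc, ← mul_assoc] at this
      have h5 := hdis T _ h2 h4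
      have h6 : v * t * v⁻¹ = t := by rw [mul_inv_eq_one] at h5; exact h5
      rw [mul_inv_eq_iff_eq_mul] at h6; exact h6
    intro t ht
    have ht3 : t ^ 3 = 1 := by
      have h3 : Nat.card (T : Subgroup G) = 3 := hT3 T
      have := pow_card_eq_one' (x := (⟨t, ht⟩ : (T : Subgroup G)))
      rw [h3] at this
      exact congrArg Subtype.val this
    obtain ⟨y, hyV, hy1, hvy⟩ := klein_exists_other hV hvV hv1
    have hVe := klein_eq_kl hV hvV hyV hv1 hy1 hvy
    have h1 : t * y * t⁻¹ ∈ V := Subgroup.Normal.conj_mem inferInstance _ hyV t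
    have h1' := h1
    rw [hVe, mem_kl] at h1
    have hvt' := hvt t ht
    have hty : t * y = y * t := by
      rcases h1 with h | h | h | h
      · exfalso; apply hy1
        rw [mul_inv_eq_one] at h
        simpa using h
      · exfalso; apply hvy
        rw [mul_inv_eq_iff_eq_mul, hvt'] at h
        exact (mul_left_cancel h).symm
      · rw [mul_inv_eq_iff_eq_mul] at h; exact h
      · -- t y = v y t, t² y = y t²
        rw [mul_inv_eq_iff_eq_mul] at h
        have hvv := klein_sq hV hvV
        have h2 : t * (t * y) = y * (t * t) := by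
          rw [h]
          calc t * (v * y * t) = (t * v) * y * t := by group
            _ = v * (t * y) * t := by rw [← hvt']; group
            _ = v * (v * y * t) * t := by rw [h]
            _ = (v * v) * y * t * t := by group
            _ = y * (t * t) := by rw [hvv]; group
        have h3 : t = (t * t) * (t * t) := by
          have : (t * t) * (t * t) = t ^ 3 * t := by rw [pow_succ, pow_two]; simp only [mul_assoc]
          rw [this, ht3, one_mul]
        have h4 : Commute (t * t) y := by
          show t * t * y = y * (t * t)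
          rw [mul_assoc]; exact h2
        rw [h3]
        exact (h4.mul_left h4).eq
    rw [Subgroup.mem_centralizer_iff]
    intro w hw
    rw [SetLike.mem_coe, hVe, mem_kl] at hw
    rcases hw with rfl | rfl | rfl | rfl
    · simp
    · exact hvt'
    · exact hty.symm
    · rw [mul_assoc, ← hty, ← mul_assoc, hvt', mul_assoc]
  have hn3 : Nat.card (Sylow 3 G) = 4 := by
    obtain ⟨T⟩ : Nonempty (Sylow 3 G) := inferInstance
    have h1 := card_sylow_modEq_one 3 G
    have h2 := T.card_dvd_index
    have h4 := (T : Subgroup G).card_mul_index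
    have h5 : Nat.card (T : Subgroup G) = 3 := hT3 T
    rw [h5, hn] at h4
    have h6 : (T : Subgroup G).index = 4 ∨ (T : Subgroup G).index = 8 := by omega
    have h7 : Nat.card (Sylow 3 G) ∣ 8 := by
      rcases h6 with h | h
      · rw [h] at h2; exact h2.trans (by norm_num)
      · rw [h] at h2; exact h2
    have h8 := Nat.le_of_dvd (by norm_num) h7
    have h9 : Nat.card (Sylow 3 G) % 3 = 1 := h1
    have h10 : Nat.card (Sylow 3 G) ≠ 1 := by
      intro h
      have hTn : (T : Subgroup G).Normal := by
        rw [← Subgroup.normalizer_eq_top_iff, ← Subgroup.index_eq_one]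
        have := T.card_eq_index_normalizer
        rw [h] at this
        exact this.symm
      apply hcommV T
      intro t ht
      rw [Subgroup.mem_centralizer_iff]
      intro v hv
      have := Subgroup.commute_of_normal_of_disjoint V (T : Subgroup G) inferInstance hTn (by
        rw [Subgroup.disjoint_def]
        intro x hx hx'
        exact hdis T x hx' hx) v t hv ht
      exact this
    interval_cases hh : Nat.card (Sylow 3 G) <;> omega
  refine ⟨MulAction.toPermHom G (Sylow 3 G), ?_, hn3⟩
  rw [← MonoidHom.ker_eq_bot_iff, eq_bot_iff]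
  set Kr := (MulAction.toPermHom G (Sylow 3 G)).ker with hKr
  have hfixT : ∀ x ∈ Kr, ∀ T : Sylow 3 G, x ∈ Subgroup.normalizer (T : Set G) := by
    intro x hx T
    rw [hKr, MonoidHom.mem_ker] at hx
    have h1 : x • T = T := by
      have := congrArg (fun e : Equiv.Perm (Sylow 3 G) => e T) hx
      simpa using this
    exact Sylow.smul_eq_iff_mem_normalizer.1 h1
  obtain ⟨T⟩ : Nonempty (Sylow 3 G) := inferInstance
  have hKV : Disjoint Kr V := by
    rw [Subgroup.disjoint_def]
    intro x hx hxV
    exact hfix T x hxV (hfixT x hx T)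
  have hle : Kr ≤ V := by
    rw [← hC]
    intro x hx
    rw [Subgroup.mem_centralizer_iff]
    intro v hv
    exact (Subgroup.commute_of_normal_of_disjoint Kr V inferInstance inferInstance hKV x v hx hv).symm
  intro x hx
  rw [Subgroup.mem_bot]
  exact Subgroup.disjoint_def.1 hKV hx (hle hx)

end Cfsg.Agent.H5
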