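import Mathlib
import Cfsg.Agent.H5.Klein2
import Cfsg.Agent.H5.SL2Inv
import Cfsg.Agent.H16.SL2Cent

set_option autoImplicit false

/-! Involutions and Klein four-groups of `PSL₂(q)`, `q` odd. -/

namespace Cfsg.Agent.H5

open Matrix
open Cfsg.Agent.H16

section
variable {F : Type*} [Field F] [Fintype F]

local notation "SL₂" => Matrix.SpecialLinearGroup (Fin 2) F
local notation "M₂" => Matrix (Fin 2) (Fin 2) F
local notation "PG" => Matrix.ProjectiveSpecialLinearGroup (Fin 2) F
local notation "π" => (QuotientGroup.mk' (Subgroup.center (Matrix.SpecialLinearGroup (Fin 2) F)))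

theorem coe_eq_one {g : SL₂} : (g : M₂) = 1 ↔ g = 1 :=
  ⟨fun h => Subtype.ext (by rw [h]; rfl), fun h => by rw [h]; rfl⟩

theorem coe_eq_neg_one {g : SL₂} : (g : M₂) = -1 ↔ g = -1 :=
  ⟨fun h => Subtype.ext (by rw [h]; rfl), fun h => by rw [h]; rfl⟩

theorem pi_eq_one_iff {g : SL₂} : π g = 1 ↔ g = 1 ∨ g = -1 := by
  rw [← coe_eq_one, ← coe_eq_neg_one, ← isScal_sl_iff, ← psl_mk_one_iff]
  rfl

theorem psl_card_eq (h2 : (2 : F) ≠ 0) : Nat.card SL₂ = 2 * Nat.card PG := by
  rw [Subgroup.card_eq_card_quotient_mul_card_subgroup (Subgroup.center SL₂), card_center_SL 2 (by norm_num), mul_comm]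
  congr 1
  rw [Nat.gcd_eq_left_iff_dvd]
  have hodd : Odd (Fintype.card F) := by
    rcases Nat.even_or_odd (Fintype.card F) with h | h
    · exfalso
      apply h2
      obtain ⟨p, hp⟩ := CharP.exists F
      haveI : Fact p.Prime := ⟨CharP.char_is_prime F p⟩
      obtain ⟨n, -, hn⟩ := FiniteField.card F p
      have h1 : 2 ∣ p := by
        have := h.two_dvd
        rw [hn] at this
        exact Nat.prime_two.dvd_of_dvd_pow this
      have h3 : p = 2 := ((Nat.prime_dvd_prime_iff_eq Nat.prime_two Fact.out).1 h1).symm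
      subst h3
      have := CharP.cast_eq_zero F 2
      exact_mod_cast this
    · exact h
  obtain ⟨k, hk⟩ := hodd
  rw [Nat.card_eq_fintype_card, hk]
  simp

theorem neg_one_mem_cent (d : SL₂) : (-1 : SL₂) ∈ Subgroup.centralizer ({d} : Set SL₂) := by
  rw [Subgroup.mem_centralizer_singleton_iff]; simp

theorem center_le_cent (d : SL₂) : Subgroup.center SL₂ ≤ Subgroup.centralizer ({d} : Set SL₂) :=
  Subgroup.center_le_centralizer _

theorem card_map_pi (h2 : (2 : F) ≠ 0) {H : Subgroup SL₂} (hH : Subgroup.center SL₂ ≤ H) :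
    Nat.card H = 2 * Nat.card (H.map π) := by
  have h1 := (H.map π).card_mul_index
  have h3 := H.card_mul_index
  rw [Subgroup.index_map_eq H (QuotientGroup.mk'_surjective _) (by rw [QuotientGroup.ker_mk']; exact hH)] at h1
  rw [psl_card_eq h2, ← h1] at h3
  have h4 : 0 < H.index := Nat.pos_of_ne_zero H.index_ne_zero_of_finite
  apply Nat.eq_of_mul_eq_mul_right h4
  rw [h3]; ring

theorem sq_of_pi {g : SL₂} (h : π g * π g = 1) : g * g = 1 ∨ g * g = -1 := by
  rw [← map_mul, pi_eq_one_iff] at h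
  exact h

theorem trace_zero_of_sq {g : SL₂} (h : g * g = -1) : (g : M₂).trace = 0 := by
  have h1 := sl_sq g
  rw [← Matrix.SpecialLinearGroup.coe_mul, h] at h1
  have h3 : (g : M₂).trace • (g : M₂) = 0 := by
    have h4 : ((-1 : SL₂) : M₂) = -1 := rfl
    rw [h4] at h1
    have h5 := eq_sub_iff_add_eq.1 h1
    rw [neg_add_cancel] at h5
    exact h5.symm
  rcases smul_eq_zero.1 h3 with h4 | h4
  · exact h4
  · exfalso
    have := sl_det g
    rw [h4] at this
    simp at this

theorem psl_order_two_iff (h2 : (2 : F) ≠ 0) (g : SL₂) : orderOf (π g) = 2 ↔ (g : M₂).trace = 0 := by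
  constructor
  · intro h
    have h1 : π g * π g = 1 := by
      have := pow_orderOf_eq_one (π g)
      rwa [h, pow_two] at this
    rcases sq_of_pi h1 with h3 | h3
    · exfalso
      have h4 : π g = 1 := pi_eq_one_iff.2 (sl2_sq_one h2 h3)
      rw [h4, orderOf_one] at h
      omega
    · exact trace_zero_of_sq h3
  · intro h
    apply orderOf_eq_prime
    · rw [pow_two, ← map_mul, pi_eq_one_iff]
      right
      exact sq_eq_neg_one_of_trace h
    · intro h1
      rcases pi_eq_one_iff.1 h1 with h3 | h3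
      · rw [h3] at h
        simp at h
        exact h2 h
      · rw [h3] at h
        simp at h
        exact h2 h

theorem trace_zero_ne (h2 : (2 : F) ≠ 0) {d : SL₂} (hd : (d : M₂).trace = 0) : (d : M₂).trace ^ 2 ≠ 4 := by
  rw [hd]
  intro h
  apply h2
  have h4 : (2 : F) * 2 = 0 := by linear_combination -h
  rcases mul_eq_zero.1 h4 with h5 | h5 <;> exact h5

theorem centralizer_pi (h2 : (2 : F) ≠ 0) {d : SL₂} (hd : (d : M₂).trace = 0) :
    Subgroup.centralizer {π d} =
      (Subgroup.normalizer ((Subgroup.centralizer ({d} : Set SL₂) : Subgroup SL₂) : Set SL₂)).map π := by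
  have ht := trace_zero_ne h2 hd
  have hs := not_scal_of_trace ht
  have hinv : d⁻¹ = -d := by
    rw [inv_eq_iff_mul_eq_one, mul_neg, sq_eq_neg_one_of_trace hd, neg_neg]
  ext y
  constructor
  · intro hy
    obtain ⟨g, rfl⟩ := QuotientGroup.mk'_surjective _ y
    rw [Subgroup.mem_centralizer_singleton_iff] at hy
    refine ⟨g, ?_, rfl⟩
    have h1 : π (g * d * g⁻¹ * d⁻¹) = 1 := by
      rw [map_mul, map_mul, map_mul, hy, map_inv, map_inv, mul_inv_cancel_right, mul_inv_cancel]
    rcases pi_eq_one_iff.1 h1 with h3 | h3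
    · apply Subgroup.le_normalizer
      rw [Subgroup.mem_centralizer_singleton_iff]
      rw [mul_inv_eq_one, mul_inv_eq_iff_eq_mul] at h3
      exact h3
    · apply inverting_mem
      rw [mul_inv_eq_iff_eq_mul] at h3
      rw [h3, hinv, neg_one_mul]
  · rintro ⟨g, hg, rfl⟩
    rw [Subgroup.mem_centralizer_singleton_iff]
    by_cases hgc : g ∈ Subgroup.centralizer ({d} : Set SL₂)
    · rw [Subgroup.mem_centralizer_singleton_iff] at hgc
      rw [← map_mul, hgc, map_mul]
    · have h3 := norm_inverts hs h2 ht hg hgc d (by rw [Subgroup.mem_centralizer_singleton_iff])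
      have h4 : g * d = d⁻¹ * g := by rw [← h3]; group
      have h5 : π (d⁻¹) = π d := by
        rw [hinv]
        have : -d = (-1) * d := by rw [neg_one_mul]
        rw [this, map_mul, pi_eq_one_iff.2 (Or.inr rfl), one_mul]
      rw [← map_mul, h4, map_mul, h5]

theorem dihC_pi (h2 : (2 : F) ≠ 0) {d : SL₂} (hd : (d : M₂).trace = 0) :
    DihC (π d) ((Subgroup.centralizer ({d} : Set SL₂)).map π) := by
  have ht := trace_zero_ne h2 hd
  have hs := not_scal_of_trace ht
  have hinv : d⁻¹ = -d := by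
    rw [inv_eq_iff_mul_eq_one, mul_neg, sq_eq_neg_one_of_trace hd, neg_neg]
  have hcN : Subgroup.center SL₂ ≤
      Subgroup.normalizer ((Subgroup.centralizer ({d} : Set SL₂) : Subgroup SL₂) : Set SL₂) :=
    (center_le_cent d).trans Subgroup.le_normalizer
  refine ⟨⟨d, by rw [SetLike.mem_coe, Subgroup.mem_centralizer_singleton_iff], rfl⟩, ?_, ?_, ?_, ?_⟩
  · rw [centralizer_pi h2 hd]
    exact Subgroup.map_mono Subgroup.le_normalizer
  · rw [centralizer_pi h2 hd]
    have h1 := card_map_pi h2 hcN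
    have h3 := card_map_pi h2 (center_le_cent d)
    have h4 := card_norm_tor hs h2 ht
    omega
  · intro y hy hyA
    rw [centralizer_pi h2 hd] at hy
    obtain ⟨g, hg, rfl⟩ := hy
    have hgc : g ∉ Subgroup.centralizer ({d} : Set SL₂) := fun h => hyA ⟨g, h, rfl⟩
    have h1 := sq_neg_one hs h2 ht hg hgc
    rw [← map_mul, pi_eq_one_iff]
    right
    rw [← coe_eq_neg_one, Matrix.SpecialLinearGroup.coe_mul]
    exact h1
  · rintro y ⟨g, hg, rfl⟩ hy
    rcases sq_of_pi hy with h3 | h3
    · left; exact pi_eq_one_iff.2 (sl2_sq_one h2 h3)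
    · right
      have h4 := trace_zero_of_sq h3
      rcases eq_or_inv_of_trace hs h2 ht hg (by rw [h4, hd]) with h5 | h5
      · rw [h5]
      · rw [h5, hinv]
        have : -d = (-1) * d := by rw [neg_one_mul]
        rw [this, map_mul, pi_eq_one_iff.2 (Or.inr rfl), one_mul]

theorem card_cent_pi (h2 : (2 : F) ≠ 0) {d : SL₂} (hd : (d : M₂).trace = 0) :
    Nat.card (Subgroup.centralizer {π d} : Subgroup PG) = Nat.card (Subgroup.centralizer ({d} : Set SL₂)) := by
  have h1 := (dihC_pi h2 hd).card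
  rw [h1, ← card_map_pi h2 (center_le_cent d)]

/-- `|C(d)|` for `d` of trace zero, split case -/
theorem card_cent_zero_split {q : ℕ} (hF : Fintype.card F = q) (hq : q % 4 = 1) {d : SL₂} (hd : (d : M₂).trace = 0) :
    Nat.card (Subgroup.centralizer ({d} : Set SL₂)) = q - 1 := by
  have hodd : Odd (Fintype.card F) := by rw [hF, Nat.odd_iff]; omega
  have h2 := two_ne_zero_of_odd hodd
  obtain ⟨l, hl⟩ : IsSquare (-1 : F) := by
    rw [FiniteField.isSquare_neg_one_iff, hF]; omega
  have hl0 : l ≠ 0 := by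
    rintro rfl
    simp at hl
  have hne : l * l ≠ 1 := by
    rw [← hl]
    intro h
    apply h2
    linear_combination -h
  have hlinv : l⁻¹ = -l := by
    rw [inv_eq_iff_eq_inv]
    apply eq_inv_of_mul_eq_one_left
    linear_combination hl
  rw [card_cent_sl2_split d hl0 hne (by rw [hd, hlinv]; ring), hF]

theorem card_cent_zero_ell {q : ℕ} (hF : Fintype.card F = q) (hq : q % 4 = 3) {d : SL₂} (hd : (d : M₂).trace = 0) :
    Nat.card (Subgroup.centralizer ({d} : Set SL₂)) = q + 1 := by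
  rw [card_cent_sl2_ell d, hF]
  intro c hc
  rw [hd] at hc
  have h1 : IsSquare (-1 : F) := ⟨c, by linear_combination -hc⟩
  rw [FiniteField.isSquare_neg_one_iff, hF] at h1
  omega

theorem psl_inv_conj (h2 : (2 : F) ≠ 0) (x y : PG) (hx : orderOf x = 2) (hy : orderOf y = 2) : IsConj x y := by
  obtain ⟨g, rfl⟩ := QuotientGroup.mk'_surjective _ x
  obtain ⟨k, rfl⟩ := QuotientGroup.mk'_surjective _ y
  rw [psl_order_two_iff h2] at hx hy
  have tg := trace_zero_ne h2 hx
  have tk := trace_zero_ne h2 hy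
  have h1 : IsConj g k := sl2_isConj_of_universal (t := 0)
    (fun c _ => nf_pos_universal _ (by rw [← hx]; exact tg) c) (not_scal_of_trace tg) (not_scal_of_trace tk) hx hy
  obtain ⟨u, hu⟩ := isConj_iff.1 h1
  rw [isConj_iff]
  exact ⟨π u, by rw [← hu, map_mul, map_mul, map_inv]⟩

theorem psl_exists_inv (h2 : (2 : F) ≠ 0) : ∃ x : PG, orderOf x = 2 := by
  let d : SL₂ := ⟨!![0, 1; -1, 0], by rw [det_fin_two_of]; ring⟩
  refine ⟨π d, (psl_order_two_iff h2 d).2 ?_⟩
  show (!![0, 1; -1, 0] : M₂).trace = 0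
  simp [Matrix.trace_fin_two]

theorem psl_klein_count (h2 : (2 : F) ≠ 0) : 12 * Nat.card {V : Subgroup PG // IsKleinFour V} = Nat.card PG := by
  obtain ⟨x₀, hx₀⟩ := psl_exists_inv (F := F) h2
  apply card_klein_all (Nat.card (Subgroup.centralizer {x₀} : Subgroup PG)) Nat.card_pos (psl_inv_conj h2) ⟨x₀, hx₀⟩
  intro x hx
  obtain ⟨g, rfl⟩ := QuotientGroup.mk'_surjective _ x
  refine ⟨⟨_, dihC_pi h2 ((psl_order_two_iff h2 g).1 hx)⟩, ?_⟩
  obtain ⟨c, hc⟩ := isConj_iff.1 (psl_inv_conj h2 _ _ hx₀ hx)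
  rw [← hc]
  symm
  apply Nat.card_congr
  exact
    { toFun := fun z => ⟨c * z.1 * c⁻¹, by
        have := Subgroup.mem_centralizer_singleton_iff.1 z.2
        rw [Subgroup.mem_centralizer_singleton_iff]
        calc c * z.1 * c⁻¹ * (c * x₀ * c⁻¹) = c * (z.1 * x₀) * c⁻¹ := by group
          _ = c * x₀ * c⁻¹ * (c * z.1 * c⁻¹) := by rw [this]; group⟩
      invFun := fun z => ⟨c⁻¹ * z.1 * c, by
        have := Subgroup.mem_centralizer_singleton_iff.1 z.2
        rw [Subgroup.mem_centralizer_singleton_iff]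
        calc c⁻¹ * z.1 * c * x₀ = c⁻¹ * (z.1 * (c * x₀ * c⁻¹)) * c := by group
          _ = x₀ * (c⁻¹ * z.1 * c) := by rw [this]; group⟩
      left_inv := fun z => by apply Subtype.ext; simp [mul_assoc]
      right_inv := fun z => by apply Subtype.ext; simp [mul_assoc] }

theorem psl_klein_cent (h2 : (2 : F) ≠ 0) (V : Subgroup PG) (hV : IsKleinFour V) :
    Subgroup.centralizer (V : Set PG) = V := by
  obtain ⟨x, y, hx, hy, hx1, hy1, hxy⟩ := klein_exists hV
  obtain ⟨g, rfl⟩ := QuotientGroup.mk'_surjective _ x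
  have ho : orderOf (π g) = 2 := orderOf_eq_prime (by rw [pow_two]; exact klein_sq hV hx) hx1
  exact (dihC_pi h2 ((psl_order_two_iff h2 g).1 ho)).cent_klein hx1 hV hx

end

end Cfsg.Agent.H5
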