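import Mathlib
import Cfsg.Agent.H5.KleinPSL
import Cfsg.Agent.H5.PSLEmb

set_option autoImplicit false

/-! `A₄` and `S₄` in `PSL₂(q)`. -/

namespace Cfsg.Agent.H5

open Matrix
open Cfsg.Agent.H16

section
variable {G : Type*} [Group G] [Finite G]

theorem card_normalizer_24 (hall : 12 * Nat.card {V : Subgroup G // IsKleinFour V} = Nat.card G)
    (hcent : ∀ V : Subgroup G, IsKleinFour V → Subgroup.centralizer (V : Set G) = V) (h8 : 8 ∣ Nat.card G)
    {V : Subgroup G} (hV : IsKleinFour V) : Nat.card (Subgroup.normalizer (V : Set G)) = 24 := by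
  have h1 := Sylow.prime_pow_dvd_card_normalizer (p := 2) (n := 2) (H := V) (by norm_num; exact h8)
    (by rw [hV.card_four]; norm_num)
  rcases card_normalizer_klein' hall hcent hV with h | h
  · rw [h] at h1; revert h1; norm_num
  · exact h

theorem klein_perm4 (hall : 12 * Nat.card {V : Subgroup G // IsKleinFour V} = Nat.card G)
    (hcent : ∀ V : Subgroup G, IsKleinFour V → Subgroup.centralizer (V : Set G) = V)
    {V : Subgroup G} (hV : IsKleinFour V) :
    (Nat.card (Subgroup.normalizer (V : Set G)) = 12 ∧ Nonempty (Subgroup.normalizer (V : Set G) ≃* alternatingGroup (Fin 4))) ∨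
    (Nat.card (Subgroup.normalizer (V : Set G)) = 24 ∧ Nonempty (Subgroup.normalizer (V : Set G) ≃* Equiv.Perm (Fin 4))) := by
  set N := Subgroup.normalizer (V : Set G) with hN
  let W : Subgroup N := V.subgroupOf N
  haveI : W.Normal := Subgroup.normal_in_normalizer
  have e : W ≃* V := Subgroup.subgroupOfEquivOfLe Subgroup.le_normalizer
  have hW : IsKleinFour W := by
    refine ⟨?_, ?_⟩
    · rw [Nat.card_congr e.toEquiv, hV.card_four]
    · rw [Monoid.exponent_eq_of_mulEquiv e, hV.exponent_two]
  have hWc : Subgroup.centralizer (W : Set N) = W := by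
    apply le_antisymm
    · intro x hx
      rw [Subgroup.mem_centralizer_iff] at hx
      show (x : G) ∈ V
      rw [← hcent V hV, Subgroup.mem_centralizer_iff]
      intro v hv
      exact congrArg Subtype.val (hx ⟨v, Subgroup.le_normalizer hv⟩ hv)
    · intro x hx
      rw [Subgroup.mem_centralizer_iff]
      intro v hv
      exact klein_comm hW hv hx
  have h3 : 3 ∣ Nat.card N := by
    rcases card_normalizer_klein' hall hcent hV with h | h <;> rw [← hN] at h <;> rw [h] <;> norm_num
  obtain ⟨f, hf, h4⟩ := perm4_of_klein W hW hWc h3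
  rcases card_normalizer_klein' hall hcent hV with h | h
  · left
    rw [← hN] at h
    exact ⟨h, equiv_alternating_of_injective f hf 4 h4 (by rw [h]; rfl)⟩
  · right
    rw [← hN] at h
    exact ⟨h, equiv_perm_of_injective f hf 4 h4 (by rw [h]; rfl)⟩

theorem exists_A4_of_klein (hall : 12 * Nat.card {V : Subgroup G // IsKleinFour V} = Nat.card G)
    (hcent : ∀ V : Subgroup G, IsKleinFour V → Subgroup.centralizer (V : Set G) = V)
    {V : Subgroup G} (hV : IsKleinFour V) : ∃ H : Subgroup G, Nonempty (H ≃* alternatingGroup (Fin 4)) := by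
  rcases klein_perm4 hall hcent hV with ⟨-, ⟨h⟩⟩ | ⟨-, ⟨h⟩⟩
  · exact ⟨_, ⟨h⟩⟩
  · apply exists_subgroup_of_inj ((Subgroup.normalizer (V : Set G)).subtype.comp
      (h.symm.toMonoidHom.comp (alternatingGroup (Fin 4)).subtype))
    exact (Subgroup.subtype_injective _).comp (h.symm.injective.comp (Subgroup.subtype_injective _))

end

section
variable {F : Type*} [Field F] [Fintype F]

local notation "SL₂" => Matrix.SpecialLinearGroup (Fin 2) F
local notation "M₂" => Matrix (Fin 2) (Fin 2) F
local notation "PG" => Matrix.ProjectiveSpecialLinearGroup (Fin 2) F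
local notation "π" => (QuotientGroup.mk' (Subgroup.center (Matrix.SpecialLinearGroup (Fin 2) F)))

theorem psl_exists_klein (h2 : (2 : F) ≠ 0) : ∃ V : Subgroup PG, IsKleinFour V := by
  by_contra h
  push Not at h
  have h1 := psl_klein_count (F := F) h2
  haveI : IsEmpty {V : Subgroup PG // IsKleinFour V} := ⟨fun V => h V.1 V.2⟩
  rw [Nat.card_of_isEmpty, mul_zero] at h1
  have : 0 < Nat.card PG := Nat.card_pos
  omega

theorem pi_injective_of_two (h2 : (2 : F) = 0) : Function.Injective π := by
  rw [injective_iff_map_eq_one]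
  intro g hg
  rcases pi_eq_one_iff.1 hg with h | h
  · exact h
  · rw [h]
    apply Subtype.ext
    ext i j
    have h1 : (-1 : F) = 1 := by linear_combination -h2
    fin_cases i <;> fin_cases j <;> simp [h1]

/-- the field has a cube root of unity if `A₄` embeds, characteristic two -/
theorem root_of_A4 (h2 : (2 : F) = 0) (x y t : SL₂) (hx : x * x = 1) (hx1 : x ≠ 1) (hxy : x * y = y * x)
    (hy : t * x * t⁻¹ = y) (ht : t * y * t⁻¹ = x * y) : ∃ b : F, b ^ 3 = 1 ∧ b ≠ 1 := by
  haveI : CharP F 2 := CharTwo.of_one_ne_zero_of_two_eq_zero one_ne_zero h2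
  have hns : ¬ IsScal (x : M₂) := by
    intro h
    rcases isScal_sl_iff.1 h with h1 | h1
    · exact hx1 (coe_eq_one.1 h1)
    · apply hx1
      apply Subtype.ext
      rw [h1]
      ext i j
      have h1 : (-1 : F) = 1 := by linear_combination -h2
      fin_cases i <;> fin_cases j <;> simp [h1]
  have hxM : (x : M₂) * (x : M₂) = 1 := by rw [← Matrix.SpecialLinearGroup.coe_mul, hx]; rfl
  have htr : (x : M₂).trace = 0 := by
    have h1 := sl_sq x
    rw [hxM] at h1
    have h3 : (x : M₂).trace • (x : M₂) = 0 := by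
      have h4 : (x : M₂).trace • (x : M₂) = 1 + 1 := by
        rw [eq_sub_iff_add_eq] at h1; exact h1.symm
      rw [h4]
      ext i j
      fin_cases i <;> fin_cases j <;> simp [one_add_one_eq_two, h2]
    rcases smul_eq_zero.1 h3 with h4 | h4
    · exact h4
    · exfalso
      have := sl_det x
      rw [h4] at this
      simp at this
  obtain ⟨a, b, hab⟩ := commute_nonscalar hns (show (x : M₂) * (y : M₂) = (y : M₂) * x by
    rw [← Matrix.SpecialLinearGroup.coe_mul, hxy, Matrix.SpecialLinearGroup.coe_mul])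
  have hdet := det_lin (x : M₂) a b
  rw [← hab, sl_det, sl_det, htr, mul_zero, add_zero, mul_one] at hdet
  have hsum : a + b = 1 := by
    have h3 : (a + b - 1) ^ 2 = 0 := by linear_combination -hdet + (a * b - a - b + 1) * h2
    have := pow_eq_zero_iff (two_ne_zero) |>.1 h3
    linear_combination this
  -- conjugate by t
  have hM : (t : M₂) * (y : M₂) * ((t⁻¹ : SL₂) : M₂) = a • (1 : M₂) + b • (y : M₂) := by
    nth_rewrite 1 [hab]
    have h5 : (t : M₂) * ((t⁻¹ : SL₂) : M₂) = 1 := by
      rw [← Matrix.SpecialLinearGroup.coe_mul, mul_inv_cancel]; rfl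
    have h6 : (t : M₂) * (x : M₂) * ((t⁻¹ : SL₂) : M₂) = y := by
      rw [← Matrix.SpecialLinearGroup.coe_mul, ← Matrix.SpecialLinearGroup.coe_mul, hy]
    rw [mul_add, add_mul, Matrix.mul_smul, Matrix.mul_smul, Matrix.smul_mul, Matrix.smul_mul, Matrix.mul_one, h5, h6]
  have hM2 : (t : M₂) * (y : M₂) * ((t⁻¹ : SL₂) : M₂) = (x : M₂) * (y : M₂) := by
    rw [← Matrix.SpecialLinearGroup.coe_mul, ← Matrix.SpecialLinearGroup.coe_mul, ht, Matrix.SpecialLinearGroup.coe_mul]
  rw [hM2, hab, mul_add, Matrix.mul_smul, Matrix.mul_smul, Matrix.mul_one, hxM, smul_add, smul_smul, smul_smul] at hM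
  -- a x + b = a + b a + b b x
  have hlin : (a - b * b) • (x : M₂) = (a + b * a - b) • (1 : M₂) := by
    have := hM
    rw [sub_smul, sub_smul, add_smul]
    rw [sub_eq_sub_iff_add_eq_add]
    rw [this]; abel
  have hab2 : a - b * b = 0 := by
    by_contra hne
    apply hns
    rw [isScal_iff]
    refine ⟨(a - b * b)⁻¹ * (a + b * a - b), ?_⟩
    rw [← smul_smul, ← hlin, smul_smul, inv_mul_cancel₀ hne, one_smul]
  have hb : b * b + b + 1 = 0 := by linear_combination hsum - hab2 + h2
  refine ⟨b, ?_, ?_⟩
  · linear_combination (b - 1) * hb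
  · rintro rfl
    apply one_ne_zero (α := F)
    linear_combination hb - h2

theorem three_dvd_of_root {b : F} (hb : b ^ 3 = 1) (hb1 : b ≠ 1) : 3 ∣ Fintype.card F - 1 := by
  have hb0 : b ≠ 0 := by rintro rfl; simp at hb
  have h1 : orderOf (Units.mk0 b hb0) = 3 := by
    apply orderOf_eq_prime
    · apply Units.ext; simpa using hb
    · intro h
      apply hb1
      have := congrArg Units.val h
      simpa using this
  classical
  rw [← h1, ← Fintype.card_units, ← Nat.card_eq_fintype_card]
  exact orderOf_dvd_natCard _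

end

end Cfsg.Agent.H5
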