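import Mathlib
import Cfsg.Agent.H5.PSLA4
import Cfsg.Agent.H21.PresA5

set_option autoImplicit false

/-! `A₅` in `PSL₂(q)`. -/

namespace Cfsg.Agent.H5

open Matrix
open Cfsg.Agent.H16

theorem a5_gens : ∃ x y : alternatingGroup (Fin 5), x ^ 3 = 1 ∧ x ≠ 1 ∧ y ^ 5 = 1 ∧ y ≠ 1 ∧ (x * y) ^ 2 = 1 ∧ x * y ≠ 1 :=
  ⟨⟨c[(0 : Fin 5), 4, 2], by rw [Equiv.Perm.mem_alternatingGroup]; decide⟩,
    ⟨c[(0 : Fin 5), 1, 2, 3, 4], by rw [Equiv.Perm.mem_alternatingGroup]; decide⟩,
    by decide, by decide, by decide, by decide, by decide, by decide⟩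

theorem a5_closure {x y : alternatingGroup (Fin 5)} (hx : x ^ 3 = 1) (hx1 : x ≠ 1) (hy : y ^ 5 = 1) (hy1 : y ≠ 1)
    (hxy : (x * y) ^ 2 = 1) (hxy1 : x * y ≠ 1) : Subgroup.closure {x, y} = ⊤ := by
  set H := Subgroup.closure {x, y} with hH
  have hxH : x ∈ H := Subgroup.subset_closure (by simp)
  have hyH : y ∈ H := Subgroup.subset_closure (by simp)
  have h60 : Nat.card (alternatingGroup (Fin 5)) = 60 := by
    rw [Nat.card_eq_fintype_card]
    have := two_mul_card_alternatingGroup (α := Fin 5)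
    rw [Fintype.card_perm, Fintype.card_fin] at this
    have h7 : Nat.factorial 5 = 120 := rfl
    omega
  have h3 : 3 ∣ Nat.card H := by
    have h1 : orderOf x = 3 := orderOf_eq_prime hx hx1
    have h2 := Subgroup.orderOf_dvd_natCard H hxH
    rwa [h1] at h2
  have h5 : 5 ∣ Nat.card H := by
    haveI : Fact (Nat.Prime 5) := ⟨by norm_num⟩
    have h1 : orderOf y = 5 := orderOf_eq_prime hy hy1
    have h2 := Subgroup.orderOf_dvd_natCard H hyH
    rwa [h1] at h2
  have h2 : 2 ∣ Nat.card H := by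
    have h1 : orderOf (x * y) = 2 := orderOf_eq_prime hxy hxy1
    have h2 := Subgroup.orderOf_dvd_natCard H (H.mul_mem hxH hyH)
    rwa [h1] at h2
  have h30 : 30 ∣ Nat.card H := by
    have h6 : 2 * 3 ∣ Nat.card H := Nat.Coprime.mul_dvd_of_dvd_of_dvd (by norm_num) h2 h3
    exact Nat.Coprime.mul_dvd_of_dvd_of_dvd (by norm_num : Nat.Coprime 6 5) h6 h5
  have hmul := H.card_mul_index
  rw [h60] at hmul
  obtain ⟨k, hk⟩ := h30
  rw [hk] at hmul
  have hki : k * H.index = 2 := by
    have : 30 * (k * H.index) = 60 := by rw [← hmul]; ring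
    omega
  have hidx : H.index = 1 ∨ H.index = 2 := (Nat.dvd_prime Nat.prime_two).1 ⟨k, by rw [← hki]; ring⟩
  rcases hidx with h | h
  · exact Subgroup.index_eq_one.1 h
  · exfalso
    haveI : H.Normal := Subgroup.normal_of_index_eq_two h
    haveI : IsSimpleGroup (alternatingGroup (Fin 5)) := alternatingGroup.isSimpleGroup_five
    rcases IsSimpleGroup.eq_bot_or_eq_top_of_normal H inferInstance with h1 | h1
    · rw [h1] at hxH
      exact hx1 (Subgroup.mem_bot.1 hxH)
    · rw [h1, Subgroup.index_top] at h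
      omega

theorem a5_of_rels {G : Type*} [Group G] (a b : G) (ha : a ^ 3 = 1) (hb : b ^ 5 = 1) (hab : (a * b) ^ 2 = 1)
    (ha1 : a ≠ 1) : ∃ f : alternatingGroup (Fin 5) →* G, Function.Injective f := by
  obtain ⟨x, y, hx, hx1, hy, hy1, hxy, hxy1⟩ := a5_gens
  have hgen := a5_closure hx hx1 hy hy1 hxy hxy1
  let D : Subgroup (alternatingGroup (Fin 5) × G) := Subgroup.closure {(x, a), (y, b)}
  let x' : D := ⟨(x, a), Subgroup.subset_closure (by simp)⟩
  let y' : D := ⟨(y, b), Subgroup.subset_closure (by simp)⟩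
  have hD : Subgroup.closure {x', y'} = ⊤ := by
    have h1 := Subgroup.closure_closure_coe_preimage (k := ({(x, a), (y, b)} : Set (alternatingGroup (Fin 5) × G)))
    rw [← h1]
    congr 1
    ext z
    simp only [Set.mem_insert_iff, Set.mem_singleton_iff, Set.mem_preimage]
    constructor
    · rintro (rfl | rfl)
      · left; rfl
      · right; rfl
    · rintro (h | h)
      · left; exact Subtype.ext h
      · right; exact Subtype.ext h
  obtain ⟨hfin, hle⟩ := Cfsg.Agent.H21.card_le_sixty x' y' hD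
    (by apply Subtype.ext; exact Prod.ext hx ha) (by apply Subtype.ext; exact Prod.ext hy hb)
    (by apply Subtype.ext; exact Prod.ext hxy hab)
  let φ : D →* alternatingGroup (Fin 5) := (MonoidHom.fst _ _).comp D.subtype
  have hsurj : Function.Surjective φ := by
    rw [← MonoidHom.range_eq_top, eq_top_iff, ← hgen, Subgroup.closure_le]
    rintro z (rfl | rfl)
    · exact ⟨x', rfl⟩
    · exact ⟨y', rfl⟩
  have h60 : Nat.card (alternatingGroup (Fin 5)) = 60 := by
    rw [Nat.card_eq_fintype_card]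
    have := two_mul_card_alternatingGroup (α := Fin 5)
    rw [Fintype.card_perm, Fintype.card_fin] at this
    have h7 : Nat.factorial 5 = 120 := rfl
    omega
  have hbij : Function.Bijective φ := by
    rw [Nat.bijective_iff_surjective_and_card]
    refine ⟨hsurj, ?_⟩
    have := Nat.card_le_card_of_surjective φ hsurj
    omega
  let e := MulEquiv.ofBijective φ hbij
  let f : alternatingGroup (Fin 5) →* G := ((MonoidHom.snd _ _).comp D.subtype).comp e.symm.toMonoidHom
  refine ⟨f, ?_⟩
  have hfx : f x = a := by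
    have : e.symm x = x' := by rw [MulEquiv.symm_apply_eq]; rfl
    show ((e.symm x : D) : alternatingGroup (Fin 5) × G).2 = a
    rw [this]
  haveI : IsSimpleGroup (alternatingGroup (Fin 5)) := alternatingGroup.isSimpleGroup_five
  rcases IsSimpleGroup.eq_bot_or_eq_top_of_normal f.ker inferInstance with h1 | h1
  · exact (MonoidHom.ker_eq_bot_iff f).1 h1
  · exfalso
    apply ha1
    have : x ∈ f.ker := by rw [h1]; trivial
    rw [MonoidHom.mem_ker, hfx] at this
    exact this

section
variable {F : Type*} [Field F] [Fintype F]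

local notation "SL₂" => Matrix.SpecialLinearGroup (Fin 2) F
local notation "M₂" => Matrix (Fin 2) (Fin 2) F
local notation "PG" => Matrix.ProjectiveSpecialLinearGroup (Fin 2) F
local notation "π" => (QuotientGroup.mk' (Subgroup.center (Matrix.SpecialLinearGroup (Fin 2) F)))

theorem sl2_pow_five (g : SL₂) : ((g ^ 5 : SL₂) : M₂) =
    ((g : M₂).trace ^ 4 - 3 * (g : M₂).trace ^ 2 + 1) • (g : M₂) - ((g : M₂).trace ^ 3 - 2 * (g : M₂).trace) • (1 : M₂) := by
  have h := sl_sq g
  set t := (g : M₂).trace with ht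
  set A := (g : M₂) with hA
  have e3 : A * A * A = (t ^ 2 - 1) • A - t • (1 : M₂) := by
    rw [h, sub_mul, Matrix.smul_mul, h, smul_sub, smul_smul, Matrix.one_mul, sub_smul, one_smul, pow_two]
    abel
  have e4 : A * A * A * A = (t ^ 3 - 2 * t) • A - (t ^ 2 - 1) • (1 : M₂) := by
    rw [e3, sub_mul, Matrix.smul_mul, h, smul_sub, smul_smul, Matrix.smul_mul, Matrix.one_mul]
    module
  rw [Matrix.SpecialLinearGroup.coe_pow, show A ^ 5 = A * A * A * A * A by rw [pow_succ, pow_succ, pow_succ, pow_two],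
    e4, sub_mul, Matrix.smul_mul, h, smul_sub, smul_smul, Matrix.smul_mul, Matrix.one_mul]
  module

theorem sl2_pow_three (g : SL₂) (h1 : (g : M₂).trace = 1) : g ^ 3 = -1 := by
  apply Subtype.ext
  have h := sl_sq g
  rw [h1, one_smul] at h
  rw [Matrix.SpecialLinearGroup.coe_pow, pow_succ, pow_two, h, sub_mul, h, Matrix.one_mul]
  show (g : M₂) - 1 - (g : M₂) = -1
  abel

theorem pow_five_of_trace {g : SL₂} {t : F} (ht : (g : M₂).trace = t) (h : t ^ 2 + t - 1 = 0) : g ^ 5 = 1 := by
  apply Subtype.ext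
  rw [sl2_pow_five, ht]
  have e1 : t ^ 4 - 3 * t ^ 2 + 1 = 0 := by linear_combination (t ^ 2 - t - 1) * h
  have e2 : t ^ 3 - 2 * t = -1 := by linear_combination (t - 1) * h
  rw [e1, e2, zero_smul, neg_smul, one_smul, sub_neg_eq_add, zero_add]
  rfl

theorem exists_golden (h5 : 5 ∣ Fintype.card F * (Fintype.card F ^ 2 - 1)) : ∃ t : F, t ^ 2 + t - 1 = 0 := by
  haveI : Fact (Nat.Prime 5) := ⟨by norm_num⟩
  obtain ⟨g, hg⟩ := exists_prime_orderOf_dvd_card' (G := SL₂) 5 (by rw [card_SL2 rfl]; exact h5)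
  have hgs : ¬ IsScal (g : M₂) := by
    intro hs
    have h1 : g ^ 2 = 1 := by
      apply Subtype.ext
      rw [Matrix.SpecialLinearGroup.coe_pow, Matrix.SpecialLinearGroup.coe_one]
      rcases isScal_sl_iff.1 hs with h1 | h1 <;> rw [h1] <;> simp
    have h2 := orderOf_dvd_of_pow_eq_one h1
    rw [hg] at h2
    omega
  have hg5 : g ^ 5 = 1 := by rw [← hg]; exact pow_orderOf_eq_one g
  have h := sl2_pow_five g
  rw [hg5] at h
  set t := (g : M₂).trace with ht
  have h' : (t ^ 4 - 3 * t ^ 2 + 1) • (g : M₂) = (1 + (t ^ 3 - 2 * t)) • (1 : M₂) := by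
    rw [Matrix.SpecialLinearGroup.coe_one] at h
    rw [show (1 + (t ^ 3 - 2 * t)) • (1 : M₂) = 1 + (t ^ 3 - 2 * t) • (1 : M₂) by rw [add_smul, one_smul]]
    exact (eq_sub_iff_add_eq.1 h).symm
  have e1 : t ^ 4 - 3 * t ^ 2 + 1 = 0 := by
    by_contra hne
    apply hgs
    rw [isScal_iff]
    refine ⟨(t ^ 4 - 3 * t ^ 2 + 1)⁻¹ * (1 + (t ^ 3 - 2 * t)), ?_⟩
    rw [← smul_smul, ← h', smul_smul, inv_mul_cancel₀ hne, one_smul]
  have e2 : 1 + (t ^ 3 - 2 * t) = 0 := by
    rw [e1, zero_smul] at h'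
    have := congrFun (congrFun h' 0) 0
    simpa using this.symm
  refine ⟨t, ?_⟩
  by_contra hne
  have e3 : t = 1 := by
    have : (t ^ 2 + t - 1) * (t - 1) = 0 := by linear_combination e2
    have := (mul_eq_zero.1 this).resolve_left hne
    linear_combination this
  rw [e3] at e1
  apply one_ne_zero (α := F)
  linear_combination -e1

theorem psl_has_a5 (h5 : 5 ∣ Fintype.card F * (Fintype.card F ^ 2 - 1)) :
    ∃ f : alternatingGroup (Fin 5) →* PG, Function.Injective f := by
  obtain ⟨t, ht⟩ := exists_golden h5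
  by_cases h3 : (3 : F) = 0
  · -- C of trace 0
    have h2 : (2 : F) ≠ 0 := by
      intro h2; apply one_ne_zero (α := F); linear_combination h3 - h2
    let C : SL₂ := ⟨!![0, 1; -1, 0], by rw [det_fin_two_of]; ring⟩
    have hC : (C : M₂).trace = 0 := by
      show (!![0, 1; -1, 0] : M₂).trace = 0
      simp [Matrix.trace_fin_two]
    obtain ⟨A, hA1, hA2⟩ := macbeath (trace_zero_ne h2 hC) 1 (-t)
    have h1 : ((A⁻¹ * C : SL₂) : M₂).trace = t := by
      rw [trace_inv_mul, hA1, hA2, hC]; ring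
    apply a5_of_rels (π A) (π (A⁻¹ * C))
    · rw [← map_pow, sl2_pow_three A hA1, pi_eq_one_iff]; right; rfl
    · rw [← map_pow, pow_five_of_trace h1 ht, map_one]
    · rw [← map_mul, mul_inv_cancel_left, ← map_pow, pow_two, sq_eq_neg_one_of_trace hC, pi_eq_one_iff]
      right; rfl
    · intro h
      rcases pi_eq_one_iff.1 h with h | h
      · rw [h] at hA1
        simp at hA1
        apply one_ne_zero (α := F)
        linear_combination hA1
      · rw [h, neg_one_mul] at hA2
        have h7 : ((-C : SL₂) : M₂).trace = -(C : M₂).trace := by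
          rw [Matrix.SpecialLinearGroup.coe_neg, Matrix.trace_neg]
        rw [h7, hC, neg_zero] at hA2
        have h8 : t = 0 := by linear_combination hA2
        rw [h8] at ht
        apply one_ne_zero (α := F)
        linear_combination -ht
  · let C : SL₂ := ⟨!![0, 1; -1, 1], by rw [det_fin_two_of]; ring⟩
    have hC : (C : M₂).trace = 1 := by
      show (!![0, 1; -1, 1] : M₂).trace = 1
      simp [Matrix.trace_fin_two]
    have hC4 : (C : M₂).trace ^ 2 ≠ 4 := by
      rw [hC]; intro h; apply h3; linear_combination -h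
    obtain ⟨A, hA1, hA2⟩ := macbeath hC4 0 t
    apply a5_of_rels (π C) (π (A * C)⁻¹)
    · rw [← map_pow, sl2_pow_three C hC, pi_eq_one_iff]; right; rfl
    · rw [← map_pow, inv_pow, pow_five_of_trace hA2 ht, inv_one, map_one]
    · rw [← map_mul, _root_.mul_inv_rev, mul_inv_cancel_left, ← map_pow, pi_eq_one_iff]
      right
      rw [inv_pow, pow_two, sq_eq_neg_one_of_trace hA1]
      rw [inv_eq_iff_mul_eq_one]; simp
    · intro h
      have h1 : IsScal (C : M₂) := by
        rw [isScal_sl_iff]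
        rcases pi_eq_one_iff.1 h with h | h
        · left; rw [h]; rfl
        · right; rw [h]; rfl
      exact not_scal_of_trace hC4 h1

end

end Cfsg.Agent.H5
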