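import Cfsg.Prelude.Def_CaseTheorems
import Cfsg.Agent.H5.Dk17
import Cfsg.Agent.H5.PSLA5
set_option autoImplicit false
set_option linter.style.haveILetI false
set_option linter.unusedSectionVars false

/-! Minimal simple `PSL₂(q)`. -/

namespace Cfsg.Agent.H5

open OnePoint Cfsg.Agent.H4 Cfsg.Agent.H2

section
variable {F : Type*} [Field F] [Fintype F]

local notation "PSL₂" => Matrix.ProjectiveSpecialLinearGroup (Fin 2) F

theorem psl2_not_comm (h4 : 4 ≤ Fintype.card F) : ¬ ∀ x y : PSL₂, x * y = y * x := by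
  intro hcomm
  obtain ⟨p, hp⟩ := CharP.exists F
  haveI : Fact p.Prime := ⟨CharP.char_is_prime F p⟩
  obtain ⟨c, w, hc, -, -, -, hww, hwcw, -⟩ := exists_dihedral_minus (F := F) p
  have h1 : c = c⁻¹ := by
    rw [← hwcw, hcomm w c, mul_assoc, hww, mul_one]
  have h2 : c ^ 2 = 1 := by
    rw [pow_two]
    nth_rewrite 1 [h1]
    exact inv_mul_cancel c
  have h3 := Nat.le_of_dvd (by norm_num) (orderOf_dvd_of_pow_eq_one h2)
  have hgc : (Nat.gcd 2 (Fintype.card F - 1) = 1) ∨ (Nat.gcd 2 (Fintype.card F - 1) = 2 ∧ Fintype.card F % 2 = 1) := by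
    rcases gcd_cases (F := F) p with ⟨-, h, -⟩ | ⟨-, h, h'⟩
    · exact Or.inl h
    · exact Or.inr ⟨h, h'⟩
  rcases hgc with h | ⟨h, h'⟩ <;> rw [h] at hc <;> omega

theorem psl2_not_solvable (h4 : 4 ≤ Fintype.card F) : ¬ Group.IsSolvable PSL₂ := by
  intro hs
  haveI : IsSimpleGroup PSL₂ := PSL2_isSimple (by rw [Nat.card_eq_fintype_card]; exact h4)
  exact psl2_not_comm h4 (IsSimpleGroup.comm_iff_isSolvable.2 hs)

theorem a5_not_solvable : ¬ Group.IsSolvable (alternatingGroup (Fin 5)) := by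
  intro hs
  haveI : IsSimpleGroup (alternatingGroup (Fin 5)) := alternatingGroup.isSimpleGroup_five
  have h1 := IsSimpleGroup.comm_iff_isSolvable.2 hs
  have h2 : ∃ x y : alternatingGroup (Fin 5), x * y ≠ y * x := by decide +kernel
  obtain ⟨x, y, h⟩ := h2
  exact h (h1 x y)

theorem five_dvd_four_pow {r : ℕ} (h : 5 ∣ 4 ^ r - 1) : r % 2 = 0 := by
  by_contra hr
  obtain ⟨k, hk⟩ : ∃ k, r = 2 * k + 1 := ⟨r / 2, by omega⟩
  have h1 : 4 ^ r % 5 = 4 := by
    rw [hk, pow_succ, pow_mul, Nat.mul_mod, Nat.pow_mod]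
    norm_num
  have h2 : 0 < 4 ^ r := by positivity
  omega

theorem five_dvd_nine_pow {r : ℕ} (h : 5 ∣ 9 ^ r - 1) : r % 2 = 0 := by
  by_contra hr
  obtain ⟨k, hk⟩ : ∃ k, r = 2 * k + 1 := ⟨r / 2, by omega⟩
  have h1 : 9 ^ r % 5 = 4 := by
    rw [hk, pow_succ, pow_mul, Nat.mul_mod, Nat.pow_mod]
    norm_num
  have h2 : 0 < 9 ^ r := by positivity
  omega

theorem sq_sub_one_mod {q : ℕ} (hq : 0 < q) (h : 5 ∣ q * (q ^ 2 - 1)) : q % 5 = 0 ∨ q % 5 = 1 ∨ q % 5 = 4 := by
  by_contra hcon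
  have h23 : q % 5 = 2 ∨ q % 5 = 3 := by omega
  have h1 : ¬ 5 ∣ q := by omega
  rcases (Nat.prime_five.dvd_mul).1 h with h2 | h2
  · exact h1 h2
  · have h3 : q ^ 2 % 5 = 4 := by
      rcases h23 with h | h <;> rw [Nat.pow_mod, h]
    have h4 : 0 < q ^ 2 := by positivity
    omega

theorem dvd_of_mod {q : ℕ} (h : q % 5 = 1 ∨ q % 5 = 4) : 5 ∣ q * (q ^ 2 - 1) := by
  apply Dvd.dvd.mul_left
  have h3 : q ^ 2 % 5 = 1 := by
    rcases h with h | h <;> rw [Nat.pow_mod, h]
  omega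

/-- subfield subgroups -/
theorem exists_psl_sub {C : Type*} [Field C] [Fintype C] {m : ℕ} (hm : Fintype.card C ^ m = Fintype.card F) :
    ∃ H : Subgroup PSL₂, Nonempty (H ≃* Matrix.ProjectiveSpecialLinearGroup (Fin 2) C) := by
  obtain ⟨ι⟩ := exists_ringHom_of_card (K := C) (F := F) (m := m) (by
    rw [Nat.card_eq_fintype_card, Nat.card_eq_fintype_card, hm])
  obtain ⟨f, hf⟩ := psl_embed (n := 2) ι
  exact exists_subgroup_of_inj f hf

theorem min_simple_forward {q : ℕ} (hF : Fintype.card F = q) (h : Cfsg.IsMinimalSimple PSL₂) :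
    (∃ r : ℕ, r.Prime ∧ q = 2 ^ r) ∨ (∃ r : ℕ, r.Prime ∧ r ≠ 2 ∧ q = 3 ^ r) ∨ (q.Prime ∧ 5 < q ∧ (q % 5 = 2 ∨ q % 5 = 3)) ∨ q = 5 := by
  obtain ⟨hsim, hnc, hall⟩ := h
  have hlt : 1 < Fintype.card F := Fintype.one_lt_card
  have hcardG := card_PSL2 (F := F) rfl
  have hns : ¬ Group.IsSolvable PSL₂ := by
    intro hs
    apply hnc
    exact ⟨⟨IsSimpleGroup.comm_iff_isSolvable.2 hs⟩⟩
  have hgpos : 0 < Nat.gcd 2 (Fintype.card F - 1) := Nat.gcd_pos_of_pos_left _ (by norm_num)
  have hq4 : 4 ≤ q := by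
    by_contra hcon
    apply hns
    apply H21.solvable_of_card_lt_60 _ rfl
    have h1 : Nat.card PSL₂ ≤ Nat.gcd 2 (Fintype.card F - 1) * Nat.card PSL₂ := Nat.le_mul_of_pos_left _ hgpos
    rw [hcardG] at h1
    have : Fintype.card F = 2 ∨ Fintype.card F = 3 := by omega
    rcases this with h | h <;> rw [h] at h1 <;> exact lt_of_le_of_lt h1 (by norm_num)
  have claim1 : ∀ (C : Type) [Field C] [Fintype C] (m : ℕ), 2 ≤ m → Fintype.card C ^ m = Fintype.card F → ¬ 4 ≤ Fintype.card C := by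
    intro C _ _ m hm2 hm h4
    obtain ⟨H, ⟨e⟩⟩ := exists_psl_sub (F := F) hm
    by_cases hH : H = ⊤
    · -- same order
      have h1 : Nat.card H = Nat.card PSL₂ := by rw [hH]; exact Subgroup.card_top
      rw [Nat.card_congr e.toEquiv] at h1
      have h2 := card_PSL2 (F := C) rfl
      have h3 : Nat.card PSL₂ ≤ Fintype.card C * (Fintype.card C ^ 2 - 1) := by
        rw [← h1, ← h2]
        exact Nat.le_mul_of_pos_left _ (Nat.gcd_pos_of_pos_left _ (by norm_num))
      have hg2 : Nat.gcd 2 (Fintype.card F - 1) ≤ 2 := Nat.le_of_dvd (by norm_num) (Nat.gcd_dvd_left _ _)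
      have h4' : Fintype.card F * (Fintype.card F ^ 2 - 1) ≤ 2 * (Fintype.card C * (Fintype.card C ^ 2 - 1)) := by
        rw [← hcardG]; exact Nat.mul_le_mul hg2 h3
      have h5 : Fintype.card C ^ 2 ≤ Fintype.card F := by
        rw [← hm]; exact Nat.pow_le_pow_right (by omega) hm2
      have h6 : 4 * Fintype.card C ≤ Fintype.card F := by nlinarith
      have h7 : Fintype.card C ^ 2 - 1 ≤ Fintype.card F ^ 2 - 1 := by
        apply Nat.sub_le_sub_right
        exact Nat.pow_le_pow_left (by omega) 2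
      have h8 : 4 * Fintype.card C * (Fintype.card C ^ 2 - 1) ≤ Fintype.card F * (Fintype.card F ^ 2 - 1) := Nat.mul_le_mul h6 h7
      have h9 : 0 < Fintype.card C * (Fintype.card C ^ 2 - 1) := by
        apply Nat.mul_pos (by omega)
        have : 16 ≤ Fintype.card C ^ 2 := by nlinarith
        omega
      nlinarith
    · exact psl2_not_solvable (F := C) h4 (H1.isSolvable_of_equiv e (hall H hH))
  have claim2 : 5 ∣ q * (q ^ 2 - 1) → Nat.card PSL₂ = 60 := by
    intro h5
    obtain ⟨f, hf⟩ := psl_has_a5 (F := F) (by rw [hF]; exact h5)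
    obtain ⟨H, ⟨e⟩⟩ := exists_subgroup_of_inj f hf
    by_cases hH : H = ⊤
    · rw [← Subgroup.card_top (G := PSL₂), ← hH, Nat.card_congr e.toEquiv, card_A5']
    · exact absurd (H1.isSolvable_of_equiv e (hall H hH)) a5_not_solvable
  obtain ⟨p, hp⟩ := CharP.exists F
  haveI : Fact p.Prime := ⟨CharP.char_is_prime F p⟩
  have hpp : p.Prime := Fact.out
  obtain ⟨n, -, hcard⟩ := FiniteField.card F p
  obtain ⟨n, hn0⟩ := n
  simp only [PNat.mk_coe] at hcard
  have hGal : ∀ d : ℕ, d ≠ 0 → ∃ (C : Type) (_ : Field C) (_ : Fintype C), Fintype.card C = p ^ d := by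
    intro d hd
    haveI : Finite (GaloisField p d) := by
      apply Nat.finite_of_card_ne_zero
      rw [GaloisField.card p d hd]
      exact pow_ne_zero _ hpp.ne_zero
    exact ⟨GaloisField p d, inferInstance, Fintype.ofFinite _, by
      letI := Fintype.ofFinite (GaloisField p d)
      rw [← Nat.card_eq_fintype_card, GaloisField.card p d hd]⟩
  have hsub : ∀ d : ℕ, d ∣ n → d ≠ 0 → d < n → p ^ d < 4 := by
    intro d hd hd0 hdn
    obtain ⟨k, rfl⟩ := hd
    obtain ⟨C, i1, i2, hC⟩ := hGal d hd0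
    have hk2 : 2 ≤ k := by
      rcases k with _ | _ | k
      · omega
      · omega
      · omega
    have := claim1 C k hk2 (by rw [hC, ← pow_mul, hcard])
    omega
  rcases Nat.lt_or_ge 1 n with hn1 | hn1
  · -- `n ≥ 2`
    have hp4 := hsub 1 (one_dvd _) one_ne_zero hn1
    rw [pow_one] at hp4
    have hp23 : p = 2 ∨ p = 3 := by
      have := hpp.two_le
      omega
    have hnp : n.Prime := by
      by_contra hnp
      obtain ⟨d, hd, hd2, hdn⟩ := Nat.exists_dvd_of_not_prime2 (by omega) hnp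
      have h1 := hsub d hd (by omega) hdn
      have h2 : 2 ^ 2 ≤ p ^ d := (Nat.pow_le_pow_left hpp.two_le 2).trans (Nat.pow_le_pow_right hpp.pos hd2)
      omega
    rcases hp23 with h | h
    · left
      exact ⟨n, hnp, by rw [← hF, hcard, h]⟩
    · right; left
      refine ⟨n, hnp, ?_, by rw [← hF, hcard, h]⟩
      rintro rfl
      have hq9 : q = 9 := by rw [← hF, hcard, h]; norm_num
      have := claim2 (by rw [hq9]; norm_num)
      rw [this, hF, hq9] at hcardG
      norm_num at hcardG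
  · have hn : n = 1 := by omega
    rw [hn, pow_one] at hcard
    have hqp : q = p := by rw [← hF, hcard]
    right; right
    rw [hqp]
    by_cases hp5 : p = 5
    · right; exact hp5
    · left
      have h5 : 5 < p := by
        have : p ≠ 4 := by rintro rfl; exact absurd hpp (by norm_num)
        omega
      refine ⟨hpp, h5, ?_⟩
      by_contra hcon
      have h0 : p % 5 ≠ 0 := by
        intro h0
        have := (Nat.prime_dvd_prime_iff_eq Nat.prime_five hpp).1 (Nat.dvd_of_mod_eq_zero h0)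
        omega
      have h6 := claim2 (by rw [hqp]; exact dvd_of_mod (by omega))
      have hg2 : Nat.gcd 2 (Fintype.card F - 1) ≤ 2 := Nat.le_of_dvd (by norm_num) (Nat.gcd_dvd_left _ _)
      have h7 : Fintype.card F * (Fintype.card F ^ 2 - 1) ≤ 2 * 60 := by
        rw [← hcardG, h6]; exact Nat.mul_le_mul_right _ hg2
      rw [hcard] at h7
      have h8 : 36 ≤ p ^ 2 := by nlinarith
      have h9 : 6 * 35 ≤ p * (p ^ 2 - 1) := Nat.mul_le_mul (by omega) (by omega)
      omega

theorem min_simple_backward {q : ℕ} (hF : Fintype.card F = q)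
    (h : (∃ r : ℕ, r.Prime ∧ q = 2 ^ r) ∨ (∃ r : ℕ, r.Prime ∧ r ≠ 2 ∧ q = 3 ^ r) ∨ (q.Prime ∧ 5 < q ∧ (q % 5 = 2 ∨ q % 5 = 3)) ∨ q = 5) :
    Cfsg.IsMinimalSimple PSL₂ := by
  have hcardG := card_PSL2 (F := F) rfl
  have hq4 : 4 ≤ q := by
    rcases h with ⟨r, hr, rfl⟩ | ⟨r, hr, -, rfl⟩ | ⟨-, h, -⟩ | h
    · calc 4 = 2 ^ 2 := by norm_num
        _ ≤ 2 ^ r := Nat.pow_le_pow_right (by norm_num) hr.two_le
    · calc 4 ≤ 3 ^ 2 := by norm_num
        _ ≤ 3 ^ r := Nat.pow_le_pow_right (by norm_num) hr.two_le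
    · omega
    · omega
  refine ⟨PSL2_isSimple (by rw [Nat.card_eq_fintype_card, hF]; exact hq4), ?_, ?_⟩
  · intro hc
    exact psl2_not_comm (F := F) (by omega) (fun x y => hc.is_comm.comm x y)
  intro H hH
  by_contra hns
  rcases nonsolv_cases H hns with ⟨⟨e⟩⟩ | ⟨C, i1, i2, m, hm, h4, hC⟩
  · have hc : Nat.card H = 60 := by rw [Nat.card_congr e.toEquiv, card_A5']
    have hne : Nat.card H ≠ Nat.card PSL₂ := fun h1 => hH (Subgroup.eq_top_of_card_eq H h1)
    have hdvd := Subgroup.card_subgroup_dvd_card H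
    rw [hc] at hdvd hne
    have h5 : 5 ∣ q * (q ^ 2 - 1) := by
      rw [← hF, ← hcardG]
      exact (((by norm_num : (5 : ℕ) ∣ 60)).trans hdvd).mul_left _
    have hne' : Fintype.card F ≠ 4 ∧ Fintype.card F ≠ 5 := by
      constructor
      · intro h; rw [h] at hcardG; norm_num at hcardG; omega
      · intro h; rw [h] at hcardG; norm_num at hcardG; omega
    rcases h with ⟨r, hr, hq⟩ | ⟨r, hr, hr2, hq⟩ | ⟨hqp, h, h23⟩ | h
    · have h6 : 5 ∣ 4 ^ r - 1 := by
        rcases Nat.prime_five.dvd_mul.1 h5 with h7 | h7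
        · rw [hq] at h7
          have := Nat.prime_five.dvd_of_dvd_pow h7
          omega
        · rw [hq, ← pow_mul, mul_comm, pow_mul] at h7
          exact h7
      have h7 := five_dvd_four_pow h6
      have h8 : r = 2 := ((Nat.prime_dvd_prime_iff_eq Nat.prime_two hr).1 (Nat.dvd_of_mod_eq_zero h7)).symm
      rw [h8] at hq
      omega
    · have h6 : 5 ∣ 9 ^ r - 1 := by
        rcases Nat.prime_five.dvd_mul.1 h5 with h7 | h7
        · rw [hq] at h7
          have := Nat.prime_five.dvd_of_dvd_pow h7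
          omega
        · rw [hq, ← pow_mul, mul_comm, pow_mul] at h7
          exact h7
      have h7 := five_dvd_nine_pow h6
      exact hr2 ((Nat.prime_dvd_prime_iff_eq Nat.prime_two hr).1 (Nat.dvd_of_mod_eq_zero h7)).symm
    · have := sq_sub_one_mod (by omega) h5
      omega
    · omega
  · obtain ⟨hm2, -⟩ := sub_types hH hm hC
    rw [hF] at hm
    have key : ∀ ℓ r : ℕ, ℓ.Prime → r.Prime → q = ℓ ^ r → Fintype.card C = ℓ := by
      intro ℓ r hℓ hr hq
      have h1 : Fintype.card C ∣ ℓ ^ r := by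
        rw [← hq, ← hm]; exact dvd_pow_self _ (by omega)
      obtain ⟨s, -, hs⟩ := (Nat.dvd_prime_pow hℓ).1 h1
      rw [hq, hs, ← pow_mul] at hm
      have h2 : s * m = r := Nat.pow_right_injective hℓ.two_le hm
      have h3 : m ∣ r := ⟨s, by rw [← h2, mul_comm]⟩
      rcases (Nat.dvd_prime hr).1 h3 with h4 | h4
      · omega
      · rw [h4] at h2
        have : s = 1 := Nat.eq_of_mul_eq_mul_right hr.pos (by rw [h2, one_mul])
        rw [hs, this, pow_one]
    have hprime : ∀ ℓ : ℕ, ℓ.Prime → q = ℓ → False := by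
      intro ℓ hℓ hq
      rw [hq] at hm
      have h1 : Fintype.card C ∣ ℓ := by rw [← hm]; exact dvd_pow_self _ (by omega)
      rcases (Nat.dvd_prime hℓ).1 h1 with h2 | h2
      · omega
      · rw [h2] at hm
        have : m = 1 := Nat.pow_right_injective hℓ.two_le (by simpa using hm)
        omega
    rcases h with ⟨r, hr, hq⟩ | ⟨r, hr, hr2, hq⟩ | ⟨hqp, h, h23⟩ | h
    · have := key 2 r Nat.prime_two hr hq; omega
    · have := key 3 r Nat.prime_three hr hq; omega
    · exact hprime q hqp rfl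
    · exact hprime 5 Nat.prime_five h

end

end Cfsg.Agent.H5
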