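import Cfsg.Agent.H5.Dk18
import Cfsg.Agent.S0802
import Cfsg.Agent.S0803
import Cfsg.Agent.S0804
import Cfsg.Agent.S0805
set_option autoImplicit false
set_option linter.style.haveILetI false
set_option linter.unusedSectionVars false

/-! Maximal subgroups of `PSL₂(q)`: tools. -/

namespace Cfsg.Agent.H5

open OnePoint Cfsg.Agent.H4 Cfsg.Agent.H2

theorem a4_noncomm : ∃ x y : alternatingGroup (Fin 4), x ^ 3 = 1 ∧ y ^ 3 = 1 ∧ x * y ≠ y * x := by decide +kernel

theorem a4_comm2 : ∃ x y : alternatingGroup (Fin 4), (x * y * x⁻¹ * y⁻¹) ^ 2 = 1 ∧ x * y * x⁻¹ * y⁻¹ ≠ 1 := by decide +kernel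

theorem dihedral_comm3 (k : ℕ) (x y : DihedralGroup k) (hx : x ^ 3 = 1) (hy : y ^ 3 = 1) : x * y = y * x := by
  have key : ∀ z : DihedralGroup k, z ^ 3 = 1 → ∃ i, z = .r i := by
    intro z hz
    rcases z with i | i
    · exact ⟨i, rfl⟩
    · exfalso
      have h2 : (DihedralGroup.sr i : DihedralGroup k) ^ 2 = 1 := by
        rw [pow_two, DihedralGroup.sr_mul_self]
      rw [pow_succ, h2, one_mul] at hz
      exact absurd hz (by rw [DihedralGroup.one_def]; intro h; cases h)
  obtain ⟨i, rfl⟩ := key x hx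
  obtain ⟨j, rfl⟩ := key y hy
  rw [DihedralGroup.r_mul_r, DihedralGroup.r_mul_r, add_comm]

section
variable {F : Type*} [Field F] [Fintype F]

local notation "PSL₂" => Matrix.ProjectiveSpecialLinearGroup (Fin 2) F

/-- subgroups containing `A₄`, `q` odd -/
theorem dickson_a4 (p : ℕ) [hp : Fact p.Prime] [CharP F p] (hp2 : p ≠ 2) (H : Subgroup PSL₂)
    (f : alternatingGroup (Fin 4) →* H) (hf : Function.Injective f) :
    Nonempty (H ≃* alternatingGroup (Fin 4)) ∨ Nonempty (H ≃* Equiv.Perm (Fin 4)) ∨ Nonempty (H ≃* alternatingGroup (Fin 5)) ∨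
    (∃ (C : Type) (_ : Field C) (_ : Fintype C) (m : ℕ), Fintype.card C ^ m = Fintype.card F ∧
      (Nonempty (H ≃* Matrix.ProjectiveSpecialLinearGroup (Fin 2) C) ∨ Nonempty (H ≃* Matrix.ProjGenLinGroup (Fin 2) C))) := by
  classical
  rcases dickson p H with ⟨k, -, ⟨h, -⟩ | ⟨⟨e⟩⟩⟩ | ⟨P, hP⟩ | h | h | h | h
  · exfalso
    obtain ⟨x, y, -, -, hxy⟩ := a4_noncomm
    obtain ⟨g, hg⟩ := h.exists_generator
    obtain ⟨a, ha⟩ := hg (f x)
    obtain ⟨b, hb⟩ := hg (f y)
    have ha' : g ^ a = f x := ha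
    have hb' : g ^ b = f y := hb
    apply hxy
    apply hf
    rw [map_mul, map_mul, ← ha', ← hb', ← zpow_add, ← zpow_add, add_comm]
  · exfalso
    obtain ⟨x, y, hx, hy, hxy⟩ := a4_noncomm
    apply hxy
    apply hf
    apply e.injective
    rw [map_mul, map_mul, map_mul, map_mul]
    exact dihedral_comm3 k _ _ (by rw [← map_pow, ← map_pow, hx, map_one, map_one]) (by rw [← map_pow, ← map_pow, hy, map_one, map_one])
  · exfalso
    obtain ⟨a, ha⟩ := sylow_norm_le (F := F) p P
    obtain ⟨x, y, h2, hne⟩ := a4_comm2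
    set z := x * y * x⁻¹ * y⁻¹ with hz
    have hfix : ∀ w : H, pemb (RingHom.id F) (w : PSL₂) a = a := fun w => (hP.trans ha) w.2
    have h1 := comm_pow_of_fix p (pemb_range (RingHom.id F) ((f x : H) : PSL₂)) (pemb_range (RingHom.id F) ((f y : H) : PSL₂)) (hfix _) (hfix _)
    have h3 : pemb (RingHom.id F) ((f z : H) : PSL₂) ^ p = 1 := by
      rw [hz, map_mul, map_mul, map_mul, map_inv, map_inv]
      simp only [Subgroup.coe_mul, Subgroup.coe_inv, map_mul, map_inv]
      exact h1
    have h4 : z ^ p = 1 := by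
      apply hf
      apply Subtype.ext
      apply pemb_injective (RingHom.id F)
      rw [map_pow, Subgroup.coe_pow, map_pow, h3, map_one]; simp
    have h5 : orderOf z ∣ p := orderOf_dvd_of_pow_eq_one h4
    have h6 : orderOf z = 2 := orderOf_eq_prime h2 hne
    rw [h6] at h5
    exact hp2 ((Nat.prime_dvd_prime_iff_eq Nat.prime_two hp.out).1 h5).symm
  · exact Or.inl h
  · exact Or.inr (Or.inl h)
  · exact Or.inr (Or.inr (Or.inl h))
  · exact Or.inr (Or.inr (Or.inr h))

/-- showing maximality -/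
theorem isCoatom_of {G : Type*} [Group G] [Finite G] {H : Subgroup G} (h1 : Nat.card H ≠ Nat.card G)
    (h2 : ∀ M : Subgroup G, H < M → M ≠ ⊤ → Nat.card H ∣ Nat.card M → Nat.card M ∣ Nat.card G → 2 * Nat.card H ≤ Nat.card M →
      2 * Nat.card M ≤ Nat.card G → False) : IsCoatom H := by
  constructor
  · intro h
    apply h1
    rw [h]; exact Subgroup.card_top
  · intro M hM
    by_contra hne
    apply h2 M hM hne (Subgroup.card_dvd_of_le hM.le) (Subgroup.card_subgroup_dvd_card M)
    · obtain ⟨k, hk⟩ := Subgroup.card_dvd_of_le hM.le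
      have h3 : Nat.card M ≠ Nat.card H := by
        intro h4
        exact hM.ne (Subgroup.eq_of_le_of_card_ge hM.le (le_of_eq h4))
      have hpos : 0 < Nat.card M := Nat.card_pos
      rcases k with _ | _ | k
      · omega
      · omega
      · rw [hk]; nlinarith [Nat.card_pos (α := H)]
    · obtain ⟨k, hk⟩ := Subgroup.card_subgroup_dvd_card M
      have h3 : Nat.card M ≠ Nat.card G := fun h4 => hne (Subgroup.eq_top_of_card_eq M h4)
      have hpos : 0 < Nat.card G := Nat.card_pos
      rcases k with _ | _ | k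
      · omega
      · omega
      · rw [hk]; nlinarith [Nat.card_pos (α := M)]

theorem not_two_le_of_prime {c m q : ℕ} (hq : q.Prime) (h : c ^ m = q) (hm : 2 ≤ m) : False := by
  have h1 : c ∣ q := by rw [← h]; exact dvd_pow_self _ (by omega)
  rcases (Nat.dvd_prime hq).1 h1 with h2 | h2
  · rw [h2, one_pow] at h
    exact hq.one_lt.ne h
  · rw [h2] at h
    have : m = 1 := Nat.pow_right_injective hq.two_le (by simpa using h)
    omega

end

end Cfsg.Agent.H5
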