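import Cfsg.Agent.H5.Dk2
import Cfsg.Agent.H2.Dick3
set_option autoImplicit false
set_option linter.style.haveILetI false
set_option linter.unusedSectionVars false

/-! Counting when `p` divides the order (adapted from helper2's `count_main` to cover `p = 2`). -/

namespace Cfsg.Agent.H5

open Cfsg.Agent.H2 Cfsg.Agent.H2.DickHyp

variable {p : ℕ} {Γ X : Type*} [Group Γ] [MulAction Γ X] [Finite Γ] [hp : Fact p.Prime]

theorem count_main' (h : DickHyp p Γ X) {a : X} (hq3' : 3 ≤ Nat.card (h.Pa a)) (ha : h.Pa a ≠ ⊥)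
    (hn : 1 < Nat.card (MulAction.orbit Γ a)) :
    ∃ x0 : X, 2 ≤ Nat.card (MulAction.stabilizer Γ x0) ∧
      Nat.card (MulAction.orbit Γ x0) =
        2 + Nat.card (MulAction.orbit Γ a) * (Nat.card (h.Pa a) - 2) ∧
      ∀ (y : X) (γ : Γ), γ ≠ 1 → γ • y = y → y ∈ MulAction.orbit Γ a ∨ y ∈ MulAction.orbit Γ x0 := by
  classical
  haveI : Fintype Γ := Fintype.ofFinite Γ
  -- finiteness of the set of points with nontrivial stabilizer
  have hfin : {y : X | ∃ γ : Γ, γ ≠ 1 ∧ γ • y = y}.Finite := by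
    have h1 : {y : X | ∃ γ : Γ, γ ≠ 1 ∧ γ • y = y} ⊆ ⋃ γ ∈ {γ : Γ | γ ≠ 1}, {y : X | γ • y = y} := by
      rintro y ⟨γ, hγ, hy⟩
      exact Set.mem_biUnion hγ hy
    refine Set.Finite.subset (Set.Finite.biUnion (Set.toFinite _) ?_) h1
    intro γ hγ
    by_cases hγp : γ ^ p = 1
    · obtain ⟨c, hc⟩ := h.one_fix γ hγ hγp
      refine (Set.finite_singleton c).subset ?_
      intro y hy
      exact (hc y).1 hy
    · obtain ⟨c, d, _, hc⟩ := h.two_fix γ hγp
      refine (Set.toFinite {c, d}).subset ?_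
      intro y hy
      exact (hc y).1 hy
  obtain ⟨Ω, hΩ⟩ : ∃ Ω : Finset X, ∀ y, y ∈ Ω ↔ ∃ γ : Γ, γ ≠ 1 ∧ γ • y = y :=
    ⟨hfin.toFinset, fun y => by rw [Set.Finite.mem_toFinset]; rfl⟩
  have hfinO : ∀ x : X, (MulAction.orbit Γ x).Finite := fun x => Set.finite_range _
  have hOex : ∀ x : X, ∃ O : Finset X, (O : Set X) = MulAction.orbit Γ x := fun x =>
    ⟨(hfinO x).toFinset, (hfinO x).coe_toFinset⟩
  have hcardO : ∀ (x : X) (O : Finset X), (O : Set X) = MulAction.orbit Γ x →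
      Nat.card (MulAction.orbit Γ x) = O.card := by
    intro x O hO
    rw [← hO]; simp
  -- orbits lie in Ω
  have hsub : ∀ (x : X) (O : Finset X), (O : Set X) = MulAction.orbit Γ x → x ∈ Ω → O ⊆ Ω := by
    intro x O hO hx y hy
    have hy' : y ∈ MulAction.orbit Γ x := by rw [← hO]; exact hy
    obtain ⟨g, rfl⟩ := hy'
    obtain ⟨γ, hγ, hγx⟩ := (hΩ x).1 hx
    rw [hΩ]
    refine ⟨g * γ * g⁻¹, ?_, ?_⟩
    · intro h1
      apply hγ
      have : γ = g⁻¹ * (g * γ * g⁻¹) * g := by group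
      rw [this, h1]; group
    · change (g * γ * g⁻¹) • (g • x) = g • x
      rw [mul_smul, inv_smul_smul, mul_smul, hγx]
  have hdj : ∀ (x y : X) (O O' : Finset X), (O : Set X) = MulAction.orbit Γ x →
      (O' : Set X) = MulAction.orbit Γ y → y ∉ O → Disjoint O O' := by
    intro x y O O' hO hO' hy
    rw [Finset.disjoint_left]
    intro z hz hz'
    apply hy
    have h1 : z ∈ MulAction.orbit Γ x := by rw [← hO]; exact hz
    have h2 : z ∈ MulAction.orbit Γ y := by rw [← hO']; exact hz'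
    have h3 : y ∈ MulAction.orbit Γ x := by
      rw [← MulAction.orbit_eq_iff.2 h1, MulAction.orbit_eq_iff.2 h2]
      exact MulAction.mem_orbit_self y
    rw [← hO] at h3
    exact h3
  obtain ⟨x, hx, hx1⟩ := (Subgroup.bot_or_exists_ne_one _).resolve_left ha
  have haΩ : a ∈ Ω := (hΩ a).2 ⟨x, hx1, hx.2⟩
  obtain ⟨O, hO⟩ := hOex a
  set q := Nat.card (h.Pa a) with hq
  set n := Nat.card (MulAction.orbit Γ a) with hnn
  have hOn : O.card = n := (hcardO a O hO).symm
  have hE1 := h.card_E1 ha O hO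
  rw [hOn, ← hq] at hE1
  set E := Finset.univ.erase (1 : Γ) with hE
  have hEcard : E.card + 1 = Nat.card Γ := by
    rw [hE, Finset.card_erase_add_one (Finset.mem_univ _), Nat.card_eq_fintype_card]
    rfl
  -- the total count
  have htot : ∑ y ∈ Ω, (E.filter (fun γ => γ • y = y)).card + n * (q - 1) + 2 =
      2 * Nat.card Γ := by
    have hdc : ∑ y ∈ Ω, (E.filter (fun γ => γ • y = y)).card =
        ∑ γ ∈ E, (Ω.filter (fun y => γ • y = y)).card := by
      convert! DickHyp.double_count E Ω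
    rw [hdc, ← hE1]
    have h1 : ∀ γ ∈ E, (Ω.filter (fun y => γ • y = y)).card + (if γ ^ p = 1 then 1 else 0) = 2 := by
      intro γ hγ
      have hγ1 : γ ≠ 1 := (Finset.mem_erase.1 hγ).1
      by_cases hγp : γ ^ p = 1
      · rw [if_pos hγp]
        obtain ⟨c, hc⟩ := h.one_fix γ hγ1 hγp
        have h2 : Ω.filter (fun y => γ • y = y) = {c} := by
          ext y
          rw [Finset.mem_filter, Finset.mem_singleton, hc]
          constructor
          · exact fun h => h.2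
          · rintro rfl
            exact ⟨(hΩ y).2 ⟨γ, hγ1, (hc y).2 rfl⟩, rfl⟩
        rw [h2, Finset.card_singleton]
      · rw [if_neg hγp]
        obtain ⟨c, d, hcd, hc⟩ := h.two_fix γ hγp
        have h2 : Ω.filter (fun y => γ • y = y) = {c, d} := by
          ext y
          rw [Finset.mem_filter, Finset.mem_insert, Finset.mem_singleton, hc]
          constructor
          · exact fun h => h.2
          · intro hy
            exact ⟨(hΩ y).2 ⟨γ, hγ1, (hc y).2 hy⟩, hy⟩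
        rw [h2, Finset.card_pair hcd]
    have h3 : ∑ γ ∈ E, (Ω.filter (fun y => γ • y = y)).card +
        (E.filter (fun γ => γ ^ p = 1)).card = 2 * E.card := by
      rw [Finset.card_filter, ← Finset.sum_add_distrib, Finset.sum_congr rfl h1, Finset.sum_const,
        smul_eq_mul, mul_comm]
    omega
  have hO1 := DickHyp.orbit_sum a O hO
  rw [← hE, hOn] at hO1
  have hq3 : 3 ≤ q := hq3'
  have hstab : q ≤ Nat.card (MulAction.stabilizer Γ a) := Subgroup.card_le_of_le (h.Pa_le_stab a)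
  have hnS : n * Nat.card (MulAction.stabilizer Γ a) = Nat.card Γ := DickHyp.card_orbit_mul a
  have hnq : n * q ≤ Nat.card Γ := by
    rw [← hnS]; exact Nat.mul_le_mul_left n hstab
  have hcard2 : ∀ y ∈ Ω, 2 ≤ Nat.card (MulAction.stabilizer Γ y) := by
    intro y hy
    obtain ⟨γ, hγ, hγy⟩ := (hΩ y).1 hy
    haveI : Nontrivial (MulAction.stabilizer Γ y) := by
      rw [Subgroup.nontrivial_iff_exists_ne_one]
      exact ⟨γ, hγy, hγ⟩
    exact Finite.one_lt_card
  have hhalf : ∀ y ∈ Ω, 2 * Nat.card (MulAction.orbit Γ y) ≤ Nat.card Γ := by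
    intro y hy
    rw [← DickHyp.card_orbit_mul (Γ := Γ) y, mul_comm]
    exact Nat.mul_le_mul_left _ (hcard2 y hy)
  obtain ⟨r, hr⟩ : ∃ r, q = r + 2 := ⟨q - 2, by omega⟩
  have e1 : q - 1 = r + 1 := by omega
  have e2 : q - 2 = r := by omega
  rw [e1] at htot
  rw [e2]
  have e3 : n * (r + 1) = n * r + n := by ring
  have e4 : n * q = n * r + 2 * n := by rw [hr]; ring
  rw [e3] at htot
  rw [e4] at hnq
  -- there is another orbit
  by_cases hall : Ω = O
  · rw [hall] at htot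
    omega
  obtain ⟨x0, hx0, hx0O⟩ : ∃ x0 ∈ Ω, x0 ∉ O := by
    by_contra hcon
    push Not at hcon
    exact hall (Finset.Subset.antisymm hcon (hsub a O hO haΩ))
  obtain ⟨O', hO'⟩ := hOex x0
  have hO'sum := DickHyp.orbit_sum x0 O' hO'
  rw [← hE] at hO'sum
  have hd := hdj a x0 O O' hO hO' hx0O
  have hO'c := hcardO x0 O' hO'
  have hh0 := hhalf x0 hx0
  by_cases hall2 : Ω = O ∪ O'
  · rw [hall2, Finset.sum_union hd] at htot
    refine ⟨x0, hcard2 x0 hx0, ?_, ?_⟩
    · rw [hO'c]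
      omega
    · intro y γ hγ hγy
      have hy : y ∈ Ω := (hΩ y).2 ⟨γ, hγ, hγy⟩
      rw [hall2, Finset.mem_union] at hy
      rcases hy with hy | hy
      · left; rw [← hO]; exact hy
      · right; rw [← hO']; exact hy
  · exfalso
    have hsub2 : O ∪ O' ⊆ Ω := Finset.union_subset (hsub a O hO haΩ) (hsub x0 O' hO' hx0)
    obtain ⟨y0, hy0, hy0O⟩ : ∃ y0 ∈ Ω, y0 ∉ O ∪ O' := by
      by_contra hcon
      push Not at hcon
      exact hall2 (Finset.Subset.antisymm hcon hsub2)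
    rw [Finset.mem_union, not_or] at hy0O
    obtain ⟨O'', hO''⟩ := hOex y0
    have hO''sum := DickHyp.orbit_sum y0 O'' hO''
    rw [← hE] at hO''sum
    have hd1 := hdj a y0 O O'' hO hO'' hy0O.1
    have hd2 := hdj x0 y0 O' O'' hO' hO'' hy0O.2
    have hO''c := hcardO y0 O'' hO''
    have hh1 := hhalf y0 hy0
    have hsub3 : (O ∪ O') ∪ O'' ⊆ Ω := Finset.union_subset hsub2 (hsub y0 O'' hO'' hy0)
    have hle : ∑ y ∈ (O ∪ O') ∪ O'', (E.filter (fun γ => γ • y = y)).card ≤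
        ∑ y ∈ Ω, (E.filter (fun γ => γ • y = y)).card :=
      Finset.sum_le_sum_of_subset hsub3
    rw [Finset.sum_union (Finset.disjoint_union_left.2 ⟨hd1, hd2⟩), Finset.sum_union hd] at hle
    omega


theorem k_or (h : DickHyp p Γ X) {a : X} (hq3' : 3 ≤ Nat.card (h.Pa a)) (ha : h.Pa a ≠ ⊥)
    (hn : 1 < Nat.card (MulAction.orbit Γ a)) :
    Nat.card (MulAction.orbit Γ a) = Nat.card (h.Pa a) + 1 ∨ (Nat.card (h.Pa a) = 3 ∧ Nat.card Γ = 60 ∧
      ∀ y : X, MulAction.stabilizer Γ y ≠ ⊥ → Nat.card (MulAction.stabilizer Γ y) ≤ 6) := by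
  obtain ⟨x0, hx0, hx0c, hall⟩ := count_main' h hq3' ha hn
  have hsub := h.card_subAct a
  have hsub2 := h.subAct_card_eq (a := a)
  obtain ⟨k, hk⟩ : ∃ k, k = Nat.card (Quotient (MulAction.orbitRel (h.Pa a) (h.subAct a))) :=
    ⟨_, rfl⟩
  rw [← hk] at hsub2
  obtain ⟨t, ht⟩ := Subgroup.card_dvd_of_le (h.Pa_le_stab a)
  have hstab := h.card_stab_le ha
  obtain ⟨q, hq⟩ : ∃ q, q = Nat.card (h.Pa a) := ⟨_, rfl⟩
  obtain ⟨n, hnn⟩ : ∃ n, n = Nat.card (MulAction.orbit Γ a) := ⟨_, rfl⟩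
  rw [← hq] at hsub2 hx0c ht hstab hq3'
  rw [← hnn] at hsub hx0c hn
  rw [← hq, ← hnn]
  have hnk : n = 1 + k * q := by rw [← hsub, hsub2]; ring
  have hk1 : 1 ≤ k := by
    rcases Nat.eq_zero_or_pos k with h0 | h0
    · rw [h0] at hnk; omega
    · exact h0
  have hq0 : 0 < q := by omega
  have htq : t ≤ q - 1 := by
    rw [ht] at hstab
    exact Nat.le_of_mul_le_mul_left hstab hq0
  have ht1 : 1 ≤ t := by
    rcases Nat.eq_zero_or_pos t with h0 | h0
    · rw [h0, mul_zero] at ht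
      have : 0 < Nat.card (MulAction.stabilizer Γ a) := Nat.card_pos
      omega
    · exact h0
  have h1 := DickHyp.card_orbit_mul (Γ := Γ) x0
  have h2 := DickHyp.card_orbit_mul (Γ := Γ) a
  rw [← hnn, ht] at h2
  rw [← h2, hx0c] at h1
  rcases dick_arith hk1 hq3' htq ht1 hnk h1 with hk' | ⟨hq', hk', ht', hu'⟩
  · left
    rw [hk', one_mul] at hnk
    rw [hnk, add_comm]
  · right
    refine ⟨hq', by rw [← h2, hnk, hk', hq', ht'], fun y hy => ?_⟩
    obtain ⟨γ, hγ, hγ1⟩ := (Subgroup.bot_or_exists_ne_one _).resolve_left hy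
    rcases hall y γ hγ1 hγ with h5 | h5
    · rw [card_stab_of_mem_orbit h5, ht, hq', ht']
    · rw [card_stab_of_mem_orbit h5, hu']; norm_num

end Cfsg.Agent.H5
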