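import Mathlib
import Cfsg.Agent.H6.TwReeF
set_option autoImplicit false
set_option maxHeartbeats 400000
set_option maxRecDepth 10000

/-! The small Ree groups: torus action, multiplication, centralisers. -/

namespace Cfsg.Agent.H5.Ree
open Cfsg.Lie Matrix Cfsg Cfsg.Agent.H6 Cfsg.Agent.H6.WG2

section
variable {K : Type*} [Field K] {e : ℕ}

theorem hh_one : hh K e 1 = 1 := by
  unfold hh
  have : (![(1 : Kˣ) ^ e, 1] : Fin 2 → Kˣ) = 1 := by
    funext i; fin_cases i <;> simp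
  rw [this, map_one]

/-- the torus as a homomorphism -/
noncomputable def hhHom (K : Type*) [Field K] (e : ℕ) : Kˣ →* GL chevG2.Idx K where
  toFun := hh K e
  map_one' := hh_one
  map_mul' := hh_mul

theorem hh_inj {x y : Kˣ} (h : hh K e x = hh K e y) : x = y := congrFun (PhiH_inj h) 1

/-- characters -/
theorem hh_conj (x : Kˣ) (r : Fin chevG2.nroots) (t : K) : hh K e x * xg chevG2 K r t * (hh K e x)⁻¹ =
    xg chevG2 K r ((((x ^ e) ^ chevG2.cartan 0 r * x ^ chevG2.cartan 1 r : Kˣ) : K) * t) := by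
  have h1 := (TG2.good.mon_PhiH (![x ^ e, x] : Fin 2 → Kˣ)).act r t
  have h2 : (∏ k : Fin chevG2.rank, (![x ^ e, x] : Fin 2 → Kˣ) k ^ chevG2.cartan k r) =
      (x ^ e) ^ chevG2.cartan 0 r * x ^ chevG2.cartan 1 r := by
    change (∏ k : Fin 2, (![x ^ e, x] : Fin 2 → Kˣ) k ^ chevG2.cartan k r) = _
    rw [Fin.prod_univ_two]; rfl
  rw [h2] at h1
  exact h1

theorem cart : (chevG2.cartan 0 6, chevG2.cartan 1 6) = (-3, 2) ∧ (chevG2.cartan 0 7, chevG2.cartan 1 7) = (2, -1) ∧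
    (chevG2.cartan 0 8, chevG2.cartan 1 8) = (-1, 1) ∧ (chevG2.cartan 0 9, chevG2.cartan 1 9) = (1, 0) ∧
    (chevG2.cartan 0 10, chevG2.cartan 1 10) = (3, -1) ∧ (chevG2.cartan 0 11, chevG2.cartan 1 11) = (0, 1) := by decide +kernel

theorem c87 (h3 : (3 : K) = 0) (t u : K) : xg chevG2 K 8 u * xg chevG2 K 7 t = xg chevG2 K 7 t * xg chevG2 K 8 u * xg chevG2 K 9 (2 * t * u) := by
  have h := TG2.good.comm (F := K) TG2.ext (r := 7) (s := 8) (by decide +kernel) (by decide +kernel) (by decide) (by decide +kernel) t u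
  rw [h]
  congr 1
  unfold ChevalleyDatum.commWord wg
  rw [show chevG2.commTerms 7 8 = [(9, -2, 1, 1), (10, -3, 2, 1), (11, 3, 1, 2)] by decide +kernel]
  simp only [List.map_cons, List.map_nil, List.prod_cons, List.prod_nil, mul_one, pow_one]
  have e1 : ((-3 : ℤ) : K) = 0 := by push_cast; rw [h3, neg_zero]
  have e2 : ((3 : ℤ) : K) = 0 := by push_cast; exact h3
  rw [e1, e2]
  simp only [zero_mul, TG2.good.xg_zero, mul_one]
  congr 1
  push_cast; ring

theorem c106 (t u : K) : xg chevG2 K 10 u * xg chevG2 K 6 t = xg chevG2 K 6 t * xg chevG2 K 10 u * xg chevG2 K 11 (-(t * u)) := by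
  have h := TG2.good.comm (F := K) TG2.ext (r := 6) (s := 10) (by decide +kernel) (by decide +kernel) (by decide) (by decide +kernel) t u
  rw [h]
  congr 1
  unfold ChevalleyDatum.commWord wg
  rw [show chevG2.commTerms 6 10 = [(11, 1, 1, 1)] by decide +kernel]
  simp only [List.map_cons, List.map_nil, List.prod_cons, List.prod_nil, mul_one, pow_one]
  congr 1
  push_cast; ring

theorem cm7 (h3 : (3 : K) = 0) (i : Fin 4) (hi : i ≠ 0) (t u : K) : Commute (xg chevG2 K (ic i) t) (xg chevG2 K 7 u) := by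
  have h : ∀ i : Fin 4, i ≠ 0 → cm0 3 chevG2.chainEntry (ic i) 7 = true ∧ 7 ≠ chevG2.neg (ic i) ∧ ic i < 12 := by decide +kernel
  exact comm_of_cm0 TG2.good TG2.ext (m := 3) (by exact_mod_cast h3) (by rw [nr]; exact (h i hi).2.2) (by rw [nr]; norm_num) (h i hi).2.1 (h i hi).1 t u

theorem cm6 (h3 : (3 : K) = 0) (i : Fin 4) (hi : i ≠ 2) (t u : K) : Commute (xg chevG2 K (ic i) t) (xg chevG2 K 6 u) := by
  have h : ∀ i : Fin 4, i ≠ 2 → cm0 3 chevG2.chainEntry (ic i) 6 = true ∧ 6 ≠ chevG2.neg (ic i) ∧ ic i < 12 := by decide +kernel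
  exact comm_of_cm0 TG2.good TG2.ext (m := 3) (by exact_mod_cast h3) (by rw [nr]; exact (h i hi).2.2) (by rw [nr]; norm_num) (h i hi).2.1 (h i hi).1 t u

/-- moving `x_a` to the left -/
theorem ab4_Za (h3 : (3 : K) = 0) (p q r s x : K) : ab4 (Zc K true) p q r s * Za K true x =
    Za K true x * ab4 (Zc K true) p (q + 2 * x * p) r s := by
  have hA := ab_Zc h3 true
  have e1 := (cm7 h3 1 (by decide) q x).eq
  have e2 := (cm7 h3 2 (by decide) r x).eq
  have e3 := (cm7 h3 3 (by decide) s x).eq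
  have e0 := c87 h3 x p
  unfold ab4
  have h1 : Zc K true 1 (q + 2 * x * p) = Zc K true 1 (2 * x * p) * Zc K true 1 q := by rw [add_comm, hA.add]
  rw [h1]
  change xg chevG2 K 8 p * xg chevG2 K 9 q * xg chevG2 K 10 r * xg chevG2 K 11 s * xg chevG2 K 7 x =
    xg chevG2 K 7 x * (xg chevG2 K 8 p * (xg chevG2 K 9 (2 * x * p) * xg chevG2 K 9 q) * xg chevG2 K 10 r * xg chevG2 K 11 s)
  change xg chevG2 K 9 q * xg chevG2 K 7 x = xg chevG2 K 7 x * xg chevG2 K 9 q at e1
  change xg chevG2 K 10 r * xg chevG2 K 7 x = xg chevG2 K 7 x * xg chevG2 K 10 r at e2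
  change xg chevG2 K 11 s * xg chevG2 K 7 x = xg chevG2 K 7 x * xg chevG2 K 11 s at e3
  calc _ = xg chevG2 K 8 p * xg chevG2 K 9 q * xg chevG2 K 10 r * (xg chevG2 K 11 s * xg chevG2 K 7 x) := by simp only [mul_assoc]
    _ = xg chevG2 K 8 p * xg chevG2 K 9 q * (xg chevG2 K 10 r * xg chevG2 K 7 x) * xg chevG2 K 11 s := by rw [e3]; simp only [mul_assoc]
    _ = xg chevG2 K 8 p * (xg chevG2 K 9 q * xg chevG2 K 7 x) * xg chevG2 K 10 r * xg chevG2 K 11 s := by rw [e2]; simp only [mul_assoc]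
    _ = (xg chevG2 K 8 p * xg chevG2 K 7 x) * xg chevG2 K 9 q * xg chevG2 K 10 r * xg chevG2 K 11 s := by rw [e1]; simp only [mul_assoc]
    _ = _ := by rw [e0]; simp only [mul_assoc]

/-- moving `x_b` to the left -/
theorem ab4_Zb (h3 : (3 : K) = 0) (p q r s y : K) : ab4 (Zc K true) p q r s * Zb K true y =
    Zb K true y * ab4 (Zc K true) p q r (s - r * y) := by
  have hA := ab_Zc h3 true
  have e1 := (cm6 h3 0 (by decide) p y).eq
  have e2 := (cm6 h3 1 (by decide) q y).eq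
  have e3 := (cm6 h3 3 (by decide) s y).eq
  have e0 := c106 y r
  unfold ab4
  have h1 : Zc K true 3 (s - r * y) = Zc K true 3 (-(y * r)) * Zc K true 3 s := by
    rw [← hA.add]; congr 1; ring
  rw [h1]
  change xg chevG2 K 8 p * xg chevG2 K 9 q * xg chevG2 K 10 r * xg chevG2 K 11 s * xg chevG2 K 6 y =
    xg chevG2 K 6 y * (xg chevG2 K 8 p * xg chevG2 K 9 q * xg chevG2 K 10 r * (xg chevG2 K 11 (-(y * r)) * xg chevG2 K 11 s))
  change xg chevG2 K 8 p * xg chevG2 K 6 y = xg chevG2 K 6 y * xg chevG2 K 8 p at e1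
  change xg chevG2 K 9 q * xg chevG2 K 6 y = xg chevG2 K 6 y * xg chevG2 K 9 q at e2
  change xg chevG2 K 11 s * xg chevG2 K 6 y = xg chevG2 K 6 y * xg chevG2 K 11 s at e3
  calc _ = xg chevG2 K 8 p * xg chevG2 K 9 q * xg chevG2 K 10 r * (xg chevG2 K 11 s * xg chevG2 K 6 y) := by simp only [mul_assoc]
    _ = xg chevG2 K 8 p * xg chevG2 K 9 q * (xg chevG2 K 10 r * xg chevG2 K 6 y) * xg chevG2 K 11 s := by rw [e3]; simp only [mul_assoc]
    _ = xg chevG2 K 8 p * (xg chevG2 K 9 q * xg chevG2 K 6 y) * xg chevG2 K 10 r * xg chevG2 K 11 (-(y * r)) * xg chevG2 K 11 s := by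
        rw [e0]; simp only [mul_assoc]
    _ = (xg chevG2 K 8 p * xg chevG2 K 6 y) * xg chevG2 K 9 q * xg chevG2 K 10 r * xg chevG2 K 11 (-(y * r)) * xg chevG2 K 11 s := by
        rw [e2]; simp only [mul_assoc]
    _ = _ := by rw [e1]; simp only [mul_assoc]

theorem Za_add (x y : K) : Za K true (x + y) = Za K true x * Za K true y := TG2.good.xg_add _ _ _
theorem Zb_add (x y : K) : Zb K true (x + y) = Zb K true x * Zb K true y := TG2.good.xg_add _ _ _

/-- multiplication of normal forms -/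
theorem NF_mul (h3 : (3 : K) = 0) (x y p q r s x' y' p' q' r' s' : K) : NF K true x y p q r s * NF K true x' y' p' q' r' s' =
    NF K true (x + x') (y + y') (p + p' + x' * y) (q + q' + x' ^ 2 * y + 2 * x' * p) (r + r' - x' ^ 3 * y)
      (s + s' - x' ^ 3 * y ^ 2 - (r - x' ^ 3 * y) * y') := by
  have hA := ab_Zc h3 true
  unfold NF
  calc Za K true x * Zb K true y * ab4 (Zc K true) p q r s * (Za K true x' * Zb K true y' * ab4 (Zc K true) p' q' r' s')
      = Za K true x * Zb K true y * (ab4 (Zc K true) p q r s * Za K true x') * Zb K true y' * ab4 (Zc K true) p' q' r' s' := by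
        simp only [mul_assoc]
    _ = Za K true x * (Zb K true y * Za K true x') * ab4 (Zc K true) p (q + 2 * x' * p) r s * Zb K true y' * ab4 (Zc K true) p' q' r' s' := by
        rw [ab4_Za h3]; simp only [mul_assoc]
    _ = Za K true x * Za K true x' * Zb K true y * (ab4 (Zc K true) (x' * y) (x' ^ 2 * y) (-(x' ^ 3 * y)) (-(x' ^ 3 * y ^ 2)) *
          ab4 (Zc K true) p (q + 2 * x' * p) r s) * Zb K true y' * ab4 (Zc K true) p' q' r' s' := by
        rw [rel_ba]; simp only [mul_assoc]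
    _ = Za K true (x + x') * Zb K true y * (ab4 (Zc K true) (x' * y + p) (x' ^ 2 * y + (q + 2 * x' * p)) (-(x' ^ 3 * y) + r) (-(x' ^ 3 * y ^ 2) + s) *
          Zb K true y') * ab4 (Zc K true) p' q' r' s' := by
        rw [hA.mul, Za_add]; simp only [mul_assoc]
    _ = Za K true (x + x') * (Zb K true y * Zb K true y') * (ab4 (Zc K true) (x' * y + p) (x' ^ 2 * y + (q + 2 * x' * p)) (-(x' ^ 3 * y) + r)
          (-(x' ^ 3 * y ^ 2) + s - (-(x' ^ 3 * y) + r) * y') * ab4 (Zc K true) p' q' r' s') := by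
        rw [ab4_Zb h3]; simp only [mul_assoc]
    _ = _ := by
        rw [← Zb_add, hA.mul]
        congr 2 <;> ring

end

end Cfsg.Agent.H5.Ree
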