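import Mathlib
import Cfsg.Agent.H5.Ree1
set_option autoImplicit false
set_option maxHeartbeats 400000
set_option maxRecDepth 10000

/-! The small Ree groups: torus action on the unipotent group, elements of order three. -/

namespace Cfsg.Agent.H5.Ree
open Cfsg.Lie Matrix Cfsg Cfsg.Agent.H6 Cfsg.Agent.H6.WG2

section
variable {K : Type*} [Field K] {e : ℕ}

theorem hh_x (x : Kˣ) (r : ℕ) (hr : r < 12) {a b : ℤ} (hab : (chevG2.cartan 0 r, chevG2.cartan 1 r) = (a, b)) (t : K) :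
    hh K e x * xg chevG2 K r t * (hh K e x)⁻¹ = xg chevG2 K r ((((x ^ e) ^ a * x ^ b : Kˣ) : K) * t) := by
  have h1 := hh_conj (e := e) x ⟨r, by rw [nr]; exact hr⟩ t
  rw [Prod.mk.injEq] at hab
  rw [← hab.1, ← hab.2]
  exact h1

/-- torus action on normal forms -/
theorem hh_NF (c : Kˣ) (x y p q r s : K) : hh K e c * NF K true x y p q r s * (hh K e c)⁻¹ =
    NF K true ((((c ^ e) ^ (2 : ℤ) * c ^ (-1 : ℤ) : Kˣ) : K) * x) ((((c ^ e) ^ (-3 : ℤ) * c ^ (2 : ℤ) : Kˣ) : K) * y)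
      ((((c ^ e) ^ (-1 : ℤ) * c ^ (1 : ℤ) : Kˣ) : K) * p) ((((c ^ e) ^ (1 : ℤ) * c ^ (0 : ℤ) : Kˣ) : K) * q)
      ((((c ^ e) ^ (3 : ℤ) * c ^ (-1 : ℤ) : Kˣ) : K) * r) ((((c ^ e) ^ (0 : ℤ) * c ^ (1 : ℤ) : Kˣ) : K) * s) := by
  obtain ⟨h6, h7, h8, h9, h10, h11⟩ := cart
  have e6 := hh_x (e := e) c 6 (by norm_num) h6 y
  have e7 := hh_x (e := e) c 7 (by norm_num) h7 x
  have e8 := hh_x (e := e) c 8 (by norm_num) h8 p
  have e9 := hh_x (e := e) c 9 (by norm_num) h9 q
  have e10 := hh_x (e := e) c 10 (by norm_num) h10 r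
  have e11 := hh_x (e := e) c 11 (by norm_num) h11 s
  unfold NF ab4
  change hh K e c * (xg chevG2 K 7 x * xg chevG2 K 6 y * (xg chevG2 K 8 p * xg chevG2 K 9 q * xg chevG2 K 10 r * xg chevG2 K 11 s)) * (hh K e c)⁻¹ =
    xg chevG2 K 7 _ * xg chevG2 K 6 _ * (xg chevG2 K 8 _ * xg chevG2 K 9 _ * xg chevG2 K 10 _ * xg chevG2 K 11 _)
  rw [← e6, ← e7, ← e8, ← e9, ← e10, ← e11]
  group

theorem NF_zero : NF K true 0 0 0 0 0 0 = 1 := by
  unfold NF ab4
  change xg chevG2 K 7 0 * xg chevG2 K 6 0 * (xg chevG2 K 8 0 * xg chevG2 K 9 0 * xg chevG2 K 10 0 * xg chevG2 K 11 0) = 1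
  simp only [TG2.good.xg_zero, mul_one]

theorem RE_zero (hf : Fl K e) : RE K e true 0 0 0 = 1 := by
  have he := e_ne hf
  unfold RE
  rw [zero_pow he, zero_pow (Nat.succ_ne_zero _), zero_pow (by omega), add_zero]
  exact NF_zero

theorem RE_eq_one (hf : Fl K e) {t u v : K} : RE K e true t u v = 1 ↔ t = 0 ∧ u = 0 ∧ v = 0 := by
  constructor
  · intro h
    rw [← RE_zero hf] at h
    exact RE_inj hf h
  · rintro ⟨rfl, rfl, rfl⟩
    exact RE_zero hf

/-- elements of the torus commuting with a unipotent element -/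
theorem comm_cases (hf : Fl K e) {c : Kˣ} {t u v : K} (hc : hh K e c * RE K e true t u v = RE K e true t u v * hh K e c)
    (hne : RE K e true t u v ≠ 1) : c = 1 ∨ (c ^ 2 = 1 ∧ t = 0 ∧ v = 0) := by
  have h0 : hh K e c * RE K e true t u v * (hh K e c)⁻¹ = RE K e true t u v := by rw [hc]; group
  unfold RE at h0
  rw [hh_NF] at h0
  obtain ⟨-, h1, -, -, h2, h3⟩ := NF_inj hf.three h0
  have hc1 : (c ^ e) ^ (3 * e) = c := hu hf c
  by_cases ht : t = 0
  · by_cases hv : v = 0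
    · have hu0 : u ≠ 0 := by
        intro hu0
        exact hne ((RE_eq_one hf).2 ⟨ht, hu0, hv⟩)
      right
      refine ⟨?_, ht, hv⟩
      have h4 : (c ^ e) ^ (3 : ℤ) * c ^ (-1 : ℤ) = 1 := by
        apply Units.ext
        rw [Units.val_one]
        exact mul_right_cancel₀ hu0 (h2.trans (one_mul u).symm)
      have h5 : (c ^ e) ^ 3 = c := by
        have : (c ^ e) ^ (3 : ℤ) = c := by
          rw [_root_.zpow_neg_one, mul_inv_eq_one] at h4; exact h4
        exact_mod_cast this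
      have h6 : c ^ e = c := by
        calc c ^ e = ((c ^ e) ^ 3) ^ e := by rw [h5]
          _ = c := by rw [← pow_mul, hc1]
      rw [h6] at h5
      have h7 : c ^ 2 * c = 1 * c := by rw [one_mul, ← pow_succ]; exact h5
      exact mul_right_cancel h7
    · left
      apply Units.ext
      rw [Units.val_one]
      rw [zpow_zero, one_mul, zpow_one] at h3
      exact mul_right_cancel₀ hv (h3.trans (one_mul v).symm)
  · left
    have h4 : (c ^ e) ^ (-3 : ℤ) * c ^ (2 : ℤ) = 1 := by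
      apply Units.ext
      rw [Units.val_one]
      exact mul_right_cancel₀ ht (h1.trans (one_mul t).symm)
    have h5 : c ^ 2 = (c ^ e) ^ 3 := by
      rw [_root_.zpow_neg, inv_mul_eq_one] at h4
      exact_mod_cast h4.symm
    have h6 : (c ^ e) ^ 2 = c := by
      have h9 : (c ^ 2) ^ e = c := by rw [h5, ← pow_mul, hc1]
      rw [← pow_mul, mul_comm, pow_mul, h9]
    have h7 : c ^ e = c := by
      have h8 : c ^ 2 = c * c ^ e := by
        rw [h5, pow_succ, h6]
      rw [pow_two] at h8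
      exact (mul_left_cancel h8).symm
    rw [h7] at h6
    have h8 : c * c = 1 * c := by rw [one_mul, ← pow_two]; exact h6
    exact mul_right_cancel h8

theorem NF_congr {x y p q r s x' y' p' q' r' s' : K} (h1 : x = x') (h2 : y = y') (h3 : p = p') (h4 : q = q') (h5 : r = r') (h6 : s = s') :
    NF K true x y p q r s = NF K true x' y' p' q' r' s' := by rw [h1, h2, h3, h4, h5, h6]

/-- the cube of a unipotent element -/
theorem RE_cube (hf : Fl K e) (t u v : K) : ∃ x p q, RE K e true t u v ^ 3 = NF K true x 0 p q 0 (-((t ^ e) ^ 3 * t ^ 2)) := by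
  have h3 := hf.three
  unfold RE
  rw [pow_succ, pow_two, NF_mul h3, NF_mul h3]
  refine ⟨_, _, _, NF_congr rfl ?_ rfl rfl ?_ ?_⟩
  · linear_combination t * h3
  · linear_combination (u - (t ^ e) ^ 3 * t) * h3
  · linear_combination (v - u * t) * h3

theorem RE_cube_ne (hf : Fl K e) {t u v : K} (ht : t ≠ 0) : RE K e true t u v ^ 3 ≠ 1 := by
  obtain ⟨x, p, q, h⟩ := RE_cube hf t u v
  intro h1
  rw [h1, ← NF_zero] at h
  obtain ⟨-, -, -, -, -, h2⟩ := NF_inj hf.three h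
  have h4 : (t ^ e) ^ 3 * t ^ 2 ≠ 0 := mul_ne_zero (pow_ne_zero _ (pow_ne_zero _ ht)) (pow_ne_zero _ ht)
  exact h4 (by linear_combination h2)

theorem RE_cube_zero (hf : Fl K e) (u v : K) : RE K e true 0 u v ^ 3 = 1 := by
  have h3 := hf.three
  unfold RE
  rw [zero_pow (e_ne hf), pow_succ, pow_two, NF_mul h3, NF_mul h3, ← NF_zero]
  congr 1
  · ring
  · ring
  · linear_combination (0 ^ (e + 1) + u ^ e) * h3
  · linear_combination (0 ^ (2 * e + 1) + v ^ e) * h3
  · linear_combination u * h3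
  · linear_combination v * h3

theorem RE_order (hf : Fl K e) (t u v : K) : orderOf (RE K e true t u v) = 3 ↔ t = 0 ∧ (u ≠ 0 ∨ v ≠ 0) := by
  haveI : Fact (Nat.Prime 3) := ⟨Nat.prime_three⟩
  rw [orderOf_eq_prime_iff]
  constructor
  · rintro ⟨h1, h2⟩
    have ht : t = 0 := by
      by_contra ht
      exact RE_cube_ne hf ht h1
    refine ⟨ht, ?_⟩
    by_contra hc
    push Not at hc
    exact h2 ((RE_eq_one hf).2 ⟨ht, hc.1, hc.2⟩)
  · rintro ⟨rfl, h⟩
    refine ⟨RE_cube_zero hf u v, ?_⟩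
    intro h1
    obtain ⟨-, h2, h3⟩ := (RE_eq_one hf).1 h1
    rcases h with h | h
    · exact h h2
    · exact h h3

end

end Cfsg.Agent.H5.Ree
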