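import Mathlib
import Cfsg.Agent.H5.Ree2
set_option autoImplicit false
set_option maxHeartbeats 400000
set_option maxRecDepth 10000

/-! Split rank one groups: three-point stabilisers. -/

namespace Cfsg.Agent.H5.Ree

section abs
variable {G : Type*} [Group G]

/-- split rank one data -/
structure Rk1 (B H U : Subgroup G) (n : G) : Prop where
  br : ∀ g : G, g ∈ B ∨ ∃ u ∈ U, ∃ t ∈ H, ∃ u' ∈ U, g = u * t * n * u'
  UB : U ≤ B
  HB : H ≤ B
  dec : ∀ b ∈ B, ∃ u ∈ U, ∃ t ∈ H, b = u * t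
  HU : ∀ t ∈ H, ∀ u ∈ U, t * u * t⁻¹ ∈ U
  nH : ∀ t ∈ H, n * t * n⁻¹ ∈ H
  nU : ∀ u ∈ U, n * u * n⁻¹ ∈ B → u = 1

variable {B H U : Subgroup G} {n : G} (R : Rk1 B H U n)
include R

theorem Rk1.norm {g u : G} (hg : g ∈ B) (hu : u ∈ U) : g * u * g⁻¹ ∈ U := by
  obtain ⟨v, hv, t, ht, rfl⟩ := R.dec g hg
  have : v * t * u * (v * t)⁻¹ = v * (t * u * t⁻¹) * v⁻¹ := by group
  rw [this]
  exact mul_mem (mul_mem hv (R.HU t ht u hu)) (inv_mem hv)

/-- the unipotent subgroup is a trivial intersection subgroup -/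
theorem Rk1.ti {g u : G} (hu : u ∈ U) (hu1 : u ≠ 1) (h : g * u * g⁻¹ ∈ B) : g ∈ B := by
  rcases R.br g with hg | ⟨v, hv, t, ht, w, hw, rfl⟩
  · exact hg
  · exfalso
    have h1 : n * (w * u * w⁻¹) * n⁻¹ ∈ B := by
      have h2 : n * (w * u * w⁻¹) * n⁻¹ = (v * t)⁻¹ * (v * t * n * w * u * (v * t * n * w)⁻¹) * (v * t) := by group
      rw [h2]
      have h3 : v * t ∈ B := mul_mem (R.UB hv) (R.HB ht)
      exact mul_mem (mul_mem (inv_mem h3) h) h3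
    have h2 := R.nU _ (mul_mem (mul_mem hw hu) (inv_mem hw)) h1
    apply hu1
    rw [mul_inv_eq_one] at h2
    exact mul_left_cancel (h2.trans (mul_one w).symm)

theorem Rk1.coset (x : G ⧸ B) (hx : x ≠ QuotientGroup.mk 1) : ∃ u ∈ U, x = QuotientGroup.mk (u * n⁻¹) := by
  obtain ⟨g, rfl⟩ := QuotientGroup.mk_surjective x
  rcases R.br g⁻¹ with hg | ⟨v, hv, t, ht, w, hw, he⟩
  · exfalso
    apply hx
    rw [QuotientGroup.eq]
    simpa using hg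
  · refine ⟨w⁻¹, inv_mem hw, ?_⟩
    rw [QuotientGroup.eq]
    have h1 : g⁻¹ * (w⁻¹ * n⁻¹) = v * t := by rw [he]; group
    rw [h1]
    exact mul_mem (R.UB hv) (R.HB ht)

theorem Rk1.stab {u : G} (hu : u ∈ U) (hu1 : u ≠ 1) (t : G) :
    t ∈ MulAction.stabilizer G (QuotientGroup.mk 1 : G ⧸ B) ⊓ MulAction.stabilizer G (QuotientGroup.mk n⁻¹ : G ⧸ B) ⊓
      MulAction.stabilizer G (QuotientGroup.mk (u * n⁻¹) : G ⧸ B) ↔ t ∈ H ∧ t * u = u * t := by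
  have key : ∀ a : G, t ∈ MulAction.stabilizer G (QuotientGroup.mk a : G ⧸ B) ↔ a⁻¹ * t * a ∈ B := by
    intro a
    rw [MulAction.mem_stabilizer_iff]
    show (QuotientGroup.mk (t * a) : G ⧸ B) = QuotientGroup.mk a ↔ _
    rw [eq_comm, QuotientGroup.eq, mul_assoc]
  rw [Subgroup.mem_inf, Subgroup.mem_inf, key, key, key]
  constructor
  · rintro ⟨⟨h1, h2⟩, h3⟩
    have h1' : t ∈ B := by simpa using h1
    obtain ⟨v, hv, s, hs, rfl⟩ := R.dec t h1'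
    have h4 : n * v * n⁻¹ ∈ B := by
      have : n * v * n⁻¹ = (n⁻¹⁻¹ * (v * s) * n⁻¹) * (n * s * n⁻¹)⁻¹ := by group
      rw [this]
      exact mul_mem h2 (inv_mem (R.HB (R.nH s hs)))
    have h5 := R.nU v hv h4
    subst h5
    rw [one_mul] at h3 ⊢
    refine ⟨hs, ?_⟩
    have h6 : n * (u⁻¹ * (s * u * s⁻¹)) * n⁻¹ ∈ B := by
      have : n * (u⁻¹ * (s * u * s⁻¹)) * n⁻¹ = ((u * n⁻¹)⁻¹ * s * (u * n⁻¹)) * (n * s * n⁻¹)⁻¹ := by group
      rw [this]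
      exact mul_mem h3 (inv_mem (R.HB (R.nH s hs)))
    have h7 := R.nU _ (mul_mem (inv_mem hu) (R.HU s hs u hu)) h6
    rw [inv_mul_eq_one] at h7
    rw [h7]
    conv_lhs => rw [← h7]
    group
  · rintro ⟨h1, h2⟩
    refine ⟨⟨by simpa using R.HB h1, ?_⟩, ?_⟩
    · have := R.HB (R.nH t h1)
      rwa [inv_inv]
    · have h3 : (u * n⁻¹)⁻¹ * t * (u * n⁻¹) = n * t * n⁻¹ := by
        calc (u * n⁻¹)⁻¹ * t * (u * n⁻¹) = n * u⁻¹ * (t * u) * n⁻¹ := by group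
          _ = _ := by rw [h2]; group
      rw [h3]
      exact R.HB (R.nH t h1)

theorem Rk1.three {x y z : G ⧸ B} (hxy : x ≠ y) (hxz : x ≠ z) (hyz : y ≠ z) :
    ∃ u ∈ U, u ≠ 1 ∧ Nat.card ↥(MulAction.stabilizer G x ⊓ MulAction.stabilizer G y ⊓ MulAction.stabilizer G z) =
      Nat.card ↥(H ⊓ Subgroup.centralizer {u}) := by
  obtain ⟨g, rfl⟩ := QuotientGroup.mk_surjective x
  have h1 : g⁻¹ • y ≠ QuotientGroup.mk 1 := by
    intro h
    apply hxy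
    rw [inv_smul_eq_iff] at h
    rw [h]
    show _ = (QuotientGroup.mk (g * 1) : G ⧸ B)
    rw [mul_one]
  obtain ⟨u₁, hu₁, h2⟩ := R.coset _ h1
  have hg1 : (g * u₁) • (QuotientGroup.mk 1 : G ⧸ B) = QuotientGroup.mk g := by
    show (QuotientGroup.mk (g * u₁ * 1) : G ⧸ B) = _
    rw [QuotientGroup.eq]
    have : (g * u₁ * 1)⁻¹ * g = u₁⁻¹ := by group
    rw [this]
    exact inv_mem (R.UB hu₁)
  have hg2 : (g * u₁) • (QuotientGroup.mk n⁻¹ : G ⧸ B) = y := by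
    rw [inv_smul_eq_iff] at h2
    rw [h2]
    show (QuotientGroup.mk (g * u₁ * n⁻¹) : G ⧸ B) = QuotientGroup.mk (g * (u₁ * n⁻¹))
    rw [mul_assoc]
  have h3 : (g * u₁)⁻¹ • z ≠ QuotientGroup.mk 1 := by
    intro h
    apply hxz
    rw [inv_smul_eq_iff] at h
    rw [h, hg1]
  obtain ⟨u, hu, h4⟩ := R.coset _ h3
  rw [inv_smul_eq_iff] at h4
  have hu1 : u ≠ 1 := by
    rintro rfl
    apply hyz
    rw [h4, one_mul, hg2]
  refine ⟨u, hu, hu1, ?_⟩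
  have h5 : MulAction.stabilizer G (QuotientGroup.mk 1 : G ⧸ B) ⊓ MulAction.stabilizer G (QuotientGroup.mk n⁻¹ : G ⧸ B) ⊓
      MulAction.stabilizer G (QuotientGroup.mk (u * n⁻¹) : G ⧸ B) = H ⊓ Subgroup.centralizer {u} := by
    ext t
    rw [R.stab hu hu1, Subgroup.mem_inf, Subgroup.mem_centralizer_iff]
    simp only [Set.mem_singleton_iff, forall_eq]
    exact and_congr_right fun _ => eq_comm
  rw [← h5, ← hg1, ← hg2, h4, MulAction.stabilizer_smul_eq_stabilizer_map_conj, MulAction.stabilizer_smul_eq_stabilizer_map_conj,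
    MulAction.stabilizer_smul_eq_stabilizer_map_conj, ← Subgroup.map_inf _ _ _ (MulAut.conj (g * u₁)).injective,
    ← Subgroup.map_inf _ _ _ (MulAut.conj (g * u₁)).injective]
  exact Subgroup.card_map_of_injective (MulAut.conj (g * u₁)).injective

theorem Rk1.three' {u : G} (hu : u ∈ U) (hu1 : u ≠ 1) (hn : n ∉ B) :
    ∃ x y z : G ⧸ B, x ≠ y ∧ x ≠ z ∧ y ≠ z ∧ Nat.card ↥(MulAction.stabilizer G x ⊓ MulAction.stabilizer G y ⊓ MulAction.stabilizer G z) =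
      Nat.card ↥(H ⊓ Subgroup.centralizer {u}) := by
  refine ⟨QuotientGroup.mk 1, QuotientGroup.mk n⁻¹, QuotientGroup.mk (u * n⁻¹), ?_, ?_, ?_, ?_⟩
  · intro h
    rw [QuotientGroup.eq] at h
    apply hn
    simpa using h
  · intro h
    rw [QuotientGroup.eq] at h
    apply hn
    have h1 : u⁻¹ * (1⁻¹ * (u * n⁻¹)) ∈ B := mul_mem (inv_mem (R.UB hu)) h
    have h2 : u⁻¹ * (1⁻¹ * (u * n⁻¹)) = n⁻¹ := by group
    rw [h2] at h1
    exact inv_mem_iff.1 h1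
  · intro h
    rw [QuotientGroup.eq] at h
    apply hu1
    apply R.nU u hu
    simpa [mul_assoc] using h
  · have h5 : MulAction.stabilizer G (QuotientGroup.mk 1 : G ⧸ B) ⊓ MulAction.stabilizer G (QuotientGroup.mk n⁻¹ : G ⧸ B) ⊓
        MulAction.stabilizer G (QuotientGroup.mk (u * n⁻¹) : G ⧸ B) = H ⊓ Subgroup.centralizer {u} := by
      ext t
      rw [R.stab hu hu1, Subgroup.mem_inf, Subgroup.mem_centralizer_iff]
      simp only [Set.mem_singleton_iff, forall_eq]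
      exact and_congr_right fun _ => eq_comm
    rw [h5]

/-- distinct Sylow subgroups intersect trivially -/
theorem Rk1.sylow_ti {p : ℕ} [Fact p.Prime] [Finite G] (hU : IsPGroup p U) (hi : ¬ p ∣ U.index) (P Q : Sylow p G) (hPQ : P ≠ Q) :
    (P : Subgroup G) ⊓ (Q : Subgroup G) = ⊥ := by
  by_contra hne
  rw [← ne_eq, Subgroup.ne_bot_iff_exists_ne_one] at hne
  obtain ⟨⟨x, hx⟩, hx1⟩ := hne
  have hx1' : x ≠ 1 := fun h => hx1 (Subtype.ext h)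
  obtain ⟨a, ha⟩ := MulAction.exists_smul_eq G (hU.toSylow hi) P
  obtain ⟨b, hb⟩ := MulAction.exists_smul_eq G (hU.toSylow hi) Q
  have key : ∀ (c : G) (S : Sylow p G), c • (hU.toSylow hi) = S → ∀ y, y ∈ (S : Subgroup G) ↔ c⁻¹ * y * c ∈ U := by
    intro c S hS y
    rw [← hS, Sylow.coe_subgroup_smul, Subgroup.mem_pointwise_smul_iff_inv_smul_mem]
    rw [MulAut.smul_def, MulAut.conj_inv_apply]
    exact Iff.rfl
  have h1 := (key a P ha x).1 hx.1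
  have h2 := (key b Q hb x).1 hx.2
  have h3 : b⁻¹ * a ∈ B := by
    apply R.ti h1
    · intro h
      apply hx1'
      have : x = a * (a⁻¹ * x * a) * a⁻¹ := by group
      rw [this, h]; group
    · have : b⁻¹ * a * (a⁻¹ * x * a) * (b⁻¹ * a)⁻¹ = b⁻¹ * x * b := by group
      rw [this]
      exact R.UB h2
  apply hPQ
  apply Sylow.ext
  ext y
  rw [key a P ha, key b Q hb]
  constructor
  · intro h
    have := R.norm h3 h
    have e : b⁻¹ * a * (a⁻¹ * y * a) * (b⁻¹ * a)⁻¹ = b⁻¹ * y * b := by group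
    rwa [e] at this
  · intro h
    have := R.norm (inv_mem h3) h
    have e : (b⁻¹ * a)⁻¹ * (b⁻¹ * y * b) * (b⁻¹ * a)⁻¹⁻¹ = a⁻¹ * y * a := by group
    rwa [e] at this

end abs


open Cfsg.Lie Matrix Cfsg Cfsg.Agent.H6 Cfsg.Agent.H6.WG2

section ree
variable {K : Type*} [Field K] {e : ℕ}
variable {σ : ↥(chevG2.group K) →* ↥(chevG2.group K)} (h : Ctx K e σ) (hf : Fl K e)
include h hf

/-- the small Ree groups are split of rank one -/
theorem rk1 : Rk1 ((chevG2.borelSubgroup K ⊓ twistedG2 K e).subgroupOf (twistedG2 K e))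
    ((chevG2.diagonalSubgroup K ⊓ twistedG2 K e).subgroupOf (twistedG2 K e))
    ((chevG2.posUnipotent K ⊓ twistedG2 K e).subgroupOf (twistedG2 K e))
    ⟨(grp h hf).nJ 0, ((grp h hf).nJ_mem 0).2⟩ := by
  have hT := grp h hf
  obtain ⟨χ, hm⟩ := hT.nJ_mon 0
  have h7 : US (xg chevG2 K) (posS chevG2 6) = chevG2.posUnipotent K := by
    rw [TG2.good.posUnipotent_eq_US]; rfl
  have h8 : US (xg chevG2 K) (h.G.Um (h.wJ LL 0)) = chevG2.posUnipotent K := by rw [Um_eq h, h7]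
  have hUB : chevG2.posUnipotent K ≤ chevG2.borelSubgroup K := le_sup_left
  have hHB : chevG2.diagonalSubgroup K ≤ chevG2.borelSubgroup K := le_sup_right
  constructor
  · rintro ⟨g, hg⟩
    obtain ⟨u₁, hu₁, n, hn, w, χ', hw, hm', u₂, hu₂, rfl⟩ := hT.canon₁ hg
    rcases (mem_Wr_iff h).1 hw with h1 | h1
    · left
      subst h1
      have h2 := h.G.mem_diagonal_of_mon h.E hn.1 hm'
      have h3 : u₂ ∈ chevG2.posUnipotent K := h.US_le_pos (h.G.Um_sub _) hu₂.1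
      rw [Subgroup.mem_subgroupOf]
      exact Subgroup.mem_inf.2 ⟨mul_mem (mul_mem (hUB hu₁.1) (hHB h2)) (hUB h3), hg⟩
    · right
      subst h1
      have h3 : u₂ ∈ chevG2.posUnipotent K := h.US_le_pos (h.G.Um_sub _) hu₂.1
      have h4 : n * (hT.nJ 0)⁻¹ ∈ chevG2.diagonalSubgroup K := by
        have h5 := hm'.mul hm.inv
        rw [mul_inv_cancel] at h5
        exact h.G.mem_diagonal_of_mon h.E (mul_mem hn.1 (inv_mem (hT.nJ_mem 0).1)) h5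
      refine ⟨⟨u₁, hu₁.2⟩, ?_, ⟨n * (hT.nJ 0)⁻¹, mul_mem hn.2 (inv_mem (hT.nJ_mem 0).2)⟩, ?_, ⟨u₂, hu₂.2⟩, ?_, ?_⟩
      · rw [Subgroup.mem_subgroupOf]; exact hu₁
      · rw [Subgroup.mem_subgroupOf]; exact Subgroup.mem_inf.2 ⟨h4, mul_mem hn.2 (inv_mem (hT.nJ_mem 0).2)⟩
      · rw [Subgroup.mem_subgroupOf]; exact Subgroup.mem_inf.2 ⟨h3, hu₂.2⟩
      · apply Subtype.ext
        show u₁ * n * u₂ = u₁ * (n * (hT.nJ 0)⁻¹) * hT.nJ 0 * u₂
        group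
  · intro u hu
    rw [Subgroup.mem_subgroupOf] at hu ⊢
    exact Subgroup.mem_inf.2 ⟨hUB hu.1, hu.2⟩
  · intro u hu
    rw [Subgroup.mem_subgroupOf] at hu ⊢
    exact Subgroup.mem_inf.2 ⟨hHB hu.1, hu.2⟩
  · rintro ⟨b, hb⟩ hb'
    rw [Subgroup.mem_subgroupOf] at hb'
    obtain ⟨u, hu, t, ht, rfl⟩ := hT.mem_borel₁ hb'
    exact ⟨⟨u, hu.2⟩, by rw [Subgroup.mem_subgroupOf]; exact hu, ⟨t, ht.2⟩, by rw [Subgroup.mem_subgroupOf]; exact ht, rfl⟩
  · rintro ⟨t, ht⟩ ht' ⟨u, hu⟩ hu'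
    rw [Subgroup.mem_subgroupOf] at ht' hu' ⊢
    exact Subgroup.mem_inf.2 ⟨h.G.diagonal_conj_pos ht'.1 hu'.1, mul_mem (mul_mem ht hu) (inv_mem ht)⟩
  · rintro ⟨t, ht⟩ ht'
    rw [Subgroup.mem_subgroupOf] at ht' ⊢
    exact hT.diag₁_conj (hT.nJ_mem 0) ht'
  · rintro ⟨u, hu⟩ hu' hc
    rw [Subgroup.mem_subgroupOf] at hu' hc
    by_contra h1
    have h2 : u ≠ 1 := fun h3 => h1 (Subtype.ext h3)
    exact hT.conj_notMem hm (by rw [h8]; exact hu'.1) h2 hc.1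

end ree

end Cfsg.Agent.H5.Ree
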