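import Mathlib
import Cfsg.Agent.H5.Ree3
set_option autoImplicit false
set_option maxHeartbeats 400000
set_option maxRecDepth 10000

/-! Small Ree groups: TI Sylow subgroups, three-point stabilisers. -/

namespace Cfsg.Agent.H5.Ree
open Cfsg.Lie Matrix Cfsg Cfsg.Agent.H6 Cfsg.Agent.H6.WG2

section
variable {K : Type*} [Field K] [Fintype K] {m : ℕ}

theorem card_U (hK : Fintype.card K = 3 ^ (2 * m + 1)) {σ : ↥(chevG2.group K) →* ↥(chevG2.group K)} (h : Ctx K (3 ^ m) σ) (hf : Fl K (3 ^ m)) :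
    Nat.card ↥((chevG2.posUnipotent K ⊓ twistedG2 K (3 ^ m)).subgroupOf (twistedG2 K (3 ^ m))) = 3 ^ (3 * (2 * m + 1)) := by
  rw [Nat.card_congr (Subgroup.subgroupOfEquivOfLe inf_le_right).toEquiv, card_pos h hf, hK, ← pow_mul, mul_comm]

theorem finite_ree (hK : Fintype.card K = 3 ^ (2 * m + 1)) {σ : ↥(chevG2.group K) →* ↥(chevG2.group K)} (h : Ctx K (3 ^ m) σ) (hf : Fl K (3 ^ m)) :
    Finite ↥(twistedG2 K (3 ^ m)) := by
  apply Nat.finite_of_card_ne_zero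
  rw [card_group h hf hK]
  have h1 : 3 ≤ 3 ^ (2 * m + 1) := by
    calc 3 = 3 ^ 1 := rfl
      _ ≤ _ := Nat.pow_le_pow_right (by norm_num) (by omega)
  have h2 : 0 < 3 ^ (2 * m + 1) - 1 := by omega
  positivity

theorem index_U (hK : Fintype.card K = 3 ^ (2 * m + 1)) {σ : ↥(chevG2.group K) →* ↥(chevG2.group K)} (h : Ctx K (3 ^ m) σ) (hf : Fl K (3 ^ m)) :
    ¬ 3 ∣ ((chevG2.posUnipotent K ⊓ twistedG2 K (3 ^ m)).subgroupOf (twistedG2 K (3 ^ m))).index := by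
  have h1 := Subgroup.card_mul_index ((chevG2.posUnipotent K ⊓ twistedG2 K (3 ^ m)).subgroupOf (twistedG2 K (3 ^ m)))
  rw [card_U hK h hf, card_group h hf hK, ← pow_mul, mul_comm (2 * m + 1) 3, mul_assoc] at h1
  have h2 := Nat.eq_of_mul_eq_mul_left (by positivity) h1
  rw [h2]
  intro h3
  rcases (Nat.Prime.dvd_mul Nat.prime_three).1 h3 with h4 | h4
  · have h5 : 3 ∣ 3 ^ (2 * m + 1) := dvd_pow_self 3 (Nat.succ_ne_zero _)
    have h6 : 1 ≤ 3 ^ (2 * m + 1) := Nat.one_le_pow _ _ (by norm_num)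
    have h7 : 3 ∣ 1 := by
      have := (Nat.dvd_sub h5 h4)
      rwa [Nat.sub_sub_self h6] at this
    exact absurd h7 (by norm_num)
  · have h5 : 3 ∣ 3 ^ (3 * (2 * m + 1)) := dvd_pow_self 3 (by omega)
    have h7 : 3 ∣ 1 := (Nat.dvd_add_right h5).1 h4
    exact absurd h7 (by norm_num)

theorem ree_ti (hK : Fintype.card K = 3 ^ (2 * m + 1)) (P Q : Sylow 3 ↥(twistedG2 K (3 ^ m))) (hPQ : P ≠ Q) :
    (P : Subgroup ↥(twistedG2 K (3 ^ m))) ⊓ (Q : Subgroup ↥(twistedG2 K (3 ^ m))) = ⊥ := by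
  obtain ⟨σ, h⟩ := exists_ctx hK
  have hf := fl_of_card hK
  haveI := finite_ree hK h hf
  haveI : Fact (Nat.Prime 3) := ⟨Nat.prime_three⟩
  exact (rk1 h hf).sylow_ti (IsPGroup.of_card (card_U hK h hf)) (index_U hK h hf) P Q hPQ

/-- the centraliser in the torus -/
theorem card_cent_le (hK : Fintype.card K = 3 ^ (2 * m + 1)) {σ : ↥(chevG2.group K) →* ↥(chevG2.group K)} (h : Ctx K (3 ^ m) σ) (hf : Fl K (3 ^ m))
    {u : ↥(twistedG2 K (3 ^ m))} (hu : u ∈ (chevG2.posUnipotent K ⊓ twistedG2 K (3 ^ m)).subgroupOf (twistedG2 K (3 ^ m))) (hu1 : u ≠ 1) :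
    ∀ t ∈ (chevG2.diagonalSubgroup K ⊓ twistedG2 K (3 ^ m)).subgroupOf (twistedG2 K (3 ^ m)) ⊓ Subgroup.centralizer {u},
      t = 1 ∨ (t : GL chevG2.Idx K) = hh K (3 ^ m) (-1) := by
  rintro ⟨t, ht⟩ ⟨h1, h2⟩
  obtain ⟨c, rfl⟩ := (diag_iff h hf hK).1 (Subgroup.mem_subgroupOf.1 h1)
  obtain ⟨u, hu2⟩ := u
  obtain ⟨a, b, d, rfl⟩ := (pos_iff h hf).1 (Subgroup.mem_subgroupOf.1 hu)
  have hcm := congrArg Subtype.val (Subgroup.mem_centralizer_iff.1 h2 _ (Set.mem_singleton _))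
  have hne : RE K (3 ^ m) true a b d ≠ 1 := fun h3 => hu1 (Subtype.ext h3)
  have hc : c = 1 ∨ c ^ 2 = 1 := by
    rcases comm_cases hf hcm.symm hne with h3 | ⟨h3, -, -⟩
    · exact Or.inl h3
    · exact Or.inr h3
  rcases hc with h3 | h3
  · left; subst h3; exact Subtype.ext hh_one
  · have h6 : (c : K) * c = 1 := by rw [← Units.val_mul, ← pow_two, h3, Units.val_one]
    rcases mul_self_eq_one_iff.1 h6 with h7 | h7
    · left
      have : c = 1 := Units.ext h7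
      subst this; exact Subtype.ext hh_one
    · right
      have : c = -1 := Units.ext h7
      subst this; rfl

theorem card_le_two (hK : Fintype.card K = 3 ^ (2 * m + 1)) {σ : ↥(chevG2.group K) →* ↥(chevG2.group K)} (h : Ctx K (3 ^ m) σ) (hf : Fl K (3 ^ m))
    {u : ↥(twistedG2 K (3 ^ m))} (hu : u ∈ (chevG2.posUnipotent K ⊓ twistedG2 K (3 ^ m)).subgroupOf (twistedG2 K (3 ^ m))) (hu1 : u ≠ 1) :
    Nat.card ↥((chevG2.diagonalSubgroup K ⊓ twistedG2 K (3 ^ m)).subgroupOf (twistedG2 K (3 ^ m)) ⊓ Subgroup.centralizer {u}) ≤ 2 := by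
  have h1 := card_cent_le hK h hf hu hu1
  let z : ↥(twistedG2 K (3 ^ m)) := ⟨hh K (3 ^ m) (-1), hh_neg_one_mem hf⟩
  have h2 : ((chevG2.diagonalSubgroup K ⊓ twistedG2 K (3 ^ m)).subgroupOf (twistedG2 K (3 ^ m)) ⊓ Subgroup.centralizer {u} : Subgroup _).carrier ⊆ {1, z} := by
    intro t ht
    rcases h1 t ht with h3 | h3
    · left; exact h3
    · right; exact Subtype.ext h3
  calc _ ≤ Nat.card ↥({1, z} : Set ↥(twistedG2 K (3 ^ m))) := Nat.card_mono (Set.toFinite _) h2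
    _ ≤ 2 := by
      rw [Nat.card_coe_set_eq]
      exact Set.ncard_insert_le _ _ |>.trans (by rw [Set.ncard_singleton])

theorem hh_neg_comm (hf : Fl K (3 ^ m)) : hh K (3 ^ m) (-1) * RE K (3 ^ m) true 0 1 0 = RE K (3 ^ m) true 0 1 0 * hh K (3 ^ m) (-1) := by
  have h1 : ((-1 : Kˣ) ^ (3 ^ m)) = -1 := by
    apply Units.ext
    rw [Units.val_pow_eq_pow_val, Units.val_neg, Units.val_one, neg_pow_e hf, one_pow]
  have h2 : hh K (3 ^ m) (-1) * RE K (3 ^ m) true 0 1 0 * (hh K (3 ^ m) (-1))⁻¹ = RE K (3 ^ m) true 0 1 0 := by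
    unfold RE
    rw [hh_NF, h1]
    refine NF_congr ?_ ?_ ?_ ?_ ?_ ?_
    · rw [zero_pow (e_ne hf), mul_zero]
    · rw [mul_zero]
    · simp
    · rw [zero_pow (Nat.succ_ne_zero _), zero_pow (e_ne hf), add_zero, mul_zero]
    · have : (-1 : Kˣ) ^ (3 : ℤ) * (-1) ^ (-1 : ℤ) = 1 := by
        rw [← _root_.zpow_add]; norm_num
      rw [this]; simp
    · rw [mul_zero]
  calc hh K (3 ^ m) (-1) * RE K (3 ^ m) true 0 1 0 = (hh K (3 ^ m) (-1) * RE K (3 ^ m) true 0 1 0 * (hh K (3 ^ m) (-1))⁻¹) * hh K (3 ^ m) (-1) := by group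
    _ = _ := by rw [h2]

theorem ree_three (hK : Fintype.card K = 3 ^ (2 * m + 1)) :
    (∀ x y z : ↥(twistedG2 K (3 ^ m)) ⧸ ((chevG2.borelSubgroup K ⊓ twistedG2 K (3 ^ m))).subgroupOf (twistedG2 K (3 ^ m)), x ≠ y → x ≠ z → y ≠ z →
        Nat.card ↥(MulAction.stabilizer ↥(twistedG2 K (3 ^ m)) x ⊓ MulAction.stabilizer ↥(twistedG2 K (3 ^ m)) y ⊓ MulAction.stabilizer ↥(twistedG2 K (3 ^ m)) z) ≤ 2) ∧
      ∃ x y z : ↥(twistedG2 K (3 ^ m)) ⧸ ((chevG2.borelSubgroup K ⊓ twistedG2 K (3 ^ m))).subgroupOf (twistedG2 K (3 ^ m)), x ≠ y ∧ x ≠ z ∧ y ≠ z ∧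
        Nat.card ↥(MulAction.stabilizer ↥(twistedG2 K (3 ^ m)) x ⊓ MulAction.stabilizer ↥(twistedG2 K (3 ^ m)) y ⊓ MulAction.stabilizer ↥(twistedG2 K (3 ^ m)) z) = 2 := by
  obtain ⟨σ, h⟩ := exists_ctx hK
  have hf := fl_of_card hK
  haveI := finite_ree hK h hf
  have R := rk1 h hf
  constructor
  · intro x y z hxy hxz hyz
    obtain ⟨u, hu, hu1, h1⟩ := R.three hxy hxz hyz
    rw [h1]
    exact card_le_two hK h hf hu hu1
  · have h0 : RE K (3 ^ m) true 0 1 0 ≠ 1 := by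
      intro h1
      obtain ⟨-, h2, -⟩ := (RE_eq_one hf).1 h1
      exact one_ne_zero h2
    let u : ↥(twistedG2 K (3 ^ m)) := ⟨RE K (3 ^ m) true 0 1 0, RE_mem true 0 1 0⟩
    have hu : u ∈ (chevG2.posUnipotent K ⊓ twistedG2 K (3 ^ m)).subgroupOf (twistedG2 K (3 ^ m)) := by
      rw [Subgroup.mem_subgroupOf]
      exact (pos_iff h hf).2 ⟨0, 1, 0, rfl⟩
    have hu1 : u ≠ 1 := fun h1 => h0 (congrArg Subtype.val h1)
    have hn : (⟨(grp h hf).nJ 0, ((grp h hf).nJ_mem 0).2⟩ : ↥(twistedG2 K (3 ^ m))) ∉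
        (chevG2.borelSubgroup K ⊓ twistedG2 K (3 ^ m)).subgroupOf (twistedG2 K (3 ^ m)) := by
      intro hc
      apply hu1
      apply R.nU u hu
      exact mul_mem (mul_mem hc (R.UB hu)) (inv_mem hc)
    obtain ⟨x, y, z, hxy, hxz, hyz, h1⟩ := R.three' hu hu1 hn
    refine ⟨x, y, z, hxy, hxz, hyz, ?_⟩
    rw [h1]
    apply le_antisymm (card_le_two hK h hf hu hu1)
    let z0 : ↥(twistedG2 K (3 ^ m)) := ⟨hh K (3 ^ m) (-1), hh_neg_one_mem hf⟩
    have hz : z0 ∈ (chevG2.diagonalSubgroup K ⊓ twistedG2 K (3 ^ m)).subgroupOf (twistedG2 K (3 ^ m)) ⊓ Subgroup.centralizer {u} := by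
      refine Subgroup.mem_inf.2 ⟨?_, ?_⟩
      · rw [Subgroup.mem_subgroupOf]
        exact (diag_iff h hf hK).2 ⟨-1, rfl⟩
      · rw [Subgroup.mem_centralizer_iff]
        intro g hg
        rw [Set.mem_singleton_iff] at hg
        subst hg
        exact Subtype.ext (hh_neg_comm hf).symm
    have hz1 : z0 ≠ 1 := by
      intro h2
      have h3 := congrArg Subtype.val h2
      have h4 : hh K (3 ^ m) (-1) = hh K (3 ^ m) 1 := by rw [hh_one]; exact h3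
      have h5 := congrArg (fun x : Kˣ => (x : K)) (hh_inj h4)
      simp only [Units.val_neg, Units.val_one] at h5
      have h6 : (1 : K) = 0 := by linear_combination hf.three + h5
      exact one_ne_zero h6
    haveI : Nontrivial ↥((chevG2.diagonalSubgroup K ⊓ twistedG2 K (3 ^ m)).subgroupOf (twistedG2 K (3 ^ m)) ⊓ Subgroup.centralizer {u}) :=
      ⟨⟨⟨z0, hz⟩, 1, fun h2 => hz1 (congrArg Subtype.val h2)⟩⟩
    exact Finite.one_lt_card

end

end Cfsg.Agent.H5.Ree
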