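import Mathlib
import Cfsg.Agent.H5.Ree4
import Cfsg.Agent.H22.SL2Hom
import Cfsg.Agent.S1030
set_option autoImplicit false
set_option maxHeartbeats 400000
set_option maxRecDepth 10000

/-! Small Ree groups: the centraliser of an involution. -/

namespace Cfsg.Agent.H5.Ree
open Cfsg.Lie Matrix Cfsg Cfsg.Agent.H6 Cfsg.Agent.H6.WG2
open Cfsg.Agent.H22 (ux uy uw)

section gen
variable {F : Type*} [Field F]

theorem uw_eq : (uw : SpecialLinearGroup (Fin 2) F) = ux 1 * uy (-1) * ux 1 := by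
  apply Subtype.ext
  show (uw : SpecialLinearGroup (Fin 2) F).1 = (ux 1).1 * (uy (-1)).1 * (ux 1).1
  simp only [uw, ux, uy]
  rw [Matrix.mul_fin_two, Matrix.mul_fin_two]
  simp

theorem sl2_gen' {S : Subgroup (SpecialLinearGroup (Fin 2) F)} (h1 : ∀ t, ux t ∈ S) (h2 : ∀ t, uy t ∈ S) : S = ⊤ := by
  apply Cfsg.Agent.H22.sl2_gen h1
  rw [uw_eq]
  exact mul_mem (mul_mem (h1 _) (h2 _)) (h1 _)

theorem comm_all {A : Type*} [Group A] (φ : SpecialLinearGroup (Fin 2) F →* A) (z : A) (h1 : ∀ t, Commute (φ (ux t)) z)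
    (h2 : ∀ t, Commute (φ (uy t)) z) (g : SpecialLinearGroup (Fin 2) F) : Commute (φ g) z := by
  have hS : (Subgroup.centralizer {z}).comap φ = ⊤ := by
    apply sl2_gen'
    · intro t
      rw [Subgroup.mem_comap, Subgroup.mem_centralizer_iff]
      intro y hy
      rw [Set.mem_singleton_iff] at hy
      rw [hy]; exact (h1 t).symm
    · intro t
      rw [Subgroup.mem_comap, Subgroup.mem_centralizer_iff]
      intro y hy
      rw [Set.mem_singleton_iff] at hy
      rw [hy]; exact (h2 t).symm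
  have h3 : g ∈ (Subgroup.centralizer {z}).comap φ := by rw [hS]; trivial
  rw [Subgroup.mem_comap, Subgroup.mem_centralizer_iff] at h3
  exact (h3 z rfl).symm

theorem mem_all {A : Type*} [Group A] (φ : SpecialLinearGroup (Fin 2) F →* A) (T : Subgroup A) (h1 : ∀ t, φ (ux t) ∈ T)
    (h2 : ∀ t, φ (uy t) ∈ T) (g : SpecialLinearGroup (Fin 2) F) : φ g ∈ T := by
  have hS : T.comap φ = ⊤ := sl2_gen' h1 h2
  have h3 : g ∈ T.comap φ := by rw [hS]; trivial
  exact h3

end gen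

section
variable {K : Type*} [Field K] {e : ℕ}

/-- the twist -/
def frob (hf : Fl K e) : K →+* K where
  toFun x := x ^ e
  map_one' := one_pow e
  map_mul' x y := mul_pow x y e
  map_zero' := zero_pow (e_ne hf)
  map_add' := hf.add

theorem frob_ux (hf : Fl K e) (t : K) : SpecialLinearGroup.map (frob hf) (ux t) = ux (t ^ e) := by
  apply Subtype.ext
  show (frob hf).mapMatrix (ux t).1 = (ux (t ^ e)).1
  simp only [ux]
  ext i j
  fin_cases i <;> fin_cases j <;> simp [frob, e_ne hf]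

theorem frob_uy (hf : Fl K e) (t : K) : SpecialLinearGroup.map (frob hf) (uy t) = uy (t ^ e) := by
  apply Subtype.ext
  show (frob hf).mapMatrix (uy t).1 = (uy (t ^ e)).1
  simp only [uy]
  ext i j
  fin_cases i <;> fin_cases j <;> simp [frob, e_ne hf]

theorem exists_Phi (hf : Fl K e) : ∃ Φ : SpecialLinearGroup (Fin 2) K →* GL chevG2.Idx K,
    (∀ t, Φ (ux t) = RE K e true 0 t 0) ∧ (∀ t, Φ (uy t) = RE K e false 0 (-t) 0) := by
  obtain ⟨φ8, h8x, h8y⟩ := Cfsg.Agent.H22.exists_sl2_hom (S1030.sl2rel (F := K) TG2.good TG2.ext (r := 8) (by rw [nr]; norm_num))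
  obtain ⟨φ10, h10x, h10y⟩ := Cfsg.Agent.H22.exists_sl2_hom (S1030.sl2rel (F := K) TG2.good TG2.ext (r := 10) (by rw [nr]; norm_num))
  rw [show chevG2.neg 8 = 3 by decide +kernel] at h8y
  rw [show chevG2.neg 10 = 1 by decide +kernel] at h10y
  have h3 := hf.three
  have hc : ∀ g g', Commute (φ8 g) (φ10 g') := by
    intro g g'
    apply comm_all
    · intro t
      rw [h8x]
      apply Commute.symm
      apply comm_all
      · intro u; rw [h10x]; exact (c810 h3 t u).symm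
      · intro u; rw [h10y]; exact (c81 h3 t u).symm
    · intro t
      rw [h8y]
      apply Commute.symm
      apply comm_all
      · intro u; rw [h10x]; exact (c310 h3 t u).symm
      · intro u; rw [h10y]; exact (c31 h3 t u).symm
  refine ⟨{ toFun := fun g => φ8 (SpecialLinearGroup.map (frob hf) g) * φ10 g, map_one' := by simp, map_mul' := ?_ }, ?_, ?_⟩
  · intro g g'
    rw [map_mul, map_mul, map_mul]
    have := (hc (SpecialLinearGroup.map (frob hf) g') g).eq
    calc _ = φ8 (SpecialLinearGroup.map (frob hf) g) * (φ8 (SpecialLinearGroup.map (frob hf) g') * φ10 g) * φ10 g' := by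
          simp only [mul_assoc]
      _ = _ := by rw [this]; simp only [mul_assoc]
  · intro t
    show φ8 (SpecialLinearGroup.map (frob hf) (ux t)) * φ10 (ux t) = _
    rw [frob_ux, h8x, h10x, RE0t hf]
  · intro t
    show φ8 (SpecialLinearGroup.map (frob hf) (uy t)) * φ10 (uy t) = _
    rw [frob_uy, h8y, h10y, RE0f hf, neg_pow_e hf, neg_neg, neg_neg]

end

section abs
variable {G : Type*} [Group G] {B H U : Subgroup G} {n : G} {F : Type*} [Field F]

theorem Rk1.uniq (R : Rk1 B H U n) {u v u' v' t : G} (ht : t ∈ H) (hu : u ∈ U) (hv : v ∈ U) (hu' : u' ∈ U) (hv' : v' ∈ U)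
    (he : u * t * n * u' = v * t * n * v') : u = v ∧ u' = v' := by
  have h1 : n * (u' * v'⁻¹) * n⁻¹ = t⁻¹ * (u⁻¹ * v) * t := by
    calc n * (u' * v'⁻¹) * n⁻¹ = t⁻¹ * u⁻¹ * (u * t * n * u') * v'⁻¹ * n⁻¹ := by group
      _ = _ := by rw [he]; group
  have h2 : n * (u' * v'⁻¹) * n⁻¹ ∈ B := by
    rw [h1]
    exact mul_mem (mul_mem (inv_mem (R.HB ht)) (mul_mem (inv_mem (R.UB hu)) (R.UB hv))) (R.HB ht)
  have h3 := R.nU _ (mul_mem hu' (inv_mem hv')) h2
  rw [h3, mul_one, mul_inv_cancel] at h1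
  have h4 : u⁻¹ * v = 1 := by
    calc u⁻¹ * v = t * (t⁻¹ * (u⁻¹ * v) * t) * t⁻¹ := by group
      _ = 1 := by rw [← h1]; group
  exact ⟨inv_mul_eq_one.1 h4, mul_inv_eq_one.1 h3⟩

theorem cent_dec (R : Rk1 B H U n) (hUH : ∀ x, x ∈ U → x ∈ H → x = 1) (Φ : SpecialLinearGroup (Fin 2) F →* G) (a : G) (haH : a ∈ H) (ha2 : a * a = 1)
    (hn : n * a * n⁻¹ = a) (hHa : ∀ t ∈ H, t * a = a * t) (hCU : ∀ u ∈ U, a * u = u * a → ∃ t, u = Φ (ux t))
    (hΦ : ∀ g, a * Φ g = Φ g * a) (hHΦ : ∀ t ∈ H, ∃ g, t = Φ g ∨ t = a * Φ g)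
    (hV : ∀ t, Φ (uy t) ∈ B → Φ (uy t) = 1) (hX : ∀ t, Φ (ux t) ∈ U) (hX1 : Φ (ux 1) ≠ 1) (g : G) (hg : a * g = g * a) :
    ∃ s, g = Φ s ∨ g = a * Φ s := by
  let M : Subgroup G :=
    { carrier := {g | ∃ s, g = Φ s ∨ g = a * Φ s}
      one_mem' := ⟨1, Or.inl (map_one _).symm⟩
      mul_mem' := by
        rintro x y ⟨s, hs⟩ ⟨s', hs'⟩
        rcases hs with rfl | rfl <;> rcases hs' with rfl | rfl
        · exact ⟨s * s', Or.inl (map_mul _ _ _).symm⟩
        · refine ⟨s * s', Or.inr ?_⟩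
          rw [map_mul, ← mul_assoc, ← hΦ, mul_assoc]
        · exact ⟨s * s', Or.inr (by rw [map_mul, mul_assoc])⟩
        · refine ⟨s * s', Or.inl ?_⟩
          calc a * Φ s * (a * Φ s') = a * (Φ s * a) * Φ s' := by group
            _ = (a * a) * (Φ s * Φ s') := by rw [← hΦ]; group
            _ = _ := by rw [ha2, one_mul, map_mul]
      inv_mem' := by
        rintro x ⟨s, hs⟩
        rcases hs with rfl | rfl
        · exact ⟨s⁻¹, Or.inl (map_inv _ _).symm⟩
        · refine ⟨s⁻¹, Or.inr ?_⟩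
          rw [hΦ, _root_.mul_inv_rev, map_inv]
          congr 1
          exact inv_eq_of_mul_eq_one_left ha2 }
  have hΦM : ∀ s, Φ s ∈ M := fun s => ⟨s, Or.inl rfl⟩
  have hHM : ∀ t ∈ H, t ∈ M := fun t ht => by
    obtain ⟨g, hg⟩ := hHΦ t ht
    exact ⟨g, hg⟩
  have hUM : ∀ u ∈ U, a * u = u * a → u ∈ M := by
    intro u hu hau
    obtain ⟨t, rfl⟩ := hCU u hu hau
    exact hΦM _
  have key : ∀ u ∈ U, ∀ t ∈ H, ∀ u' ∈ U, a * (u * t * n * u') = (u * t * n * u') * a → u ∈ M ∧ u' ∈ M := by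
    intro u hu t ht u' hu' he
    have hn' : a * n = n * a := by
      have : n * a = n * a * n⁻¹ * n := by group
      rw [this, hn]
    have h1 : (a * u * a⁻¹) * t * n * (a * u' * a⁻¹) = u * t * n * u' := by
      calc (a * u * a⁻¹) * t * n * (a * u' * a⁻¹) = a * u * a⁻¹ * (t * (n * a)) * u' * a⁻¹ := by group
        _ = a * u * a⁻¹ * ((t * a) * n) * u' * a⁻¹ := by rw [← hn']; group
        _ = a * (u * t * n * u') * a⁻¹ := by rw [hHa t ht]; group
        _ = _ := by rw [he]; group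
    obtain ⟨h2, h3⟩ := R.uniq ht (R.HU a haH u hu) hu (R.HU a haH u' hu') hu' h1
    refine ⟨hUM u hu ?_, hUM u' hu' ?_⟩
    · conv_rhs => rw [← h2]
      group
    · conv_rhs => rw [← h3]
      group
  have hnM : n ∈ M := by
    have h1 : Φ uw ∉ B := by
      intro hc
      have h2 : Φ (uy (-1)) = Φ uw * Φ (ux 1) * (Φ uw)⁻¹ := by
        rw [← map_inv, ← map_mul, ← map_mul, Cfsg.Agent.H22.uy_eq, neg_neg]
      have h3 : Φ (uy (-1)) ∈ B := by
        rw [h2]; exact mul_mem (mul_mem hc (R.UB (hX 1))) (inv_mem hc)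
      have h4 := hV _ h3
      rw [h2, mul_inv_eq_one] at h4
      exact hX1 (mul_left_cancel (h4.trans (mul_one _).symm))
    rcases R.br (Φ uw) with h2 | ⟨u, hu, t, ht, u', hu', he⟩
    · exact absurd h2 h1
    · obtain ⟨h3, h4⟩ := key u hu t ht u' hu' (by rw [← he]; exact hΦ _)
      have h5 : n = t⁻¹ * u⁻¹ * Φ uw * u'⁻¹ := by rw [he]; group
      rw [h5]
      exact mul_mem (mul_mem (mul_mem (inv_mem (hHM t ht)) (inv_mem h3)) (hΦM _)) (inv_mem h4)
  show g ∈ M
  rcases R.br g with h2 | ⟨u, hu, t, ht, u', hu', rfl⟩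
  · obtain ⟨u, hu, t, ht, rfl⟩ := R.dec g h2
    refine mul_mem (hUM u hu ?_) (hHM t ht)
    have h3 : a * u * t = u * a * t := by
      rw [mul_assoc, hg, mul_assoc, hHa t ht, mul_assoc]
    exact mul_right_cancel h3
  · obtain ⟨h3, h4⟩ := key u hu t ht u' hu' hg
    exact mul_mem (mul_mem (mul_mem h3 (hHM t ht)) hnM) h4

end abs

end Cfsg.Agent.H5.Ree
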