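import Mathlib
import Cfsg.Agent.H5.Ree5
set_option autoImplicit false
set_option maxHeartbeats 400000
set_option maxRecDepth 10000

/-! Small Ree groups: the centraliser of an involution is `2 × PSL₂(q)`. -/

namespace Cfsg.Agent.H5.Ree
open Cfsg.Lie Matrix Cfsg Cfsg.Agent.H6 Cfsg.Agent.H6.WG2
open Cfsg.Agent.H22 (ux uy uw)

section sl
variable {F : Type*} [Field F]

theorem sl_fact (g : SpecialLinearGroup (Fin 2) F) (hc : (g : Matrix (Fin 2) (Fin 2) F) 1 0 ≠ 0) :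
    g = ux (((g : Matrix (Fin 2) (Fin 2) F) 0 0 - 1) / (g : Matrix (Fin 2) (Fin 2) F) 1 0) *
        uy ((g : Matrix (Fin 2) (Fin 2) F) 1 0) * ux (((g : Matrix (Fin 2) (Fin 2) F) 1 1 - 1) / (g : Matrix (Fin 2) (Fin 2) F) 1 0) := by
  have hd := Cfsg.Agent.H22.sl_det g
  apply Subtype.ext
  show (g : Matrix (Fin 2) (Fin 2) F) = (ux _).1 * (uy _).1 * (ux _).1
  simp only [uy, ux]
  rw [Matrix.mul_fin_two, Matrix.mul_fin_two]
  nth_rewrite 1 [Matrix.eta_fin_two (g : Matrix (Fin 2) (Fin 2) F)]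
  generalize (g : Matrix (Fin 2) (Fin 2) F) 0 0 = a at *
  generalize (g : Matrix (Fin 2) (Fin 2) F) 0 1 = b at *
  generalize (g : Matrix (Fin 2) (Fin 2) F) 1 0 = c at *
  generalize (g : Matrix (Fin 2) (Fin 2) F) 1 1 = d at *
  ext i j
  fin_cases i <;> fin_cases j
  · simp only [Fin.zero_eta, Fin.mk_one, Matrix.of_apply, Matrix.cons_val', Matrix.cons_val_zero, Matrix.cons_val_one, Matrix.cons_val_fin_one]
    field_simp
    ring
  · simp only [Fin.zero_eta, Fin.mk_one, Matrix.of_apply, Matrix.cons_val', Matrix.cons_val_zero, Matrix.cons_val_one, Matrix.cons_val_fin_one]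
    field_simp
    linear_combination -hd
  · simp only [Fin.zero_eta, Fin.mk_one, Matrix.of_apply, Matrix.cons_val', Matrix.cons_val_zero, Matrix.cons_val_one, Matrix.cons_val_fin_one]
    field_simp
    ring
  · simp only [Fin.zero_eta, Fin.mk_one, Matrix.of_apply, Matrix.cons_val', Matrix.cons_val_zero, Matrix.cons_val_one, Matrix.cons_val_fin_one]
    field_simp
    ring

/-- diagonal elements -/
def dgw (x : Fˣ) : SpecialLinearGroup (Fin 2) F := ux (x : F) * uy (-(x : F)⁻¹) * ux (x : F) * (ux (-1) * uy 1 * ux (-1))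

theorem dgw_eq (x : Fˣ) : ((dgw x : SpecialLinearGroup (Fin 2) F) : Matrix (Fin 2) (Fin 2) F) = !![(x : F), 0; 0, (x : F)⁻¹] := by
  have hx : (x : F) ≠ 0 := x.ne_zero
  show (ux (x : F)).1 * (uy (-(x : F)⁻¹)).1 * (ux (x : F)).1 * ((ux (-1)).1 * (uy 1).1 * (ux (-1)).1) = _
  simp only [ux, uy]
  rw [Matrix.mul_fin_two, Matrix.mul_fin_two, Matrix.mul_fin_two, Matrix.mul_fin_two, Matrix.mul_fin_two]
  ext i j
  fin_cases i <;> fin_cases j <;> simp [hx]

theorem sl_upper (g : SpecialLinearGroup (Fin 2) F) (hc : (g : Matrix (Fin 2) (Fin 2) F) 1 0 = 0) :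
    ∃ (x : Fˣ) (b : F), g = dgw x * ux b := by
  have hd := Cfsg.Agent.H22.sl_det g
  rw [hc, mul_zero, sub_zero] at hd
  have ha : (g : Matrix (Fin 2) (Fin 2) F) 0 0 ≠ 0 := left_ne_zero_of_mul (by rw [hd]; exact one_ne_zero)
  refine ⟨Units.mk0 _ ha, ((g : Matrix (Fin 2) (Fin 2) F) 0 0)⁻¹ * (g : Matrix (Fin 2) (Fin 2) F) 0 1, ?_⟩
  apply Subtype.ext
  show (g : Matrix (Fin 2) (Fin 2) F) = (dgw _ : SpecialLinearGroup (Fin 2) F).1 * (ux _).1
  rw [dgw_eq]
  simp only [ux]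
  rw [Matrix.mul_fin_two]
  nth_rewrite 1 [Matrix.eta_fin_two (g : Matrix (Fin 2) (Fin 2) F)]
  rw [hc]
  have hd' : (g : Matrix (Fin 2) (Fin 2) F) 1 1 = ((g : Matrix (Fin 2) (Fin 2) F) 0 0)⁻¹ := by
    field_simp; linear_combination hd
  rw [hd']
  ext i j
  fin_cases i <;> fin_cases j <;> simp [ha]

theorem ux_zero : (ux 0 : SpecialLinearGroup (Fin 2) F) = 1 := by
  apply Subtype.ext
  show (ux 0).1 = (1 : Matrix (Fin 2) (Fin 2) F)
  simp only [ux]
  exact (Matrix.one_fin_two).symm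

theorem dgw_one : (dgw 1 : SpecialLinearGroup (Fin 2) F) = 1 := by
  apply Subtype.ext
  show (dgw 1 : SpecialLinearGroup (Fin 2) F).1 = (1 : Matrix (Fin 2) (Fin 2) F)
  have := dgw_eq (F := F) 1
  rw [Units.val_one, inv_one] at this
  rw [this]
  exact (Matrix.one_fin_two).symm

theorem dgw_neg_one : (dgw (-1) : SpecialLinearGroup (Fin 2) F) = -1 := by
  apply Subtype.ext
  show (dgw (-1) : SpecialLinearGroup (Fin 2) F).1 = -(1 : Matrix (Fin 2) (Fin 2) F)
  have := dgw_eq (F := F) (-1)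
  rw [Units.val_neg, Units.val_one, inv_neg, inv_one] at this
  refine this.trans ?_
  rw [Matrix.one_fin_two]
  ext i j
  fin_cases i <;> fin_cases j <;> simp

end sl

section
variable {K : Type*} [Field K] {e : ℕ}

theorem cart' : (chevG2.cartan 0 3, chevG2.cartan 1 3) = (1, -1) ∧ (chevG2.cartan 0 1, chevG2.cartan 1 1) = (-3, 1) := by decide +kernel

theorem neg_one_e (hf : Fl K e) : (-1 : Kˣ) ^ e = -1 := by
  apply Units.ext
  rw [Units.val_pow_eq_pow_val, Units.val_neg, Units.val_one, neg_pow_e hf, one_pow]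

theorem a_comm_x (hf : Fl K e) {r : ℕ} (hr : r < 12) {a b : ℤ} (hab : (chevG2.cartan 0 r, chevG2.cartan 1 r) = (a, b)) (hs : Even (a + b)) (t : K) :
    Commute (xg chevG2 K r t) (hh K e (-1)) := by
  have h1 := hh_x (e := e) (-1 : Kˣ) r hr hab t
  rw [neg_one_e hf, ← _root_.zpow_add, hs.neg_one_zpow, Units.val_one, one_mul] at h1
  have h2 : hh K e (-1) * xg chevG2 K r t = xg chevG2 K r t * hh K e (-1) := mul_inv_eq_iff_eq_mul.1 h1
  exact h2.symm

theorem hX_eq_hh (hf : Fl K e) (d : Kˣ) : nn K e d * nn K e (-1) = hh K e (d ^ (3 * e + 1)) := by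
  have h1 : hh K e (d ^ (3 * e + 1)) = hX chevG2 (xg chevG2 K) 8 ((d ^ e : Kˣ) : K) * hX chevG2 (xg chevG2 K) 10 (d : K) := by
    have h8 := TG2.good.hgr_eq_tor (F := K) 8 (by rw [nr]; decide) (d ^ e)
    have h10 := TG2.good.hgr_eq_tor (F := K) 10 (by rw [nr]; decide) d
    change hX chevG2 (xg chevG2 K) 8 ((d ^ e : Kˣ) : K) = _ at h8
    change hX chevG2 (xg chevG2 K) 10 (d : K) = _ at h10
    rw [h8, h10, ← tor_mul]
    unfold hh
    change tor chevG2 K _ = _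
    rw [tor_eq_iff]
    intro r hr
    rw [nr] at hr
    obtain ⟨a1, a2⟩ := car8 r hr
    rw [Fin.prod_univ_two, Pi.mul_apply]
    change ((d ^ (3 * e + 1)) ^ e) ^ chevG2.cartan 0 r * (d ^ (3 * e + 1)) ^ chevG2.cartan 1 r = _
    rw [a1, a2]
    generalize chevG2.cartan 0 r = a
    generalize chevG2.cartan 1 r = b
    have h4 : (d ^ (3 * e + 1)) ^ e = d ^ (e + 1) := by
      have := hu hf d
      calc (d ^ (3 * e + 1)) ^ e = ((d ^ e) ^ (3 * e)) * d ^ e := by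
            rw [← pow_mul, ← pow_mul, ← pow_add]; congr 1; ring
        _ = _ := by rw [this, pow_succ, mul_comm]
    rw [h4]
    have e1 : (d ^ (e + 1)) = (d ^ (((e : ℤ) + 1)) : Kˣ) := by rw [← zpow_natCast]; push_cast; rfl
    have e2 : (d ^ (3 * e + 1)) = (d ^ ((3 * (e : ℤ) + 1)) : Kˣ) := by rw [← zpow_natCast]; push_cast; rfl
    have e3 : (d ^ e) = (d ^ ((e : ℤ)) : Kˣ) := by rw [← zpow_natCast]
    rw [e1, e2, e3, ← _root_.zpow_mul, ← _root_.zpow_mul, ← _root_.zpow_mul, ← _root_.zpow_add, ← _root_.zpow_add]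
    congr 1
    ring
  rw [h1, Units.val_pow_eq_pow_val, hX_prod hf]

theorem Phi_dgw (hf : Fl K e) {Φ : SpecialLinearGroup (Fin 2) K →* GL chevG2.Idx K} (h1 : ∀ t, Φ (ux t) = RE K e true 0 t 0)
    (h2 : ∀ t, Φ (uy t) = RE K e false 0 (-t) 0) (d : Kˣ) : Φ (dgw d) = hh K e (d ^ (3 * e + 1)) := by
  rw [← hX_eq_hh hf, nn_eq hf, nn_eq hf]
  unfold dgw
  rw [map_mul, map_mul, map_mul, map_mul, map_mul, h1, h2, h1, h2, neg_neg, inv_neg, inv_one]

end

end Cfsg.Agent.H5.Ree
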