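import Mathlib
import Cfsg.Agent.H5.Ree6
set_option autoImplicit false
set_option maxHeartbeats 400000
set_option maxRecDepth 10000

/-! Small Ree groups: the centraliser of an involution is `2 × PSL₂(q)`. -/

namespace Cfsg.Agent.H5.Ree
open Cfsg.Lie Matrix Cfsg Cfsg.Agent.H6 Cfsg.Agent.H6.WG2
open Cfsg.Agent.H22 (ux uy uw)

section glue
variable {F : Type*} [Field F] {C : Type*} [Group C]

/-- an involution as a homomorphism -/
def invHom (a : C) (ha : a * a = 1) : Multiplicative (ZMod 2) →* C where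
  toFun x := if x.toAdd = 0 then 1 else a
  map_one' := by simp
  map_mul' := by
    intro x y
    have hx : x.toAdd = 0 ∨ x.toAdd = 1 := by
      generalize x.toAdd = z; revert z; decide
    have hy : y.toAdd = 0 ∨ y.toAdd = 1 := by
      generalize y.toAdd = z; revert z; decide
    rw [toAdd_mul]
    rcases hx with hx | hx <;> rcases hy with hy | hy <;> rw [hx, hy]
    · simp
    · simp
    · simp
    · have : (1 + 1 : ZMod 2) = 0 := by decide
      rw [this, if_pos rfl, if_neg (by decide), ha]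

/-- gluing -/
theorem glue (Φ : SpecialLinearGroup (Fin 2) F →* C) (a : C) (ha : a * a = 1) (ha1 : a ≠ 1) (hc : ∀ g, a * Φ g = Φ g * a)
    (hs : ∀ x : C, ∃ g, x = Φ g ∨ x = a * Φ g) (hΦ1 : Φ (-1) = 1)
    (hi : ∀ g, Φ g = 1 ∨ Φ g = a → (g = 1 ∨ g = -1) ∧ Φ g = 1) :
    ∃ E : C ≃* Multiplicative (ZMod 2) × ProjectiveSpecialLinearGroup (Fin 2) F, E a = (Multiplicative.ofAdd 1, 1) ∧
      ∀ g, E (Φ g) = (1, QuotientGroup.mk g) := by
  have hcen : Subgroup.center (SpecialLinearGroup (Fin 2) F) ≤ Φ.ker := by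
    intro z hz
    obtain ⟨r, hr, hrz⟩ := Matrix.SpecialLinearGroup.mem_center_iff.1 hz
    rw [Fintype.card_fin] at hr
    have h2 : z = 1 ∨ z = -1 := by
      rcases mul_self_eq_one_iff.1 ((pow_two r).symm.trans hr) with h3 | h3
      · left
        apply Subtype.ext
        rw [← hrz, h3]; simp
      · right
        apply Subtype.ext
        rw [← hrz, h3]
        show Matrix.scalar (Fin 2) (-1 : F) = -(1 : Matrix (Fin 2) (Fin 2) F)
        rw [map_neg, map_one]
    rw [MonoidHom.mem_ker]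
    rcases h2 with rfl | rfl
    · exact map_one _
    · exact hΦ1
  let Φ' : ProjectiveSpecialLinearGroup (Fin 2) F →* C := QuotientGroup.lift _ Φ hcen
  have hΦ' : ∀ g, Φ' (QuotientGroup.mk g) = Φ g := fun g => rfl
  let f := invHom a ha
  have hf1 : f (Multiplicative.ofAdd 1) = a := by
    show (if (Multiplicative.ofAdd (1 : ZMod 2)).toAdd = 0 then 1 else a) = a
    rw [if_neg (by decide)]
  have hcomm : ∀ (x : Multiplicative (ZMod 2)) (y : ProjectiveSpecialLinearGroup (Fin 2) F), Commute (f x) (Φ' y) := by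
    intro x y
    obtain ⟨g, rfl⟩ := QuotientGroup.mk_surjective y
    rw [hΦ']
    show Commute (if x.toAdd = 0 then 1 else a) (Φ g)
    split_ifs
    · exact Commute.one_left _
    · exact hc g
  let Ψ : Multiplicative (ZMod 2) × ProjectiveSpecialLinearGroup (Fin 2) F →* C := MonoidHom.noncommCoprod f Φ' hcomm
  have hΨ : ∀ x y, Ψ (x, y) = f x * Φ' y := fun x y => rfl
  have hb : Function.Bijective Ψ := by
    constructor
    · rw [← MonoidHom.ker_eq_bot_iff, eq_bot_iff]
      rintro ⟨x, y⟩ hxy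
      obtain ⟨g, rfl⟩ := QuotientGroup.mk_surjective y
      rw [MonoidHom.mem_ker, hΨ, hΦ'] at hxy
      rw [Subgroup.mem_bot]
      have hx : x.toAdd = 0 ∨ x.toAdd = 1 := by
        generalize x.toAdd = z; revert z; decide
      have key : Φ g = 1 ∨ Φ g = a := by
        rcases hx with hx | hx
        · left
          have : f x = 1 := by show (if x.toAdd = 0 then 1 else a) = 1; rw [if_pos hx]
          rwa [this, one_mul] at hxy
        · right
          have : f x = a := by show (if x.toAdd = 0 then 1 else a) = a; rw [if_neg (by rw [hx]; decide)]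
          rw [this] at hxy
          exact (mul_left_cancel (hxy.trans ha.symm))
      obtain ⟨h1, h2⟩ := hi g key
      rw [h2, mul_one] at hxy
      have hx0 : x = 1 := by
        rcases hx with hx | hx
        · exact Multiplicative.toAdd.injective hx
        · exfalso
          have : f x = a := by show (if x.toAdd = 0 then 1 else a) = a; rw [if_neg (by rw [hx]; decide)]
          exact ha1 (this.symm.trans hxy)
      have hy0 : (QuotientGroup.mk g : ProjectiveSpecialLinearGroup (Fin 2) F) = 1 := by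
        rw [QuotientGroup.eq_one_iff, Matrix.SpecialLinearGroup.mem_center_iff]
        rcases h1 with rfl | rfl
        · exact ⟨1, by simp, by simp⟩
        · refine ⟨-1, by simp, ?_⟩
          show Matrix.scalar (Fin 2) (-1 : F) = -(1 : Matrix (Fin 2) (Fin 2) F)
          rw [map_neg, map_one]
      rw [hx0, hy0]; rfl
    · intro x
      obtain ⟨g, hg | hg⟩ := hs x
      · refine ⟨(1, QuotientGroup.mk g), ?_⟩
        rw [hΨ, map_one, one_mul, hΦ', hg]
      · refine ⟨(Multiplicative.ofAdd 1, QuotientGroup.mk g), ?_⟩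
        rw [hΨ, hf1, hΦ', hg]
  refine ⟨(MulEquiv.ofBijective Ψ hb).symm, ?_, ?_⟩
  · rw [MulEquiv.symm_apply_eq]
    show a = Ψ (Multiplicative.ofAdd 1, 1)
    rw [hΨ, hf1, map_one, mul_one]
  · intro g
    rw [MulEquiv.symm_apply_eq]
    show Φ g = Ψ (1, QuotientGroup.mk g)
    rw [hΨ, map_one, one_mul, hΦ']

end glue

section
variable {K : Type*} [Field K] [Fintype K] {m : ℕ}

theorem e_odd : Odd (3 ^ m) := Odd.pow (by decide)

theorem neg_one_nonsq (hK : Fintype.card K = 3 ^ (2 * m + 1)) (y : K) : y ^ 2 ≠ -1 := by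
  intro h
  have h4 : Fintype.card K % 4 = 3 := by
    rw [hK, pow_succ, pow_mul, Nat.mul_mod, Nat.pow_mod]
    norm_num
  have h1 : ¬ IsSquare (-1 : K) := by
    rw [FiniteField.isSquare_neg_one_iff, h4]; simp
  exact h1 ⟨y, by rw [← h, pow_two]⟩

theorem two_ne (hf : Fl K (3 ^ m)) : (2 : K) ≠ 0 := by
  intro h4
  have : (1 : K) = 0 := by linear_combination hf.three - h4
  exact one_ne_zero this

theorem neg_ne_one (hf : Fl K (3 ^ m)) : (-1 : Kˣ) ≠ 1 := by
  intro h
  have h5 := congrArg (fun x : Kˣ => (x : K)) h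
  simp only [Units.val_neg, Units.val_one] at h5
  exact two_ne hf (by linear_combination -h5)

/-- torus elements with square one -/
theorem hh_sq_one (hf : Fl K (3 ^ m)) {c : Kˣ} (hc : hh K (3 ^ m) c * hh K (3 ^ m) c = 1) : c = 1 ∨ c = -1 := by
  rw [← hh_mul] at hc
  have h1 : c * c = 1 := hh_inj (hc.trans hh_one.symm)
  have h6 : (c : K) * c = 1 := by rw [← Units.val_mul, h1, Units.val_one]
  rcases mul_self_eq_one_iff.1 h6 with h7 | h7
  · left; exact Units.ext h7
  · right; exact Units.ext h7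

/-- the structure of the centraliser -/
theorem cent_struct (hK : Fintype.card K = 3 ^ (2 * m + 1)) {σ : ↥(chevG2.group K) →* ↥(chevG2.group K)} (h : Ctx K (3 ^ m) σ) (hf : Fl K (3 ^ m))
    (a : ↥(twistedG2 K (3 ^ m))) (ha : (a : GL chevG2.Idx K) = hh K (3 ^ m) (-1)) :
    ∃ Φ : SpecialLinearGroup (Fin 2) K →* ↥(twistedG2 K (3 ^ m)), (∀ g, a * Φ g = Φ g * a) ∧
      (∀ x, a * x = x * a → ∃ g, x = Φ g ∨ x = a * Φ g) ∧ Φ (-1) = 1 ∧
      (∀ g, Φ g = 1 ∨ Φ g = a → (g = 1 ∨ g = -1) ∧ Φ g = 1) := by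
  obtain ⟨Φ₀, hx, hy⟩ := exists_Phi hf
  have hmem : ∀ g, Φ₀ g ∈ twistedG2 K (3 ^ m) := mem_all Φ₀ _ (fun t => by rw [hx]; exact RE_mem _ _ _ _) (fun t => by rw [hy]; exact RE_mem _ _ _ _)
  let Φ : SpecialLinearGroup (Fin 2) K →* ↥(twistedG2 K (3 ^ m)) := Φ₀.codRestrict _ hmem
  have hΦ : ∀ g, (Φ g : GL chevG2.Idx K) = Φ₀ g := fun g => rfl
  obtain ⟨c6, c7, c8, c9, c10, c11⟩ := cart
  obtain ⟨c3, c1⟩ := cart'
  have R := rk1 h hf
  have haa : ∀ g, Commute (Φ₀ g) (hh K (3 ^ m) (-1)) := by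
    intro g
    apply comm_all
    · intro t
      rw [hx, RE0t hf]
      exact (a_comm_x hf (by norm_num) c8 (by decide) _).mul_left (a_comm_x hf (by norm_num) c10 (by decide) _)
    · intro t
      rw [hy, RE0f hf]
      exact (a_comm_x hf (by norm_num) c3 (by decide) _).mul_left (a_comm_x hf (by norm_num) c1 (by decide) _)
  have hΦa : ∀ g, a * Φ g = Φ g * a := by
    intro g
    apply Subtype.ext
    show (a : GL chevG2.Idx K) * Φ₀ g = Φ₀ g * (a : GL chevG2.Idx K)
    rw [ha]; exact (haa g).symm.eq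
  have haH : a ∈ (chevG2.diagonalSubgroup K ⊓ twistedG2 K (3 ^ m)).subgroupOf (twistedG2 K (3 ^ m)) := by
    rw [Subgroup.mem_subgroupOf, ha]
    exact (diag_iff h hf hK).2 ⟨-1, rfl⟩
  have ha2 : a * a = 1 := by
    apply Subtype.ext
    show (a : GL chevG2.Idx K) * a = 1
    rw [ha, ← hh_mul]
    have : (-1 : Kˣ) * -1 = 1 := by simp
    rw [this, hh_one]
  have hinv : ∀ t ∈ (chevG2.diagonalSubgroup K ⊓ twistedG2 K (3 ^ m)).subgroupOf (twistedG2 K (3 ^ m)), t * t = 1 → t = 1 ∨ t = a := by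
    intro t ht ht2
    obtain ⟨c, hc⟩ := (diag_iff h hf hK).1 (Subgroup.mem_subgroupOf.1 ht)
    have h1 : hh K (3 ^ m) c * hh K (3 ^ m) c = 1 := by
      rw [← hc]; exact congrArg Subtype.val ht2
    rcases hh_sq_one hf h1 with h2 | h2
    · left; apply Subtype.ext; rw [hc, h2, hh_one]; rfl
    · right; apply Subtype.ext; rw [hc, h2, ha]
  have ha1 : a ≠ 1 := by
    intro h1
    have h2 : hh K (3 ^ m) (-1) = hh K (3 ^ m) 1 := by rw [hh_one, ← ha, h1]; rfl
    exact neg_ne_one hf (hh_inj h2)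
  have hUH : ∀ x, x ∈ (chevG2.posUnipotent K ⊓ twistedG2 K (3 ^ m)).subgroupOf (twistedG2 K (3 ^ m)) →
      x ∈ (chevG2.diagonalSubgroup K ⊓ twistedG2 K (3 ^ m)).subgroupOf (twistedG2 K (3 ^ m)) → x = 1 := by
    intro x h1 h2
    rw [Subgroup.mem_subgroupOf] at h1 h2
    have h3 : (x : GL chevG2.Idx K) ∈ chevG2.posUnipotent K ⊓ chevG2.diagonalSubgroup K := ⟨h1.1, h2.1⟩
    rw [h.G.pos_inf_diagonal, Subgroup.mem_bot] at h3
    exact Subtype.ext h3
  have hXU : ∀ t, Φ (ux t) ∈ (chevG2.posUnipotent K ⊓ twistedG2 K (3 ^ m)).subgroupOf (twistedG2 K (3 ^ m)) := by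
    intro t
    rw [Subgroup.mem_subgroupOf, hΦ, hx]
    exact (pos_iff h hf).2 ⟨0, t, 0, rfl⟩
  have hX1 : ∀ t, Φ (ux t) = 1 → t = 0 := by
    intro t ht
    have h1 := congrArg Subtype.val ht
    rw [hΦ, hx] at h1
    exact ((RE_eq_one hf).1 h1).2.1
  have hV : ∀ t, Φ (uy t) ∈ (chevG2.borelSubgroup K ⊓ twistedG2 K (3 ^ m)).subgroupOf (twistedG2 K (3 ^ m)) → Φ (uy t) = 1 := by
    intro t ht
    rw [Subgroup.mem_subgroupOf] at ht
    have h1 : (Φ (uy t) : GL chevG2.Idx K) ∈ chevG2.negUnipotent K := by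
      rw [hΦ, hy, RE0f hf, h.G.negUnipotent_eq_US]
      refine mul_mem (mem_US ?_ _) (mem_US ?_ _) <;> simp
    have h2 : (Φ (uy t) : GL chevG2.Idx K) ∈ chevG2.borelSubgroup K ⊓ chevG2.negUnipotent K := ⟨ht.1, h1⟩
    rw [h.G.borel_inf_neg, Subgroup.mem_bot] at h2
    exact Subtype.ext h2
  have hdg : ∀ d : Kˣ, (Φ (dgw d) : GL chevG2.Idx K) = hh K (3 ^ m) (d ^ (3 * 3 ^ m + 1)) := fun d => by
    rw [hΦ, Phi_dgw hf hx hy]
  have hdgH : ∀ d : Kˣ, Φ (dgw d) ∈ (chevG2.diagonalSubgroup K ⊓ twistedG2 K (3 ^ m)).subgroupOf (twistedG2 K (3 ^ m)) := by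
    intro d
    rw [Subgroup.mem_subgroupOf, hdg]
    exact (diag_iff h hf hK).2 ⟨_, rfl⟩
  have heven : ∃ k, 3 * 3 ^ m + 1 = 2 * k := by
    obtain ⟨j, hj⟩ := e_odd (m := m)
    exact ⟨3 * j + 2, by rw [hj]; ring⟩
  refine ⟨Φ, hΦa, ?_, ?_, ?_⟩
  · intro x hxa
    refine cent_dec R hUH Φ a haH ha2 ?_ ?_ ?_ hΦa ?_ hV hXU ?_ x hxa
    · set n : ↥(twistedG2 K (3 ^ m)) := ⟨(grp h hf).nJ 0, ((grp h hf).nJ_mem 0).2⟩ with hn
      have h1 := R.nH a haH
      rcases hinv _ h1 (by
        calc n * a * n⁻¹ * (n * a * n⁻¹) = n * (a * a) * n⁻¹ := by group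
          _ = 1 := by rw [ha2]; group) with h2 | h2
      · exfalso
        apply ha1
        calc a = n⁻¹ * (n * a * n⁻¹) * n := by group
          _ = 1 := by rw [h2]; group
      · exact h2
    · intro t ht
      obtain ⟨c, hc⟩ := (diag_iff h hf hK).1 (Subgroup.mem_subgroupOf.1 ht)
      apply Subtype.ext
      show (t : GL chevG2.Idx K) * a = a * t
      rw [hc, ha, ← hh_mul, ← hh_mul, mul_comm]
    · intro u hu hau
      obtain ⟨t, s, v, he⟩ := (pos_iff h hf).1 (Subgroup.mem_subgroupOf.1 hu)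
      by_cases hu1 : RE K (3 ^ m) true t s v = 1
      · refine ⟨0, ?_⟩
        apply Subtype.ext
        rw [he, hu1, ux_zero, map_one]; rfl
      · have h1 : hh K (3 ^ m) (-1) * RE K (3 ^ m) true t s v = RE K (3 ^ m) true t s v * hh K (3 ^ m) (-1) := by
          rw [← ha, ← he]; exact congrArg Subtype.val hau
        rcases comm_cases hf h1 hu1 with h2 | ⟨-, h3, h4⟩
        · exact absurd h2 (neg_ne_one hf)
        · refine ⟨s, ?_⟩
          apply Subtype.ext
          rw [he, hΦ, hx, h3, h4]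
    · intro t ht
      obtain ⟨c, hc⟩ := (diag_iff h hf hK).1 (Subgroup.mem_subgroupOf.1 ht)
      obtain ⟨y, hy'⟩ := sq_or hK c
      refine ⟨dgw (y ^ (3 * 3 ^ m - 1)), ?_⟩
      rcases hy' with h1 | h1
      · left
        apply Subtype.ext
        rw [hdg, ← sq_eq hf, hc, h1]
      · right
        apply Subtype.ext
        show (t : GL chevG2.Idx K) = (a : GL chevG2.Idx K) * (Φ (dgw (y ^ (3 * 3 ^ m - 1))) : GL chevG2.Idx K)
        rw [hdg, ← sq_eq hf, hc, h1, ha, hh_mul]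
    · intro h1
      exact one_ne_zero (hX1 1 h1)
  · rw [← dgw_neg_one]
    apply Subtype.ext
    rw [hdg]
    obtain ⟨k, hk⟩ := heven
    rw [hk, pow_mul, neg_one_sq, one_pow, hh_one]; rfl
  · intro g hg
    have hgH : Φ g ∈ (chevG2.diagonalSubgroup K ⊓ twistedG2 K (3 ^ m)).subgroupOf (twistedG2 K (3 ^ m)) := by
      rcases hg with h1 | h1
      · rw [h1]; exact one_mem _
      · rw [h1]; exact haH
    have hc : (g : Matrix (Fin 2) (Fin 2) K) 1 0 = 0 := by
      by_contra hc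
      have h1 := sl_fact g hc
      set c := (g : Matrix (Fin 2) (Fin 2) K) 1 0 with hcd
      set x := ((g : Matrix (Fin 2) (Fin 2) K) 0 0 - 1) / c
      set z := ((g : Matrix (Fin 2) (Fin 2) K) 1 1 - 1) / c
      have h2 : Φ (uy c) = (Φ (ux x))⁻¹ * Φ g * (Φ (ux z))⁻¹ := by
        rw [h1, map_mul, map_mul]; group
      have h3 := hV c (by
        rw [h2]
        exact mul_mem (mul_mem (inv_mem (R.UB (hXU _))) (R.HB hgH)) (inv_mem (R.UB (hXU _))))
      rw [Cfsg.Agent.H22.uy_eq, map_mul, map_mul, map_inv, mul_inv_eq_one] at h3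
      have h4 := hX1 _ (mul_left_cancel (h3.trans (mul_one _).symm))
      exact hc (neg_eq_zero.1 h4)
    obtain ⟨x, b, rfl⟩ := sl_upper g hc
    rw [map_mul] at hgH hg ⊢
    have h1 : Φ (ux b) ∈ (chevG2.diagonalSubgroup K ⊓ twistedG2 K (3 ^ m)).subgroupOf (twistedG2 K (3 ^ m)) :=
      (Subgroup.mul_mem_cancel_left _ (hdgH x)).1 hgH
    have h2 := hUH _ (hXU b) h1
    have hb := hX1 b h2
    subst hb
    rw [ux_zero, map_one, mul_one] at hg ⊢
    rw [mul_one]
    have h3 : x ^ (3 * 3 ^ m + 1) = 1 := by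
      rcases hg with h4 | h4
      · apply hh_inj (e := 3 ^ m)
        rw [← hdg, h4, hh_one]; rfl
      · exfalso
        have h5 : x ^ (3 * 3 ^ m + 1) = -1 := by
          apply hh_inj (e := 3 ^ m)
          rw [← hdg, h4, ha]
        obtain ⟨k, hk⟩ := heven
        rw [hk, mul_comm, pow_mul] at h5
        apply neg_one_nonsq hK ((x ^ k : Kˣ) : K)
        rw [← Units.val_pow_eq_pow_val, h5, Units.val_neg, Units.val_one]
    have h4 : x ^ 2 = 1 := by
      rw [sq_eq hf x, ← pow_mul, mul_comm, pow_mul, h3, one_pow]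
    constructor
    · have h6 : (x : K) * x = 1 := by rw [← Units.val_mul, ← pow_two, h4, Units.val_one]
      rcases mul_self_eq_one_iff.1 h6 with h7 | h7
      · left
        have : x = 1 := Units.ext h7
        rw [this, dgw_one]
      · right
        have : x = -1 := Units.ext h7
        rw [this, dgw_neg_one]
    · apply Subtype.ext
      rw [hdg, h3, hh_one]; rfl

end

end Cfsg.Agent.H5.Ree
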