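import Mathlib
import Cfsg.Agent.H5.Ree7
import Cfsg.Agent.H5.Small
set_option autoImplicit false
set_option maxHeartbeats 400000
set_option maxRecDepth 10000

/-! Small Ree groups: involution centralisers and Sylow 2-subgroups. -/

namespace Cfsg.Agent.H5.Ree
open Cfsg.Lie Matrix Cfsg Cfsg.Agent.H6 Cfsg.Agent.H6.WG2
open Cfsg.Agent.H22 (ux uy uw)

section sl
variable {F : Type*} [Field F]

theorem sl_sq (A : SpecialLinearGroup (Fin 2) F) : (A : Matrix (Fin 2) (Fin 2) F) * (A : Matrix (Fin 2) (Fin 2) F) =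
    ((A : Matrix (Fin 2) (Fin 2) F) 0 0 + (A : Matrix (Fin 2) (Fin 2) F) 1 1) • (A : Matrix (Fin 2) (Fin 2) F) - 1 := by
  have hd := Cfsg.Agent.H22.sl_det A
  generalize (A : Matrix (Fin 2) (Fin 2) F) = M at *
  ext i j
  rw [Matrix.mul_apply, Fin.sum_univ_two, Matrix.sub_apply, Matrix.smul_apply, smul_eq_mul]
  fin_cases i <;> fin_cases j
  · show M 0 0 * M 0 0 + M 0 1 * M 1 0 = (M 0 0 + M 1 1) * M 0 0 - 1
    linear_combination -hd
  · show M 0 0 * M 0 1 + M 0 1 * M 1 1 = (M 0 0 + M 1 1) * M 0 1 - 0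
    ring
  · show M 1 0 * M 0 0 + M 1 1 * M 1 0 = (M 0 0 + M 1 1) * M 1 0 - 0
    ring
  · show M 1 0 * M 0 1 + M 1 1 * M 1 1 = (M 0 0 + M 1 1) * M 1 1 - 1
    linear_combination -hd

theorem mem_cen_iff (A : SpecialLinearGroup (Fin 2) F) : A ∈ Subgroup.center (SpecialLinearGroup (Fin 2) F) ↔
    (A : Matrix (Fin 2) (Fin 2) F) = 1 ∨ (A : Matrix (Fin 2) (Fin 2) F) = -1 := by
  rw [Matrix.SpecialLinearGroup.mem_center_iff]
  constructor
  · rintro ⟨r, hr, hrz⟩
    rw [Fintype.card_fin] at hr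
    rcases mul_self_eq_one_iff.1 ((pow_two r).symm.trans hr) with h3 | h3
    · left
      rw [← hrz, h3]; simp
    · right
      rw [← hrz, h3, map_neg, map_one]
  · rintro (h | h)
    · exact ⟨1, by simp, by rw [h, map_one]⟩
    · exact ⟨-1, by simp, by rw [h, map_neg, map_one]⟩

/-- elements of order four modulo scalars do not exist when two is a non-square -/
theorem psl_four (h2 : (2 : F) ≠ 0) (hns : ∀ y : F, y ^ 2 ≠ 2) (z : ProjectiveSpecialLinearGroup (Fin 2) F) (hz : z ^ 4 = 1) : z ^ 2 = 1 := by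
  obtain ⟨A, rfl⟩ := QuotientGroup.mk_surjective z
  have h1 : (QuotientGroup.mk (A ^ 4) : ProjectiveSpecialLinearGroup (Fin 2) F) = 1 := hz
  show (QuotientGroup.mk (A ^ 2) : ProjectiveSpecialLinearGroup (Fin 2) F) = 1
  rw [QuotientGroup.eq_one_iff, mem_cen_iff] at h1 ⊢
  obtain ⟨B, hB⟩ : ∃ B, B = A ^ 2 := ⟨_, rfl⟩
  have hB2 : A ^ 4 = B * B := by rw [hB, ← pow_add]
  have hBM : ((A ^ 4 : SpecialLinearGroup (Fin 2) F) : Matrix (Fin 2) (Fin 2) F) = (B : Matrix (Fin 2) (Fin 2) F) * (B : Matrix (Fin 2) (Fin 2) F) := by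
    rw [hB2]; rfl
  have hAM : (B : Matrix (Fin 2) (Fin 2) F) = (A : Matrix (Fin 2) (Fin 2) F) * (A : Matrix (Fin 2) (Fin 2) F) := by
    rw [hB, pow_two]; rfl
  rw [← hB]
  rw [hBM, sl_sq B] at h1
  rw [sl_sq A] at hAM
  have hdB := Cfsg.Agent.H22.sl_det B
  have hdA := Cfsg.Agent.H22.sl_det A
  generalize (A : Matrix (Fin 2) (Fin 2) F) = M at *
  generalize (B : Matrix (Fin 2) (Fin 2) F) = N at *
  rcases h1 with h1 | h1
  · -- N is scalar
    have e00 := congrFun (congrFun h1 0) 0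
    have e01 := congrFun (congrFun h1 0) 1
    have e10 := congrFun (congrFun h1 1) 0
    have e11 := congrFun (congrFun h1 1) 1
    simp only [Matrix.sub_apply, Matrix.smul_apply, smul_eq_mul, Matrix.one_apply_eq, ne_eq, zero_ne_one, not_false_eq_true,
      Matrix.one_apply_ne, one_ne_zero, sub_zero] at e00 e01 e10 e11
    have ht : N 0 0 + N 1 1 ≠ 0 := by
      intro h0
      rw [h0] at e00
      apply h2; linear_combination -e00
    have f01 : N 0 1 = 0 := (mul_eq_zero.1 e01).resolve_left ht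
    have f10 : N 1 0 = 0 := (mul_eq_zero.1 e10).resolve_left ht
    have f : N 0 0 = N 1 1 := mul_left_cancel₀ ht (by linear_combination e00 - e11)
    rw [f01, zero_mul, sub_zero, ← f] at hdB
    rcases mul_self_eq_one_iff.1 hdB with h3 | h3
    · left
      ext i j
      fin_cases i <;> fin_cases j
      · exact h3
      · exact f01
      · exact f10
      · exact f.symm.trans h3
    · right
      ext i j
      fin_cases i <;> fin_cases j
      · exact h3
      · show N 0 1 = -(0 : F); rw [f01, neg_zero]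
      · show N 1 0 = -(0 : F); rw [f10, neg_zero]
      · exact f.symm.trans h3
  · exfalso
    have e00 := congrFun (congrFun h1 0) 0
    have e01 := congrFun (congrFun h1 0) 1
    have e10 := congrFun (congrFun h1 1) 0
    have e11 := congrFun (congrFun h1 1) 1
    simp only [Matrix.sub_apply, Matrix.smul_apply, smul_eq_mul, Matrix.neg_apply, Matrix.one_apply_eq, ne_eq, zero_ne_one, not_false_eq_true,
      Matrix.one_apply_ne, one_ne_zero, sub_zero, neg_zero] at e00 e01 e10 e11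
    have ht : N 0 0 + N 1 1 = 0 := by
      by_contra ht
      have f00 : N 0 0 = 0 := (mul_eq_zero.1 (by linear_combination e00 : (N 0 0 + N 1 1) * N 0 0 = 0)).resolve_left ht
      have f01 : N 0 1 = 0 := (mul_eq_zero.1 e01).resolve_left ht
      rw [f00, f01] at hdB
      simp at hdB
    have g00 := congrFun (congrFun hAM 0) 0
    have g11 := congrFun (congrFun hAM 1) 1
    simp only [Matrix.sub_apply, Matrix.smul_apply, smul_eq_mul, Matrix.one_apply_eq] at g00 g11
    apply hns (M 0 0 + M 1 1)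
    linear_combination ht - g00 - g11

end sl

section
variable {K : Type*} [Field K] [Fintype K] {m : ℕ}

/-- the involution of the torus -/
theorem inv_eq (hK : Fintype.card K = 3 ^ (2 * m + 1)) {σ : ↥(chevG2.group K) →* ↥(chevG2.group K)} (h : Ctx K (3 ^ m) σ) (hf : Fl K (3 ^ m))
    (a : ↥(twistedG2 K (3 ^ m))) (haH : (a : GL chevG2.Idx K) ∈ chevG2.diagonalSubgroup K) (ha1 : a ≠ 1) (ha2 : a * a = 1) :
    (a : GL chevG2.Idx K) = hh K (3 ^ m) (-1) := by
  obtain ⟨c, hc⟩ := (diag_iff h hf hK).1 (Subgroup.mem_inf.2 ⟨haH, a.2⟩)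
  have h1 : hh K (3 ^ m) c * hh K (3 ^ m) c = 1 := by
    rw [← hc]; exact congrArg Subtype.val ha2
  rcases hh_sq_one hf h1 with h2 | h2
  · exfalso; apply ha1; apply Subtype.ext; rw [hc, h2, hh_one]; rfl
  · rw [hc, h2]

theorem cent_equiv (hK : Fintype.card K = 3 ^ (2 * m + 1)) (a : ↥(twistedG2 K (3 ^ m))) (ha : (a : GL chevG2.Idx K) = hh K (3 ^ m) (-1)) :
    ∃ E : ↥(Subgroup.centralizer {a}) ≃* Multiplicative (ZMod 2) × ProjectiveSpecialLinearGroup (Fin 2) K,
      E ⟨a, Subgroup.mem_centralizer_iff.2 fun x hx => by rw [Set.mem_singleton_iff.1 hx]⟩ = (Multiplicative.ofAdd 1, 1) := by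
  obtain ⟨σ, h⟩ := exists_ctx hK
  have hf := fl_of_card hK
  obtain ⟨Φ, h1, h2, h3, h4⟩ := cent_struct hK h hf a ha
  have hmem : ∀ g, Φ g ∈ Subgroup.centralizer {a} := fun g => Subgroup.mem_centralizer_iff.2 fun x hx => by
    rw [Set.mem_singleton_iff.1 hx]; exact h1 g
  let Φ' : SpecialLinearGroup (Fin 2) K →* ↥(Subgroup.centralizer {a}) := Φ.codRestrict _ hmem
  let a' : ↥(Subgroup.centralizer {a}) := ⟨a, Subgroup.mem_centralizer_iff.2 fun x hx => by rw [Set.mem_singleton_iff.1 hx]⟩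
  have ha2 : a * a = 1 := by
    apply Subtype.ext
    show (a : GL chevG2.Idx K) * a = 1
    rw [ha, ← hh_mul]
    have : (-1 : Kˣ) * -1 = 1 := by simp
    rw [this, hh_one]
  have ha1 : a ≠ 1 := by
    intro h1
    have h2 : hh K (3 ^ m) (-1) = hh K (3 ^ m) 1 := by rw [hh_one, ← ha, h1]; rfl
    exact neg_ne_one hf (hh_inj h2)
  obtain ⟨E, hE, -⟩ := glue Φ' a' (Subtype.ext ha2) (fun h5 => ha1 (congrArg Subtype.val h5)) (fun g => Subtype.ext (h1 g))
    (by
      rintro ⟨x, hx⟩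
      obtain ⟨g, hg⟩ := h2 x (Subgroup.mem_centralizer_iff.1 hx a rfl)
      refine ⟨g, ?_⟩
      rcases hg with hg | hg
      · left; exact Subtype.ext hg
      · right; exact Subtype.ext hg)
    (Subtype.ext h3)
    (by
      intro g hg
      have hg' : Φ g = 1 ∨ Φ g = a := by
        rcases hg with hg | hg
        · left; exact congrArg Subtype.val hg
        · right; exact congrArg Subtype.val hg
      obtain ⟨h5, h6⟩ := h4 g hg'
      exact ⟨h5, Subtype.ext h6⟩)
  exact ⟨E, hE⟩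

end

end Cfsg.Agent.H5.Ree
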