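import Mathlib
import Cfsg.Agent.H5.Klein2
import Cfsg.Agent.H5.KleinPSL
import Cfsg.Agent.S0074
set_option autoImplicit false
set_option maxHeartbeats 400000

/-! Groups with an involution centraliser `2 × L`, `L` with Klein four Sylow subgroups. -/

namespace Cfsg.Agent.H5.Ree

section
variable {G L : Type*} [Group G] [Group L] {a : G} (E : ↥(Subgroup.centralizer {a}) ≃* Multiplicative (ZMod 2) × L)

/-- subgroup of the centraliser from a subgroup of `L` -/
def liftS (V : Subgroup L) : Subgroup G :=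
  (((⊤ : Subgroup (Multiplicative (ZMod 2))).prod V).map E.symm.toMonoidHom).map (Subgroup.centralizer {a}).subtype

theorem mem_liftS {V : Subgroup L} {x : G} : x ∈ liftS E V ↔ ∃ h : x ∈ Subgroup.centralizer {a}, (E ⟨x, h⟩).2 ∈ V := by
  unfold liftS
  constructor
  · rintro ⟨y, ⟨⟨s, v⟩, hp, rfl⟩, rfl⟩
    refine ⟨(E.symm (s, v)).2, ?_⟩
    have : (⟨((E.symm (s, v) : ↥(Subgroup.centralizer {a})) : G), (E.symm (s, v)).2⟩ : ↥(Subgroup.centralizer {a})) = E.symm (s, v) := rfl
    show (E (E.symm (s, v))).2 ∈ V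
    rw [E.apply_symm_apply]
    exact hp.2
  · rintro ⟨h, hv⟩
    refine ⟨⟨x, h⟩, ⟨E ⟨x, h⟩, ⟨trivial, hv⟩, E.symm_apply_apply _⟩, rfl⟩

theorem card_liftS (V : Subgroup L) : Nat.card ↥(liftS E V) = 2 * Nat.card V := by
  unfold liftS
  rw [Subgroup.card_map_of_injective (Subgroup.subtype_injective _), Subgroup.card_map_of_injective E.symm.injective,
    Nat.card_congr (Subgroup.prodEquiv _ _).toEquiv, Nat.card_prod, Subgroup.card_top, Nat.card_congr Multiplicative.toAdd, Nat.card_zmod]

theorem liftS_le (V : Subgroup L) : liftS E V ≤ Subgroup.centralizer {a} := by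
  intro x hx
  obtain ⟨h, -⟩ := (mem_liftS E).1 hx
  exact h

theorem liftS_norm (V : Subgroup L) : liftS E (Subgroup.normalizer (V : Set L)) ≤ Subgroup.normalizer (liftS E V : Set G) := by
  have key : ∀ x ∈ liftS E (Subgroup.normalizer (V : Set L)), ∀ y ∈ liftS E V, x * y * x⁻¹ ∈ liftS E V := by
    intro x hx y hy
    obtain ⟨hx1, hx2⟩ := (mem_liftS E).1 hx
    obtain ⟨hy1, hy2⟩ := (mem_liftS E).1 hy
    rw [mem_liftS]
    refine ⟨mul_mem (mul_mem hx1 hy1) (inv_mem hx1), ?_⟩
    have : (⟨x * y * x⁻¹, mul_mem (mul_mem hx1 hy1) (inv_mem hx1)⟩ : ↥(Subgroup.centralizer {a})) = ⟨x, hx1⟩ * ⟨y, hy1⟩ * ⟨x, hx1⟩⁻¹ := rfl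
    rw [this, map_mul, map_mul, map_inv]
    exact (Subgroup.mem_normalizer_iff.1 hx2 _).1 hy2
  intro x hx
  rw [Subgroup.mem_normalizer_iff]
  intro y
  constructor
  · exact key x hx y
  · intro h
    have := key x⁻¹ (inv_mem hx) _ h
    have e : x⁻¹ * (x * y * x⁻¹) * x⁻¹⁻¹ = y := by group
    rwa [e] at this

variable (hEa : E ⟨a, Subgroup.mem_centralizer_iff.2 fun x hx => by rw [Set.mem_singleton_iff.1 hx]⟩ = (Multiplicative.ofAdd 1, 1))
include hEa

theorem a_mem_liftS (V : Subgroup L) : a ∈ liftS E V := by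
  rw [mem_liftS]
  exact ⟨_, by rw [hEa]; exact one_mem V⟩

theorem a_not_comm : a ∉ ⁅Subgroup.centralizer {a}, Subgroup.centralizer {a}⁆ := by
  let χ : ↥(Subgroup.centralizer {a}) →* Multiplicative (ZMod 2) := (MonoidHom.fst _ _).comp E.toMonoidHom
  have h1 : ⁅Subgroup.centralizer {a}, Subgroup.centralizer {a}⁆ ≤ χ.ker.map (Subgroup.centralizer {a}).subtype := by
    rw [Subgroup.commutator_le]
    intro x hx y hy
    refine ⟨(⟨x, hx⟩ : ↥(Subgroup.centralizer {a})) * ⟨y, hy⟩ * (⟨x, hx⟩ : ↥(Subgroup.centralizer {a}))⁻¹ * (⟨y, hy⟩ : ↥(Subgroup.centralizer {a}))⁻¹, ?_, rfl⟩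
    rw [SetLike.mem_coe, MonoidHom.mem_ker, map_mul, map_mul, map_mul, map_inv, map_inv]
    generalize χ ⟨x, hx⟩ = u
    generalize χ ⟨y, hy⟩ = v
    revert u v
    decide
  intro h
  obtain ⟨y, hy, hya⟩ := h1 h
  rw [SetLike.mem_coe, MonoidHom.mem_ker] at hy
  have h2 : y = ⟨a, Subgroup.mem_centralizer_iff.2 fun x hx => by rw [Set.mem_singleton_iff.1 hx]⟩ := Subtype.ext hya
  have h3 : χ y = Multiplicative.ofAdd 1 := by
    rw [h2]
    show (E _).1 = _
    rw [hEa]
  rw [h3] at hy
  exact absurd (Multiplicative.ofAdd.injective hy : (1 : ZMod 2) = 0) (by decide)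

theorem cent_liftS {V : Subgroup L} (hV : Subgroup.centralizer (V : Set L) = V) (hVc : ∀ x ∈ V, ∀ y ∈ V, x * y = y * x) :
    Subgroup.centralizer (liftS E V : Set G) = liftS E V := by
  apply le_antisymm
  · intro x hx
    rw [Subgroup.mem_centralizer_iff] at hx
    have hxa : x ∈ Subgroup.centralizer {a} := by
      rw [Subgroup.mem_centralizer_iff]
      intro y hy
      rw [Set.mem_singleton_iff.1 hy]
      exact hx a (a_mem_liftS E hEa V)
    rw [mem_liftS]
    refine ⟨hxa, ?_⟩
    rw [← hV, Subgroup.mem_centralizer_iff]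
    intro v hv
    have h1 : ((E.symm (1, v) : ↥(Subgroup.centralizer {a})) : G) ∈ liftS E V := by
      rw [mem_liftS]
      refine ⟨(E.symm (1, v)).2, ?_⟩
      show (E (E.symm (1, v))).2 ∈ V
      rw [E.apply_symm_apply]
      exact hv
    have h2 := hx _ h1
    have h3 : E.symm (1, v) * ⟨x, hxa⟩ = ⟨x, hxa⟩ * E.symm (1, v) := Subtype.ext h2
    have h4 := congrArg (fun z => (E z).2) h3
    simp only [map_mul, E.apply_symm_apply, Prod.snd_mul] at h4
    exact h4
  · intro x hx
    rw [Subgroup.mem_centralizer_iff]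
    intro y hy
    obtain ⟨hx1, hx2⟩ := (mem_liftS E).1 hx
    obtain ⟨hy1, hy2⟩ := (mem_liftS E).1 hy
    have : (⟨y, hy1⟩ : ↥(Subgroup.centralizer {a})) * ⟨x, hx1⟩ = ⟨x, hx1⟩ * ⟨y, hy1⟩ := by
      apply E.injective
      rw [map_mul, map_mul]
      apply Prod.ext
      · exact mul_comm _ _
      · exact hVc _ hy2 _ hx2
    exact congrArg Subtype.val this

omit hEa in
theorem sq_liftS {V : Subgroup L} (hV : ∀ x ∈ V, x * x = 1) : ∀ x ∈ liftS E V, x * x = 1 := by
  intro x hx
  obtain ⟨hx1, hx2⟩ := (mem_liftS E).1 hx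
  have : (⟨x, hx1⟩ : ↥(Subgroup.centralizer {a})) * ⟨x, hx1⟩ = 1 := by
    apply E.injective
    rw [map_mul, map_one]
    apply Prod.ext
    · show (E ⟨x, hx1⟩).1 * (E ⟨x, hx1⟩).1 = 1
      generalize (E ⟨x, hx1⟩).1 = z
      revert z
      decide
    · exact hV _ hx2
  exact congrArg Subtype.val this

end

section fin
variable {G L : Type*} [Group G] [Group L] [Finite G] {a : G} (E : ↥(Subgroup.centralizer {a}) ≃* Multiplicative (ZMod 2) × L)
  (hEa : E ⟨a, Subgroup.mem_centralizer_iff.2 fun x hx => by rw [Set.mem_singleton_iff.1 hx]⟩ = (Multiplicative.ofAdd 1, 1))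
  {V : Subgroup L} [hVk : IsKleinFour V] {k : ℕ} (hk : Odd k) (hG : Nat.card G = 8 * k)

include hVk hk hG in
/-- the lift is a Sylow subgroup -/
theorem exists_sylow : ∃ P : Sylow 2 G, (P : Subgroup G) = liftS E V := by
  have hc : Nat.card ↥(liftS E V) = 2 ^ 3 := by
    rw [card_liftS, hVk.card_four]; norm_num
  have hp : IsPGroup 2 ↥(liftS E V) := IsPGroup.of_card hc
  have hi : ¬ 2 ∣ (liftS E V).index := by
    have h1 := (liftS E V).card_mul_index
    rw [hc, hG] at h1
    have h2 : (liftS E V).index = k := Nat.eq_of_mul_eq_mul_left (by norm_num : 0 < 8) h1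
    rw [h2]
    exact fun h3 => (Nat.not_even_iff_odd.2 hk) (even_iff_two_dvd.2 h3)
  exact ⟨hp.toSylow hi, rfl⟩

include hVk in
theorem V_sq : ∀ x ∈ V, x * x = 1 := fun x hx => congrArg Subtype.val (IsKleinFour.mul_self (⟨x, hx⟩ : V))

include hVk in
theorem V_comm : ∀ x ∈ V, ∀ y ∈ V, x * y = y * x := fun x hx y hy =>
  congrArg Subtype.val ((IsKleinFour.isMulCommutative (G := V)).is_comm.comm ⟨x, hx⟩ ⟨y, hy⟩)

include E hVk hk hG in
theorem sylow_facts (S : Sylow 2 G) : Nat.card S = 8 ∧ ∀ x ∈ S, x * x = 1 := by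
  obtain ⟨P, hP⟩ := exists_sylow E (V := V) hk hG
  obtain ⟨g, rfl⟩ := MulAction.exists_smul_eq G P S
  constructor
  · have h1 : Nat.card ↥((g • P : Sylow 2 G) : Subgroup G) = Nat.card ↥(P : Subgroup G) :=
      (Sylow.card_eq_multiplicity (g • P)).trans (Sylow.card_eq_multiplicity P).symm
    rw [h1, hP, card_liftS, hVk.card_four]
  · intro x hx
    have hx' : x ∈ ((g • P : Sylow 2 G) : Subgroup G) := hx
    rw [Sylow.coe_subgroup_smul, Subgroup.mem_pointwise_smul_iff_inv_smul_mem, MulAut.smul_def, MulAut.conj_inv_apply, hP] at hx'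
    have h1 := sq_liftS E (V_sq (V := V)) _ hx'
    calc x * x = g * ((g⁻¹ * x * g) * (g⁻¹ * x * g)) * g⁻¹ := by group
      _ = 1 := by rw [h1]; group

include hEa hVk hk hG in
theorem sylow_norm (hperf : commutator G = ⊤) (hVC : Subgroup.centralizer (V : Set L) = V) (hVN : Nat.card ↥(Subgroup.normalizer (V : Set L)) = 12)
    (S : Sylow 2 G) : Subgroup.centralizer ((S : Subgroup G) : Set G) = S ∧ Nat.card ↥(Subgroup.normalizer ((S : Subgroup G) : Set G)) = 168 := by
  obtain ⟨P, hP⟩ := exists_sylow E (V := V) hk hG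
  have hCP : Subgroup.centralizer ((P : Subgroup G) : Set G) = P := by rw [hP]; exact cent_liftS E hEa hVC V_comm
  have hcardP : Nat.card ↥(P : Subgroup G) = 8 := by rw [hP, card_liftS, hVk.card_four]
  have hPcomm : ∀ x ∈ (P : Subgroup G), ∀ y ∈ (P : Subgroup G), x * y = y * x := by
    intro x hx y hy
    rw [← hCP] at hx
    exact (Subgroup.mem_centralizer_iff.1 hx y hy).symm
  have hNP : Nat.card ↥(Subgroup.normalizer ((P : Subgroup G) : Set G)) = 168 := by
    -- the index of the centraliser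
    have h1 := Cfsg.Agent.H2.relIndex_centralizer_dvd_card_mulAut (P : Subgroup G)
    have h2 : Nat.card (MulAut ↥(P : Subgroup G)) = 168 := by
      rw [Cfsg.Agent.H2.card_mulAut_elementary (E := ↥(P : Subgroup G)) (p := 2) (n := 3)
        (fun x y => Subtype.ext (hPcomm x x.2 y y.2)) (fun x => by
          rw [pow_two]
          apply Subtype.ext
          have h5 : (x : G) ∈ liftS E V := by rw [← hP]; exact x.2
          exact sq_liftS E (V_sq (V := V)) _ h5) (by rw [hcardP]; norm_num)]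
      rw [Fin.prod_univ_three]
      norm_num
    rw [h2, hCP, Subgroup.relIndex] at h1
    have h3 := ((P : Subgroup G).subgroupOf (Subgroup.normalizer ((P : Subgroup G) : Set G))).card_mul_index
    rw [Nat.card_congr (Subgroup.subgroupOfEquivOfLe (Subgroup.le_normalizer)).toEquiv, hcardP] at h3
    generalize ((P : Subgroup G).subgroupOf (Subgroup.normalizer ((P : Subgroup G) : Set G))).index = j at h1 h3
    have h4 : Odd j := by
      have h5 : Nat.card ↥(Subgroup.normalizer ((P : Subgroup G) : Set G)) ∣ Nat.card G := Subgroup.card_subgroup_dvd_card _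
      rw [← h3, hG] at h5
      exact Odd.of_dvd_nat hk (Nat.dvd_of_mul_dvd_mul_left (by norm_num) h5)
    have h24 : Nat.card ↥(liftS E (Subgroup.normalizer (V : Set L))) = 24 := by rw [card_liftS, hVN]
    have hle : liftS E (Subgroup.normalizer (V : Set L)) ≤ Subgroup.normalizer ((P : Subgroup G) : Set G) := by
      rw [hP]; exact liftS_norm E V
    have h6 : 3 ∣ j := by
      have h7 := Subgroup.card_dvd_of_le hle
      rw [h24, ← h3] at h7
      exact Nat.dvd_of_mul_dvd_mul_left (by norm_num : 0 < 8) h7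
    have h7 : j = 3 ∨ j = 21 := by
      have hj : j ≤ 168 := Nat.le_of_dvd (by norm_num) h1
      obtain ⟨i, rfl⟩ := h6
      have hi : i ≤ 56 := by omega
      interval_cases i <;> simp_all (config := { decide := true })
    rcases h7 with h7 | h7
    · exfalso
      rw [h7] at h3
      have h8 : liftS E (Subgroup.normalizer (V : Set L)) = Subgroup.normalizer ((P : Subgroup G) : Set G) :=
        Subgroup.eq_of_le_of_card_ge hle (by rw [h24, ← h3])
      have h9 : Subgroup.normalizer ((P : Subgroup G) : Set G) ≤ Subgroup.centralizer {a} := by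
        rw [← h8]; exact liftS_le E _
      have h10 := Cfsg.Agent.S0074.result P ⟨⟨fun x y => Subtype.ext (hPcomm x x.2 y y.2)⟩⟩
      rw [hperf, top_inf_eq] at h10
      have ha : a ∈ (P : Subgroup G) := by rw [hP]; exact a_mem_liftS E hEa V
      rw [h10] at ha
      exact a_not_comm E hEa (Subgroup.commutator_mono h9 h9 ha.1)
    · rw [← h3, h7]
  obtain ⟨g, rfl⟩ := MulAction.exists_smul_eq G P S
  have hS : ((g • P : Sylow 2 G) : Subgroup G) = (P : Subgroup G).map (MulAut.conj g).toMonoidHom := by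
    rw [Sylow.coe_subgroup_smul]; rfl
  constructor
  · rw [hS]
    apply le_antisymm
    · intro x hx
      refine ⟨g⁻¹ * x * g, ?_, ?_⟩
      · rw [SetLike.mem_coe, ← hCP, Subgroup.mem_centralizer_iff]
        intro y hy
        have := Subgroup.mem_centralizer_iff.1 hx (g * y * g⁻¹) ⟨y, hy, rfl⟩
        calc y * (g⁻¹ * x * g) = g⁻¹ * ((g * y * g⁻¹) * x) * g := by group
          _ = _ := by rw [this]; group
      · show g * (g⁻¹ * x * g) * g⁻¹ = x
        group
    · rintro _ ⟨x, hx, rfl⟩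
      rw [Subgroup.mem_centralizer_iff]
      rintro _ ⟨y, hy, rfl⟩
      show (g * y * g⁻¹) * (g * x * g⁻¹) = (g * x * g⁻¹) * (g * y * g⁻¹)
      have := hPcomm y hy x hx
      calc (g * y * g⁻¹) * (g * x * g⁻¹) = g * (y * x) * g⁻¹ := by group
        _ = _ := by rw [this]; group
  · rw [hS]
    have : Subgroup.normalizer (((P : Subgroup G).map (MulAut.conj g).toMonoidHom : Subgroup G) : Set G) =
        (Subgroup.normalizer ((P : Subgroup G) : Set G)).map (MulAut.conj g).toMonoidHom := by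
      ext x
      rw [Subgroup.mem_normalizer_iff]
      constructor
      · intro h
        refine ⟨g⁻¹ * x * g, ?_, ?_⟩
        · rw [SetLike.mem_coe, Subgroup.mem_normalizer_iff]
          intro y
          have h1 := h (g * y * g⁻¹)
          have e1 : g * y * g⁻¹ ∈ (P : Subgroup G).map (MulAut.conj g).toMonoidHom ↔ y ∈ (P : Subgroup G) := by
            constructor
            · rintro ⟨z, hz, hzy⟩
              have : z = y := (MulAut.conj g).injective hzy
              rwa [← this]
            · intro hy; exact ⟨y, hy, rfl⟩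
          have e2 : x * (g * y * g⁻¹) * x⁻¹ ∈ (P : Subgroup G).map (MulAut.conj g).toMonoidHom ↔ g⁻¹ * x * g * y * (g⁻¹ * x * g)⁻¹ ∈ (P : Subgroup G) := by
            constructor
            · rintro ⟨z, hz, hzy⟩
              have hzy' : g * z * g⁻¹ = x * (g * y * g⁻¹) * x⁻¹ := hzy
              have : z = g⁻¹ * x * g * y * (g⁻¹ * x * g)⁻¹ := by
                calc z = g⁻¹ * (g * z * g⁻¹) * g := by group
                  _ = _ := by rw [hzy']; group
              rwa [← this]
            · intro hy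
              refine ⟨_, hy, ?_⟩
              show g * (g⁻¹ * x * g * y * (g⁻¹ * x * g)⁻¹) * g⁻¹ = _
              group
          rw [e1, e2] at h1
          exact h1
        · show g * (g⁻¹ * x * g) * g⁻¹ = x
          group
      · rintro ⟨z, hz, rfl⟩ y
        rw [SetLike.mem_coe, Subgroup.mem_normalizer_iff] at hz
        show y ∈ _ ↔ (g * z * g⁻¹) * y * (g * z * g⁻¹)⁻¹ ∈ _
        have h1 := hz (g⁻¹ * y * g)
        have e1 : ∀ w : G, w ∈ (P : Subgroup G).map (MulAut.conj g).toMonoidHom ↔ g⁻¹ * w * g ∈ (P : Subgroup G) := by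
          intro w
          constructor
          · rintro ⟨v, hv, rfl⟩
            show g⁻¹ * (g * v * g⁻¹) * g ∈ _
            have : g⁻¹ * (g * v * g⁻¹) * g = v := by group
            rwa [this]
          · intro hw
            exact ⟨_, hw, by show g * (g⁻¹ * w * g) * g⁻¹ = w; group⟩
        rw [e1, e1, h1]
        have : z * (g⁻¹ * y * g) * z⁻¹ = g⁻¹ * (g * z * g⁻¹ * y * (g * z * g⁻¹)⁻¹) * g := by group
        rw [this]
    rw [this, Subgroup.card_map_of_injective (MulAut.conj g).injective]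
    exact hNP

end fin

end Cfsg.Agent.H5.Ree
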