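import Mathlib
import Cfsg.Agent.H5.Ree8
import Cfsg.Agent.H5.Ree9
set_option autoImplicit false
set_option maxHeartbeats 400000

/-! Small Ree groups: Sylow 2-subgroups. -/

namespace Cfsg.Agent.H5.Ree
open Cfsg.Lie Matrix Cfsg Cfsg.Agent.H6 Cfsg.Agent.H6.WG2

theorem q_mod (m : ℕ) : ∃ j, 3 ^ (2 * m + 1) = 8 * j + 3 := by
  induction m with
  | zero => exact ⟨0, rfl⟩
  | succ m ih =>
    obtain ⟨j, hj⟩ := ih
    refine ⟨9 * j + 3, ?_⟩
    have : 3 ^ (2 * (m + 1) + 1) = 9 * 3 ^ (2 * m + 1) := by ring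
    rw [this, hj]
    ring

section
variable {K : Type*} [Field K] [Fintype K] {m : ℕ}

theorem card_odd (hK : Fintype.card K = 3 ^ (2 * m + 1)) : ∃ k, Odd k ∧ Nat.card ↥(twistedG2 K (3 ^ m)) = 8 * k := by
  obtain ⟨σ, h⟩ := exists_ctx hK
  have hf := fl_of_card hK
  obtain ⟨j, hj⟩ := q_mod m
  refine ⟨(8 * j + 3) ^ 3 * (4 * j + 1) * ((2 * j + 1) * (64 * j ^ 2 + 40 * j + 7)), ?_, ?_⟩
  · refine Odd.mul (Odd.mul (Odd.pow ⟨4 * j + 1, by ring⟩) ⟨2 * j, by ring⟩) (Odd.mul ⟨j, rfl⟩ ⟨32 * j ^ 2 + 20 * j + 3, by ring⟩)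
  · rw [card_group h hf hK, hj, show 8 * j + 3 - 1 = 8 * j + 2 by omega]
    ring

theorem card_psl (hK : Fintype.card K = 3 ^ (2 * m + 1)) : ∃ k, Odd k ∧ Nat.card (ProjectiveSpecialLinearGroup (Fin 2) K) = 4 * k := by
  obtain ⟨j, hj⟩ := q_mod m
  have h1 := Cfsg.Agent.H5.card_PSL2 (F := K) hK
  rw [hj] at h1
  have h2 : Nat.gcd 2 (8 * j + 3 - 1) = 2 := by
    apply Nat.gcd_eq_left
    omega
  have h3 : (8 * j + 3) ^ 2 - 1 = 8 * ((4 * j + 1) * (2 * j + 1)) := by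
    have : (8 * j + 3) ^ 2 = 8 * ((4 * j + 1) * (2 * j + 1)) + 1 := by ring
    rw [this]; rfl
  rw [h2, h3] at h1
  refine ⟨(8 * j + 3) * ((4 * j + 1) * (2 * j + 1)), ?_, ?_⟩
  · exact Odd.mul ⟨4 * j + 1, by ring⟩ (Odd.mul ⟨2 * j, by ring⟩ ⟨j, rfl⟩)
  · apply Nat.eq_of_mul_eq_mul_left (by norm_num : 0 < 2)
    rw [h1]; ring

theorem exists_klein (hK : Fintype.card K = 3 ^ (2 * m + 1)) : ∃ V : Subgroup (ProjectiveSpecialLinearGroup (Fin 2) K), IsKleinFour V ∧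
    Subgroup.centralizer (V : Set (ProjectiveSpecialLinearGroup (Fin 2) K)) = V ∧
    Nat.card ↥(Subgroup.normalizer (V : Set (ProjectiveSpecialLinearGroup (Fin 2) K))) = 12 := by
  have hf := fl_of_card hK
  have h2 := two_ne hf
  have h3 := Cfsg.Agent.H5.psl_klein_count (F := K) h2
  obtain ⟨k, hk, h4⟩ := card_psl hK
  have h5 : 0 < Nat.card {V : Subgroup (ProjectiveSpecialLinearGroup (Fin 2) K) // IsKleinFour V} := by
    rcases Nat.eq_zero_or_pos (Nat.card {V : Subgroup (ProjectiveSpecialLinearGroup (Fin 2) K) // IsKleinFour V}) with h6 | h6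
    · rw [h6, mul_zero] at h3
      have : 0 < Nat.card (ProjectiveSpecialLinearGroup (Fin 2) K) := Nat.card_pos
      omega
    · exact h6
  obtain ⟨V, hV⟩ := (Nat.card_pos_iff.1 h5).1
  refine ⟨V, hV, Cfsg.Agent.H5.psl_klein_cent h2 V hV, ?_⟩
  rcases Cfsg.Agent.H5.card_normalizer_klein' h3 (fun V hV => Cfsg.Agent.H5.psl_klein_cent h2 V hV) hV with h6 | h6
  · exact h6
  · exfalso
    have h7 : Nat.card ↥(Subgroup.normalizer (V : Set (ProjectiveSpecialLinearGroup (Fin 2) K))) ∣ _ := Subgroup.card_subgroup_dvd_card _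
    rw [h6, h4] at h7
    have h8 : 4 * 2 ∣ 4 * k := (show 4 * 2 ∣ 24 by norm_num).trans h7
    have h9 := Nat.dvd_of_mul_dvd_mul_left (by norm_num) h8
    exact (Nat.not_even_iff_odd.2 hk) (even_iff_two_dvd.2 h9)

theorem ree_cent_inv (hK : Fintype.card K = 3 ^ (2 * m + 1))
    (a : ↥(twistedG2 K (3 ^ m))) (haH : (a : GL chevG2.Idx K) ∈ chevG2.diagonalSubgroup K) (ha1 : a ≠ 1) (ha2 : a * a = 1) :
    Nonempty (↥(Subgroup.centralizer {a}) ≃* Multiplicative (ZMod 2) × Matrix.ProjectiveSpecialLinearGroup (Fin 2) K) ∧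
      ∀ S : Sylow 2 ↥(twistedG2 K (3 ^ m)), Nat.card S = 8 ∧ ∀ x ∈ S, x * x = 1 := by
  obtain ⟨σ, h⟩ := exists_ctx hK
  have hf := fl_of_card hK
  haveI := finite_ree hK h hf
  obtain ⟨E, hE⟩ := cent_equiv hK a (inv_eq hK h hf a haH ha1 ha2)
  refine ⟨⟨E⟩, fun S => ?_⟩
  obtain ⟨k, hk, hG⟩ := card_odd hK
  obtain ⟨V, hV, hVC, hVN⟩ := exists_klein hK
  haveI := hV
  exact sylow_facts E (V := V) hk hG S

theorem ree_sylow_norm (hm : 1 ≤ m) (hK : Fintype.card K = 3 ^ (2 * m + 1))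
    (S : Sylow 2 ↥(twistedG2 K (3 ^ m))) :
    Subgroup.centralizer ((S : Subgroup ↥(twistedG2 K (3 ^ m))) : Set ↥(twistedG2 K (3 ^ m))) = S ∧
      Nat.card (Subgroup.normalizer ((S : Subgroup ↥(twistedG2 K (3 ^ m))) : Set ↥(twistedG2 K (3 ^ m)))) = 168 := by
  obtain ⟨σ, h⟩ := exists_ctx hK
  have hf := fl_of_card hK
  haveI := finite_ree hK h hf
  let a : ↥(twistedG2 K (3 ^ m)) := ⟨hh K (3 ^ m) (-1), hh_neg_one_mem hf⟩
  obtain ⟨E, hE⟩ := cent_equiv hK a rfl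
  obtain ⟨k, hk, hG⟩ := card_odd hK
  obtain ⟨V, hV, hVC, hVN⟩ := exists_klein hK
  haveI := hV
  exact sylow_norm E hE (V := V) hk hG (perfect h hf hm rfl hK) hVC hVN S

end

end Cfsg.Agent.H5.Ree
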