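import Mathlib
import Cfsg.Agent.H5.Ree10
set_option autoImplicit false
set_option maxHeartbeats 400000

/-! Elliptic centralisers in `PSL₂(q)`. -/

namespace Cfsg.Agent.H5.Ree
open Matrix Cfsg.Agent.H16 Cfsg.Agent.H5

section
variable {F : Type*} [Field F] [Fintype F]

local notation "SL₂" => Matrix.SpecialLinearGroup (Fin 2) F
local notation "M₂" => Matrix (Fin 2) (Fin 2) F
local notation "PG" => Matrix.ProjectiveSpecialLinearGroup (Fin 2) F
local notation "π'" => QuotientGroup.mk' (Subgroup.center (Matrix.SpecialLinearGroup (Fin 2) F))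

omit [Fintype F] in
theorem eigen_pow {M : M₂} (hd : M 0 0 * M 1 1 - M 0 1 * M 1 0 = 1) {c : F} (hc : c ^ 2 - c * (M 0 0 + M 1 1) + 1 = 0) {p : ℕ} (hM : M ^ p = 1) :
    c ^ p = 1 := by
  have hdet : (M - c • (1 : M₂)).det = 0 := by
    rw [det_fin_two]
    show (M 0 0 - c * 1) * (M 1 1 - c * 1) - (M 0 1 - c * 0) * (M 1 0 - c * 0) = 0
    linear_combination hc + hd
  obtain ⟨v, hv, hv2⟩ := Matrix.exists_mulVec_eq_zero_iff.2 hdet
  have hxv : M *ᵥ v = c • v := by
    rw [Matrix.sub_mulVec, Matrix.smul_mulVec, Matrix.one_mulVec, sub_eq_zero] at hv2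
    exact hv2
  have hpow : ∀ n : ℕ, (M ^ n) *ᵥ v = c ^ n • v := by
    intro n
    induction n with
    | zero => simp
    | succ n ih => rw [pow_succ, ← mulVec_mulVec, hxv, mulVec_smul, ih, smul_smul, pow_succ, mul_comm]
  have h1 := hpow p
  rw [hM, one_mulVec] at h1
  obtain ⟨i, hi⟩ := Function.ne_iff.1 hv
  have h5 := congrFun h1 i
  rw [Pi.smul_apply, smul_eq_mul] at h5
  rw [Pi.zero_apply] at hi
  exact (mul_right_cancel₀ hi (by rw [one_mul, ← h5])).symm

omit [Fintype F] in
theorem unip_cube (h3 : (3 : F) = 0) {M : M₂} (hd : M 0 0 * M 1 1 - M 0 1 * M 1 0 = 1) (hc : M 0 0 + M 1 1 = 2) : M ^ 3 = 1 := by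
  have h7 : (M - 1) * (M - 1) = 0 := by
    ext i j
    rw [Matrix.mul_apply, Fin.sum_univ_two]
    fin_cases i <;> fin_cases j
    · show (M 0 0 - 1) * (M 0 0 - 1) + (M 0 1 - 0) * (M 1 0 - 0) = 0
      linear_combination (M 0 0) * hc - hd
    · show (M 0 0 - 1) * (M 0 1 - 0) + (M 0 1 - 0) * (M 1 1 - 1) = 0
      linear_combination (M 0 1) * hc
    · show (M 1 0 - 0) * (M 0 0 - 1) + (M 1 1 - 1) * (M 1 0 - 0) = 0
      linear_combination (M 1 0) * hc
    · show (M 1 0 - 0) * (M 0 1 - 0) + (M 1 1 - 1) * (M 1 1 - 1) = 0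
      linear_combination (M 1 1) * hc - hd
  have e1 : M = 1 + (M - 1) := by abel
  have h33 : ∀ y : M₂, y + y + y = 0 := by
    intro y
    ext i j
    show y i j + y i j + y i j = 0
    linear_combination (y i j) * h3
  generalize M - 1 = y at h7 e1
  rw [e1]
  have : (1 + y) ^ 3 = 1 + (y + y + y) + (3 : ℕ) • (y * y) + y * y * y := by noncomm_ring
  rw [this, h33, h7]; simp

/-- no eigenvalue for an element of prime order dividing `q + 1` -/
theorem no_eig (h3 : (3 : F) = 0) {p : ℕ} (hp : p.Prime) (hp2 : p ≠ 2) (hpq : p ∣ Fintype.card F + 1) {x : SL₂} (hx : x ^ p = 1) (hx1 : x ≠ 1)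
    (c : F) : c ^ 2 - c * (x : M₂).trace + 1 ≠ 0 := by
  intro hc
  have hd := Cfsg.Agent.H22.sl_det x
  have htr : (x : M₂).trace = (x : M₂) 0 0 + (x : M₂) 1 1 := trace_fin_two _
  rw [htr] at hc
  have h2 : ((x : M₂) ^ p) = 1 := by
    have := congrArg (fun y : SL₂ => (y : M₂)) hx
    simpa using this
  have h4 := eigen_pow hd hc h2
  have hc0 : c ≠ 0 := by rintro rfl; rw [zero_pow hp.ne_zero] at h4; exact zero_ne_one h4
  have h5 : c ^ (Fintype.card F - 1) = 1 := FiniteField.pow_card_sub_one_eq_one c hc0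
  have h6 : c = 1 := by
    have h7 : orderOf c ∣ p := orderOf_dvd_of_pow_eq_one h4
    have h8 : orderOf c ∣ Fintype.card F - 1 := orderOf_dvd_of_pow_eq_one h5
    rcases (Nat.dvd_prime hp).1 h7 with h9 | h9
    · exact orderOf_eq_one_iff.1 h9
    · exfalso
      rw [h9] at h8
      have h10 : p ∣ (Fintype.card F + 1) - (Fintype.card F - 1) := Nat.dvd_sub hpq h8
      have h11 : (Fintype.card F + 1) - (Fintype.card F - 1) = 2 := by have := Fintype.one_lt_card (α := F); omega
      rw [h11] at h10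
      exact hp2 ((Nat.prime_dvd_prime_iff_eq hp Nat.prime_two).1 h10)
  subst h6
  have h8 : (x : M₂) ^ 3 = 1 := unip_cube h3 hd (by linear_combination -hc)
  have h9 : x ^ 3 = 1 := by
    apply Subtype.ext
    simpa using h8
  have h10 : orderOf x ∣ 3 := orderOf_dvd_of_pow_eq_one h9
  have h11 : orderOf x ∣ p := orderOf_dvd_of_pow_eq_one hx
  have h12 : orderOf x ≠ 1 := fun h => hx1 (orderOf_eq_one_iff.1 h)
  have h13 : orderOf x = 3 := ((Nat.dvd_prime Nat.prime_three).1 h10).resolve_left h12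
  have h14 : orderOf x = p := ((Nat.dvd_prime hp).1 h11).resolve_left h12
  have h15 : 3 ∣ Fintype.card F := by
    haveI : CharP F 3 := by
      rw [CharP.charP_iff_prime_eq_zero Nat.prime_three]; exact_mod_cast h3
    exact (CharP.cast_eq_zero_iff F 3 _).1 (by simp)
  rw [← h14, h13] at hpq
  have := (Nat.dvd_add_right h15).1 hpq
  exact absurd this (by norm_num)

omit [Fintype F] in
theorem center_eq' (g : SL₂) : π' g = 1 ↔ g = 1 ∨ g = -1 := by
  rw [QuotientGroup.mk'_apply, QuotientGroup.eq_one_iff, mem_cen_iff]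
  constructor
  · rintro (h | h)
    · left; exact Subtype.ext h
    · right; exact Subtype.ext h
  · rintro (h | h)
    · left; rw [h]; rfl
    · right; rw [h]; rfl

/-- centralisers of elliptic elements of odd prime order -/
theorem psl_cent_ell (h3 : (3 : F) = 0) {p : ℕ} (hp : p.Prime) (hp2 : p ≠ 2) (hpq : p ∣ Fintype.card F + 1) (z : PG) (hz : z ^ p = 1) (hz1 : z ≠ 1) :
    2 * Nat.card ↥(Subgroup.centralizer ({z} : Set PG)) = Fintype.card F + 1 ∧
      ∀ u ∈ Subgroup.centralizer ({z} : Set PG), ∀ v ∈ Subgroup.centralizer ({z} : Set PG), u * v = v * u := by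
  have h2 : (2 : F) ≠ 0 := by
    intro h
    have : (1 : F) = 0 := by linear_combination h3 - h
    exact one_ne_zero this
  have hodd : Odd p := hp.odd_of_ne_two hp2
  obtain ⟨x, hxp, rfl⟩ : ∃ x : SL₂, x ^ p = 1 ∧ π' x = z := by
    obtain ⟨x, rfl⟩ := QuotientGroup.mk'_surjective _ z
    rw [← map_pow, center_eq'] at hz
    rcases hz with h | h
    · exact ⟨x, h, rfl⟩
    · refine ⟨-x, by rw [hodd.neg_pow, h, neg_neg], ?_⟩
      have e : -x = (-1) * x := by rw [neg_one_mul]
      rw [e, map_mul, (center_eq' _).2 (Or.inr rfl), one_mul]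
  have hx1 : x ≠ 1 := by rintro rfl; exact hz1 (map_one _)
  have hne := no_eig h3 hp hp2 hpq hxp hx1
  have hns : ¬ IsScal (x : M₂) := not_isScal_of_noEig (by rw [x.2]; exact hne)
  have hC : Subgroup.centralizer ({π' x} : Set PG) = (Subgroup.centralizer ({x} : Set SL₂)).map π' := by
    ext y
    constructor
    · intro hy
      obtain ⟨g, rfl⟩ := QuotientGroup.mk'_surjective _ y
      rw [Subgroup.mem_centralizer_singleton_iff] at hy
      refine ⟨g, ?_, rfl⟩
      rw [SetLike.mem_coe, Subgroup.mem_centralizer_singleton_iff]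
      have h1 : π' (g * x * g⁻¹ * x⁻¹) = 1 := by
        rw [map_mul, map_mul, map_mul, hy, map_inv, map_inv, mul_inv_cancel_right, mul_inv_cancel]
      rcases (center_eq' _).1 h1 with h4 | h4
      · rw [mul_inv_eq_one, mul_inv_eq_iff_eq_mul] at h4
        exact h4
      · exfalso
        rw [mul_inv_eq_iff_eq_mul, neg_one_mul] at h4
        have h5 : (g * x * g⁻¹) ^ p = 1 := by rw [conj_pow, hxp]; group
        rw [h4, hodd.neg_pow, hxp] at h5
        have h6 : (-1 : F) = 1 := by
          have := congrArg (fun y : SL₂ => (y : M₂) 0 0) h5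
          simpa using this
        exact h2 (by linear_combination -h6)
    · rintro ⟨g, hg, rfl⟩
      rw [SetLike.mem_coe, Subgroup.mem_centralizer_singleton_iff] at hg
      rw [Subgroup.mem_centralizer_singleton_iff, ← map_mul, hg, map_mul]
  constructor
  · rw [hC, ← card_map_pi h2 (center_le_cent x), card_cent_sl2_ell x hne]
  · rw [hC]
    rintro _ ⟨g, hg, rfl⟩ _ ⟨k, hk, rfl⟩
    rw [← map_mul, cent_comm hns hg hk, map_mul]

end
end Cfsg.Agent.H5.Ree
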