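import Mathlib
set_option autoImplicit false
set_option maxHeartbeats 400000

/-! Centralisers containing few involutions. -/

namespace Cfsg.Agent.H5.Ree

section tc
variable {G : Type*} [Group G] [Finite G]

theorem pow_conj' {g b : G} {n : ℕ} (h : g ^ n * b = b * g ^ n) (hc : Nat.Coprime n (orderOf g)) : g * b = b * g := by
  obtain ⟨m, hm⟩ := exists_pow_eq_self_of_coprime hc
  have h1 : Commute (g ^ n) b := h
  have h2 : Commute ((g ^ n) ^ m) b := h1.pow_left m
  rw [hm] at h2
  exact h2

/-- two involutions of a centraliser -/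
theorem inv_pair {b c : G} (hb : b * b = 1) (hc : c * c = 1) :
    (∃ t, t ≠ 1 ∧ t * t = 1 ∧ (∃ n : ℕ, t = (b * c) ^ n) ∧ t * b = b * t ∧ t * c = c * t) ∨
      (∃ n : ℕ, (b * c) ^ n * b * ((b * c) ^ n)⁻¹ = c) := by
  have hbi : b⁻¹ = b := inv_eq_of_mul_eq_one_left hb
  have hci : c⁻¹ = c := inv_eq_of_mul_eq_one_left hc
  have h1 : b * (b * c) * b⁻¹ = (b * c)⁻¹ := by
    rw [hbi, mul_inv_rev, hbi, hci, ← mul_assoc, hb, one_mul]
  have h2 : ∀ n : ℕ, b * (b * c) ^ n * b⁻¹ = ((b * c) ^ n)⁻¹ := by
    intro n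
    rw [← conj_pow, h1, inv_pow]
  rcases Nat.even_or_odd (orderOf (b * c)) with he | ho
  · left
    obtain ⟨j, hj⟩ := he
    have hpos := orderOf_pos (b * c)
    have ht : (b * c) ^ j * (b * c) ^ j = 1 := by rw [← pow_add, ← hj, pow_orderOf_eq_one]
    have htb : (b * c) ^ j * b = b * (b * c) ^ j := by
      have h3 := h2 j
      have h4 : ((b * c) ^ j)⁻¹ = (b * c) ^ j := inv_eq_of_mul_eq_one_left ht
      rw [h4, mul_inv_eq_iff_eq_mul] at h3
      exact h3.symm
    have htz : (b * c) ^ j * (b * c) = (b * c) * (b * c) ^ j := by rw [← pow_succ, ← pow_succ']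
    refine ⟨(b * c) ^ j, ?_, ht, ⟨j, rfl⟩, htb, ?_⟩
    · intro h
      have := orderOf_le_of_pow_eq_one (by omega : 0 < j) h
      omega
    · have e : c = b⁻¹ * (b * c) := by group
      have h5 : Commute ((b * c) ^ j) (b⁻¹ * (b * c)) := Commute.mul_right (Commute.inv_right htb) htz
      rw [← e] at h5
      exact h5
  · right
    obtain ⟨j, hj⟩ := ho
    refine ⟨j, ?_⟩
    have h3 := h2 j
    have h4 : (b * c) ^ j * b * ((b * c) ^ j)⁻¹ = (b * c) ^ j * (b * ((b * c) ^ j)⁻¹ * b⁻¹) * b := by group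
    have h5 : b * ((b * c) ^ j)⁻¹ * b⁻¹ = (b * c) ^ j := by
      rw [← conj_inv, h3, inv_inv]
    rw [h4, h5, ← pow_add]
    have h6 : (b * c) ^ (j + j) = (b * c)⁻¹ := by
      rw [eq_inv_iff_mul_eq_one, ← pow_succ, show j + j + 1 = 2 * j + 1 by ring, ← hj, pow_orderOf_eq_one]
    rw [h6, mul_inv_rev, hbi, hci, mul_assoc, hb, mul_one]

variable {k : ℕ} (hk : Odd k) (hab : ∀ P : Subgroup G, IsPGroup 2 P → ∀ x ∈ P, ∀ y ∈ P, x * y = y * x)
  (h4 : ∀ g : G, orderOf g ≠ 4) {x : G} (h3 : ∀ y, y * x = x * y → orderOf y ≠ 3)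
  (hT : ∀ b, b ≠ 1 → b * b = 1 → b * x = x * b → Nat.card ↥(Subgroup.centralizer {x} ⊓ Subgroup.centralizer {b}) = 4 * k ∧
    ∀ u ∈ Subgroup.centralizer {x} ⊓ Subgroup.centralizer {b}, ∀ v ∈ Subgroup.centralizer {x} ⊓ Subgroup.centralizer {b}, u * v = v * u)

theorem mem_T {x b g : G} : g ∈ Subgroup.centralizer {x} ⊓ Subgroup.centralizer {b} ↔ g * x = x * g ∧ g * b = b * g := by
  rw [Subgroup.mem_inf, Subgroup.mem_centralizer_singleton_iff, Subgroup.mem_centralizer_singleton_iff]

include hT in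
theorem T_eq {b c : G} (hb1 : b ≠ 1) (hb2 : b * b = 1) (hbx : b * x = x * b) (hc1 : c ≠ 1) (hc2 : c * c = 1) (hcx : c * x = x * c)
    (hbc : b * c = c * b) : Subgroup.centralizer {x} ⊓ Subgroup.centralizer {b} = Subgroup.centralizer {x} ⊓ Subgroup.centralizer {c} := by
  obtain ⟨h1, h2⟩ := hT b hb1 hb2 hbx
  obtain ⟨h5, h6⟩ := hT c hc1 hc2 hcx
  have hcb : c ∈ Subgroup.centralizer {x} ⊓ Subgroup.centralizer {b} := mem_T.2 ⟨hcx, hbc.symm⟩
  apply Subgroup.eq_of_le_of_card_ge
  · intro g hg
    exact mem_T.2 ⟨(mem_T.1 hg).1, h2 g hg c hcb⟩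
  · rw [h1, h5]

include hk hab h4 h3 hT in
theorem not_conj {a b c g : G} (ha1 : a ≠ 1) (ha2 : a * a = 1) (hax : a * x = x * a)
    (hb1 : b ≠ 1) (hb2 : b * b = 1) (hb : b ∈ Subgroup.centralizer {x} ⊓ Subgroup.centralizer {a})
    (hc1 : c ≠ 1) (hc2 : c * c = 1) (hc : c ∈ Subgroup.centralizer {x} ⊓ Subgroup.centralizer {a})
    (hg : g * x = x * g) (hgb : g * b * g⁻¹ = c) : b = c := by
  by_contra hne
  obtain ⟨hcard, hcomm⟩ := hT a ha1 ha2 hax
  have hbc := hcomm b hb c hc
  have hbx := (mem_T.1 hb).1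
  have hcx := (mem_T.1 hc).1
  have hTb := T_eq hT hb1 hb2 hbx ha1 ha2 hax ((mem_T.1 hb).2)
  have hTc := T_eq hT hc1 hc2 hcx ha1 ha2 hax ((mem_T.1 hc).2)
  -- `g` normalises `T`
  have hgT : ∀ t, t ∈ Subgroup.centralizer {x} ⊓ Subgroup.centralizer {a} → g * t * g⁻¹ ∈ Subgroup.centralizer {x} ⊓ Subgroup.centralizer {a} := by
    intro t ht
    have ht' := ht
    rw [← hTb] at ht'
    rw [← hTc]
    obtain ⟨h5, h6⟩ := mem_T.1 ht'
    refine mem_T.2 ⟨?_, ?_⟩
    · have c1 : Commute g x := hg
      have c2 : Commute t x := h5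
      exact ((c1.mul_left c2).mul_left c1.inv_left)
    · rw [← hgb]
      calc g * t * g⁻¹ * (g * b * g⁻¹) = g * (t * b) * g⁻¹ := by group
        _ = g * (b * t) * g⁻¹ := by rw [h6]
        _ = _ := by group
  -- involutions of `T`
  have hinv : ∀ t, t ∈ Subgroup.centralizer {x} ⊓ Subgroup.centralizer {a} → t ≠ 1 → t * t = 1 → t = b ∨ t = c ∨ t = b * c := by
    intro t ht ht1 ht2
    by_contra hcon
    push Not at hcon
    obtain ⟨n1, n2, n3⟩ := hcon
    have htb := hcomm t ht b hb
    have htc := hcomm t ht c hc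
    -- a subgroup of order eight
    let φ : Multiplicative (ZMod 2 × ZMod 2 × ZMod 2) → G := fun z =>
      (if z.toAdd.1 = 0 then 1 else t) * ((if z.toAdd.2.1 = 0 then 1 else b) * (if z.toAdd.2.2 = 0 then 1 else c))
    let S : Subgroup G :=
      { carrier := {y | y ∈ Subgroup.centralizer {x} ⊓ Subgroup.centralizer {a} ∧ y * y = 1}
        one_mem' := ⟨one_mem _, one_mul 1⟩
        mul_mem' := by
          rintro y z ⟨hy, hy2⟩ ⟨hz, hz2⟩
          refine ⟨mul_mem hy hz, ?_⟩
          have := hcomm y hy z hz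
          calc y * z * (y * z) = y * (z * y) * z := by group
            _ = y * (y * z) * z := by rw [this]
            _ = (y * y) * (z * z) := by group
            _ = 1 := by rw [hy2, hz2, one_mul]
        inv_mem' := by
          rintro y ⟨hy, hy2⟩
          refine ⟨inv_mem hy, ?_⟩
          rw [← mul_inv_rev, hy2, inv_one] }
    have hS2 : IsPGroup 2 S := by
      intro y
      refine ⟨1, ?_⟩
      rw [pow_one, pow_two]
      exact Subtype.ext y.2.2
    obtain ⟨n, hn⟩ := IsPGroup.iff_card.1 hS2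
    have hSle : S ≤ Subgroup.centralizer {x} ⊓ Subgroup.centralizer {a} := fun y hy => hy.1
    have hdvd : 2 ^ n ∣ 4 * k := by
      rw [← hn, ← hcard]
      exact Subgroup.card_dvd_of_le hSle
    have hn2 : n ≤ 2 := by
      by_contra hlt
      push Not at hlt
      have h8 : 2 ^ 3 ∣ 4 * k := (pow_dvd_pow 2 hlt).trans hdvd
      have h9 : 2 ∣ k := by
        have : 4 * 2 ∣ 4 * k := by simpa using h8
        exact Nat.dvd_of_mul_dvd_mul_left (by norm_num) this
      exact (Nat.not_even_iff_odd.2 hk) (even_iff_two_dvd.2 h9)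
    have hcard4 : Nat.card S ≤ 4 := by
      rw [hn]
      calc 2 ^ n ≤ 2 ^ 2 := Nat.pow_le_pow_right (by norm_num) hn2
        _ = 4 := by norm_num
    have hbcne : b * c ≠ 1 := by
      intro h
      apply hne
      calc b = b * (c * c) := by rw [hc2, mul_one]
        _ = (b * c) * c := by group
        _ = c := by rw [h, one_mul]
    have hbS : b ∈ S := ⟨hb, hb2⟩
    have hcS : c ∈ S := ⟨hc, hc2⟩
    have htS : t ∈ S := ⟨ht, ht2⟩
    classical
    have hsub : (({1, b, c, b * c, t} : Finset G) : Set G) ⊆ (S : Set G) := by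
      intro y hy
      simp only [Finset.coe_insert, Finset.coe_singleton, Set.mem_insert_iff, Set.mem_singleton_iff] at hy
      rcases hy with rfl | rfl | rfl | rfl | rfl
      · exact one_mem S
      · exact hbS
      · exact hcS
      · exact mul_mem hbS hcS
      · exact htS
    have h5 : ({1, b, c, b * c, t} : Finset G).card = 5 := by
      rw [Finset.card_insert_of_notMem, Finset.card_insert_of_notMem, Finset.card_insert_of_notMem, Finset.card_insert_of_notMem, Finset.card_singleton]
      · rw [Finset.mem_singleton]; exact fun h => n3 h.symm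
      · simp only [Finset.mem_insert, Finset.mem_singleton, not_or]
        refine ⟨fun h => hb1 ?_, fun h => n2 h.symm⟩
        exact (mul_eq_right.1 h.symm)
      · simp only [Finset.mem_insert, Finset.mem_singleton, not_or]
        refine ⟨hne, fun h => hc1 ?_, fun h => n1 h.symm⟩
        exact (mul_eq_left.1 h.symm)
      · simp only [Finset.mem_insert, Finset.mem_singleton, not_or]
        exact ⟨fun h => hb1 h.symm, fun h => hc1 h.symm, fun h => hbcne h.symm, fun h => ht1 h.symm⟩
    have h6 : (5 : ℕ) ≤ Nat.card S := by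
      have h7 : Nat.card ↥(({1, b, c, b * c, t} : Finset G) : Set G) ≤ Nat.card ↥(S : Set G) := Nat.card_mono (Set.toFinite _) hsub
      rw [Nat.card_coe_set_eq, Set.ncard_coe_finset, h5] at h7
      exact h7
    omega
  have hinj : ∀ u v : G, g * u * g⁻¹ = g * v * g⁻¹ → u = v := fun u v h => by
    have := mul_right_cancel h
    exact mul_left_cancel this
  have hgc1 : g * c * g⁻¹ ≠ 1 := fun h => hc1 (hinj c 1 (by rw [h]; group))
  have hgc2 : (g * c * g⁻¹) * (g * c * g⁻¹) = 1 := by
    calc (g * c * g⁻¹) * (g * c * g⁻¹) = g * (c * c) * g⁻¹ := by group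
      _ = 1 := by rw [hc2]; group
  have hord3 : ¬ 3 ∣ orderOf g := by
    intro hd
    obtain ⟨j, hj⟩ := hd
    have hpos := orderOf_pos g
    have h5 : orderOf (g ^ j) = 3 := by
      rw [orderOf_pow_of_dvd (by rintro rfl; omega) ⟨3, by rw [hj]; ring⟩, hj]
      exact Nat.mul_div_cancel _ (by rcases j with _ | j; · omega
                                     · omega)
    have c1 : Commute g x := hg
    exact h3 _ (c1.pow_left j) h5
  rcases hinv _ (hgT c hc) hgc1 hgc2 with h5 | h5 | h5
  · -- `g` swaps `b` and `c`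
    -- odd part
    obtain ⟨s, n, hn, hsn⟩ := Nat.exists_eq_two_pow_mul_odd (orderOf_pos g).ne'
    obtain ⟨j, rfl⟩ := hn
    have hg2 : g * g * b * (g * g)⁻¹ = b := by
      calc g * g * b * (g * g)⁻¹ = g * (g * b * g⁻¹) * g⁻¹ := by group
        _ = b := by rw [hgb, h5]
    have hg2' : Commute (g ^ 2) b := by
      rw [pow_two]
      exact mul_inv_eq_iff_eq_mul.1 hg2
    have hgj : Commute (g ^ (2 * j)) b := by rw [pow_mul]; exact hg2'.pow_left j
    set h := g ^ (2 * j + 1) with hh
    have hhb : h * b * h⁻¹ = c := by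
      rw [← hgb, hh, pow_succ']
      calc g * g ^ (2 * j) * b * (g * g ^ (2 * j))⁻¹ = g * (g ^ (2 * j) * b) * (g ^ (2 * j))⁻¹ * g⁻¹ := by group
        _ = g * (b * g ^ (2 * j)) * (g ^ (2 * j))⁻¹ * g⁻¹ := by rw [hgj.eq]
        _ = _ := by group
    have hhc : h * c * h⁻¹ = b := by
      have hcj : Commute (g ^ (2 * j)) c := by
        have hg3 : g * g * c * (g * g)⁻¹ = c := by
          calc g * g * c * (g * g)⁻¹ = g * (g * c * g⁻¹) * g⁻¹ := by group
            _ = c := by rw [h5, hgb]
        have hg3' : Commute (g ^ 2) c := by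
          rw [pow_two]
          exact mul_inv_eq_iff_eq_mul.1 hg3
        rw [pow_mul]; exact hg3'.pow_left j
      rw [← h5, hh, pow_succ']
      calc g * g ^ (2 * j) * c * (g * g ^ (2 * j))⁻¹ = g * (g ^ (2 * j) * c) * (g ^ (2 * j))⁻¹ * g⁻¹ := by group
        _ = g * (c * g ^ (2 * j)) * (g ^ (2 * j))⁻¹ * g⁻¹ := by rw [hcj.eq]
        _ = _ := by group
    have hh2 : h ^ (2 ^ s) = 1 := by
      rw [hh, ← pow_mul, mul_comm, ← hsn, pow_orderOf_eq_one]
    -- the group `V`
    let V : Subgroup G :=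
      { carrier := {y | y = 1 ∨ y = b ∨ y = c ∨ y = b * c}
        one_mem' := Or.inl rfl
        mul_mem' := by
          have e1 : b * (b * c) = c := by rw [← mul_assoc, hb2, one_mul]
          have e2 : (b * c) * b = c := by rw [hbc, mul_assoc, hb2, mul_one]
          have e3 : c * (b * c) = b := by rw [hbc, ← mul_assoc, hc2, one_mul]
          have e4 : (b * c) * c = b := by rw [mul_assoc, hc2, mul_one]
          have e5 : (b * c) * (b * c) = 1 := by rw [← mul_assoc, e2, hc2]
          rintro y z (rfl | rfl | rfl | rfl) (rfl | rfl | rfl | rfl) <;>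
            simp [hb2, hc2, e1, e2, e3, e4, e5, hbc.symm]
        inv_mem' := by
          have i1 : b⁻¹ = b := inv_eq_of_mul_eq_one_left hb2
          have i2 : c⁻¹ = c := inv_eq_of_mul_eq_one_left hc2
          rintro y (rfl | rfl | rfl | rfl)
          · left; exact inv_one
          · right; left; exact i1
          · right; right; left; exact i2
          · right; right; right; rw [mul_inv_rev, i1, i2, hbc] }
    have hVmem : ∀ y, y ∈ V ↔ y = 1 ∨ y = b ∨ y = c ∨ y = b * c := fun y => Iff.rfl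
    have hV2 : IsPGroup 2 V := by
      rintro ⟨y, hy⟩
      refine ⟨1, ?_⟩
      rw [pow_one, pow_two]
      apply Subtype.ext
      show y * y = 1
      rcases hy with rfl | rfl | rfl | rfl
      · exact one_mul 1
      · exact hb2
      · exact hc2
      · calc b * c * (b * c) = b * (c * b) * c := by group
          _ = b * (b * c) * c := by rw [hbc]
          _ = (b * b) * (c * c) := by group
          _ = 1 := by rw [hb2, hc2, one_mul]
    have hZ2 : IsPGroup 2 (Subgroup.zpowers h) := by
      apply IsPGroup.of_card (n := (Nat.log 2 (orderOf h)))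
      obtain ⟨i, -, hi⟩ := (Nat.dvd_prime_pow Nat.prime_two).1 (orderOf_dvd_of_pow_eq_one hh2)
      rw [Nat.card_zpowers, hi, Nat.log_pow (by norm_num)]
    have hnorm : Subgroup.zpowers h ≤ Subgroup.normalizer (V : Set G) := by
      rw [Subgroup.zpowers_le, Subgroup.mem_normalizer_iff]
      have hstep : ∀ y ∈ V, h * y * h⁻¹ ∈ V := by
        rintro y (rfl | rfl | rfl | rfl)
        · left; group
        · right; right; left; exact hhb
        · right; left; exact hhc
        · right; right; right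
          calc h * (b * c) * h⁻¹ = (h * b * h⁻¹) * (h * c * h⁻¹) := by group
            _ = b * c := by rw [hhb, hhc, hbc]
      have hstep' : ∀ y, h * y * h⁻¹ ∈ V → y ∈ V := by
        intro y hy
        rcases hy with h6 | h6 | h6 | h6
        · left
          calc y = h⁻¹ * (h * y * h⁻¹) * h := by group
            _ = 1 := by rw [h6]; group
        · right; right; left
          rw [← hhc] at h6
          exact mul_left_cancel (mul_right_cancel h6)
        · right; left
          rw [← hhb] at h6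
          exact mul_left_cancel (mul_right_cancel h6)
        · right; right; right
          have e : b * c = h * (b * c) * h⁻¹ := by
            calc b * c = c * b := hbc
              _ = (h * b * h⁻¹) * (h * c * h⁻¹) := by rw [hhb, hhc]
              _ = _ := by group
          rw [e] at h6
          exact mul_left_cancel (mul_right_cancel h6)
      intro y
      exact ⟨hstep y, hstep' y⟩
    have hW : IsPGroup 2 (V ⊔ Subgroup.zpowers h : Subgroup G) := IsPGroup.to_sup_of_normal_left' hV2 hZ2 hnorm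
    have h6 := hab _ hW h (Subgroup.mem_sup_right (Subgroup.mem_zpowers h)) b (Subgroup.mem_sup_left (Or.inr (Or.inl rfl)))
    apply hne
    rw [← hhb, h6]; group
  · exact hne (hinj b c (hgb.trans h5.symm))
  · -- order three action
    apply hne
    have hg3 : g ^ 3 * b = b * g ^ 3 := by
      have h6 : g * (g * (g * b * g⁻¹) * g⁻¹) * g⁻¹ = b := by
        rw [hgb, h5]
        calc g * (b * c) * g⁻¹ = (g * b * g⁻¹) * (g * c * g⁻¹) := by group
          _ = c * (b * c) := by rw [hgb, h5]
          _ = b := by rw [hbc, ← mul_assoc, hc2, one_mul]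
      have e3 : g ^ 3 = g * g * g := by rw [pow_succ, pow_two]
      rw [e3]
      calc g * g * g * b = (g * (g * (g * b * g⁻¹) * g⁻¹) * g⁻¹) * (g * g * g) := by group
        _ = _ := by rw [h6]
    have h7 := pow_conj' hg3 ((Nat.Prime.coprime_iff_not_dvd Nat.prime_three).2 hord3)
    rw [← hgb, h7]; group

include hk hab h4 h3 hT in
/-- the centraliser of `x` is the centraliser of `⟨x, a⟩` -/
theorem cent_le_cent {a : G} (ha1 : a ≠ 1) (ha2 : a * a = 1) (hax : a * x = x * a) : Subgroup.centralizer {x} ≤ Subgroup.centralizer {a} := by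
  obtain ⟨hcard, hcomm⟩ := hT a ha1 ha2 hax
  have haT : a ∈ Subgroup.centralizer {x} ⊓ Subgroup.centralizer {a} := mem_T.2 ⟨hax, rfl⟩
  -- another involution
  obtain ⟨b, hb, hb1, hb2, hba⟩ : ∃ b ∈ Subgroup.centralizer {x} ⊓ Subgroup.centralizer {a}, b ≠ 1 ∧ b * b = 1 ∧ b ≠ a := by
    by_contra hcon
    push Not at hcon
    haveI : Fact (Nat.Prime 2) := ⟨Nat.prime_two⟩
    obtain ⟨P, hP⟩ := Sylow.exists_subgroup_card_pow_prime (G := ↥(Subgroup.centralizer {x} ⊓ Subgroup.centralizer {a})) 2 (n := 2)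
      (by rw [hcard]; exact ⟨k, by ring⟩)
    have hall : ∀ y : P, y = 1 ∨ ((y : ↥(Subgroup.centralizer {x} ⊓ Subgroup.centralizer {a})) : G) = a := by
      intro y
      by_cases hy1 : y = 1
      · exact Or.inl hy1
      right
      have h5 : y ^ (2 ^ 2) = 1 := by rw [← hP]; exact pow_card_eq_one'
      obtain ⟨n, hn, hn'⟩ := (Nat.dvd_prime_pow Nat.prime_two).1 (orderOf_dvd_of_pow_eq_one h5)
      have hyo : orderOf (((y : ↥(Subgroup.centralizer {x} ⊓ Subgroup.centralizer {a})) : G)) = orderOf y := by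
        rw [Subgroup.orderOf_coe, Subgroup.orderOf_coe]
      have hn2 : orderOf y ∣ 2 := by
        interval_cases n
        · rw [hn']; norm_num
        · rw [hn']; norm_num
        · exfalso; apply h4 _ (hyo.trans hn')
      have hy2 : (y : ↥(Subgroup.centralizer {x} ⊓ Subgroup.centralizer {a})) * y = 1 := by
        have := orderOf_dvd_iff_pow_eq_one.1 hn2
        rw [pow_two] at this
        exact congrArg Subtype.val this
      exact hcon _ (y : ↥(Subgroup.centralizer {x} ⊓ Subgroup.centralizer {a})).2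
        (fun h => hy1 (Subtype.ext (Subtype.ext h))) (congrArg Subtype.val hy2)
    have h5 : Nat.card P ≤ 2 := by
      classical
      have hinj : Function.Injective (fun y : P => (if y = 1 then (0 : Fin 2) else 1)) := by
        intro y z hyz
        by_cases hy : y = 1
        · by_cases hz : z = 1
          · rw [hy, hz]
          · simp [hy, hz] at hyz
        · by_cases hz : z = 1
          · simp [hy, hz] at hyz
          · exact Subtype.ext (Subtype.ext (((hall y).resolve_left hy).trans ((hall z).resolve_left hz).symm))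
      have := Nat.card_le_card_of_injective _ hinj
      simpa using this
    rw [hP] at h5
    norm_num at h5
  have hbx := (mem_T.1 hb).1
  intro g hg
  rw [Subgroup.mem_centralizer_singleton_iff] at hg ⊢
  have hgx : Commute g x := hg
  have ha'1 : g * a * g⁻¹ ≠ 1 := fun h => ha1 (by
    calc a = g⁻¹ * (g * a * g⁻¹) * g := by group
      _ = 1 := by rw [h]; group)
  have ha'2 : (g * a * g⁻¹) * (g * a * g⁻¹) = 1 := by
    calc (g * a * g⁻¹) * (g * a * g⁻¹) = g * (a * a) * g⁻¹ := by group
      _ = 1 := by rw [ha2]; group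
  have ha'x : (g * a * g⁻¹) * x = x * (g * a * g⁻¹) := by
    have c2 : Commute a x := hax
    exact ((hgx.mul_left c2).mul_left hgx.inv_left)
  have hTb := T_eq hT hb1 hb2 hbx ha1 ha2 hax ((mem_T.1 hb).2)
  have key : g * a * g⁻¹ ∈ Subgroup.centralizer {x} ⊓ Subgroup.centralizer {a} := by
    rcases inv_pair ha'2 hb2 with ⟨t, ht1, ht2, ⟨n, hn⟩, hta, htb⟩ | ⟨n, hn⟩
    · have htx : t * x = x * t := by
        have c1 : Commute (g * a * g⁻¹) x := ha'x
        have c2 : Commute b x := hbx
        rw [hn]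
        exact ((c1.mul_left c2).pow_left n)
      have e1 := T_eq hT ht1 ht2 htx ha'1 ha'2 ha'x hta
      have e2 := T_eq hT ht1 ht2 htx hb1 hb2 hbx htb
      rw [← hTb, ← e2, e1]
      exact mem_T.2 ⟨ha'x, rfl⟩
    · exfalso
      apply hba
      symm
      apply not_conj hk hab h4 h3 hT (g := (g * a * g⁻¹ * b) ^ n * g) ha1 ha2 hax ha1 ha2 haT hb1 hb2 hb
      · have c1 : Commute (g * a * g⁻¹) x := ha'x
        have c2 : Commute b x := hbx
        exact (((c1.mul_left c2).pow_left n).mul_left hgx)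
      · calc (g * a * g⁻¹ * b) ^ n * g * a * ((g * a * g⁻¹ * b) ^ n * g)⁻¹ =
            (g * a * g⁻¹ * b) ^ n * (g * a * g⁻¹) * ((g * a * g⁻¹ * b) ^ n)⁻¹ := by group
          _ = b := hn
  have h5 := not_conj hk hab h4 h3 hT (g := g) ha1 ha2 hax ha1 ha2 haT ha'1 ha'2 key hg rfl
  exact mul_inv_eq_iff_eq_mul.1 h5.symm

end tc

end Cfsg.Agent.H5.Ree
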