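import Mathlib
import Cfsg.Agent.H5.Ree11
import Cfsg.Agent.H5.Ree12
set_option autoImplicit false
set_option maxHeartbeats 400000

/-! Abstract groups of Ree type. -/

namespace Cfsg.Agent.H5.Ree
open Matrix

/-- the axioms used -/
structure RA (K : Type*) [Field K] [Fintype K] {G : Type*} [Group G] (B T U : Subgroup G) (n : G) : Prop where
  rk : Rk1 B T U n
  nB : n ∉ B
  c3 : (3 : K) = 0
  card : Nat.card G = Fintype.card K ^ 3 * (Fintype.card K - 1) * (Fintype.card K ^ 3 + 1)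
  cardU : Nat.card U = Fintype.card K ^ 3
  cardT : Nat.card T = Fintype.card K - 1
  cyc : IsCyclic T
  inv : ∀ t ∈ T, n * t * n⁻¹ = t⁻¹
  UT : ∀ u ∈ U, u ∈ T → u = 1
  fpf : ∀ t ∈ T, t * t ≠ 1 → ∀ u ∈ U, t * u = u * t → u = 1
  mod8 : Fintype.card K % 8 = 3
  q27 : 27 ≤ Fintype.card K
  cent : ∀ a : G, a ≠ 1 → a * a = 1 → Nonempty (↥(Subgroup.centralizer {a}) ≃* Multiplicative (ZMod 2) × ProjectiveSpecialLinearGroup (Fin 2) K)
  exinv : ∃ a : G, a ≠ 1 ∧ a * a = 1
  syl : ∀ S : Sylow 2 G, Nat.card S = 8 ∧ ∀ x ∈ S, x * x = 1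

theorem conj_into {G : Type*} [Group G] [Finite G] {p : ℕ} [Fact p.Prime] (H : Subgroup G) (hi : ¬ p ∣ H.index) (x : G) {n : ℕ} (hx : x ^ p ^ n = 1) :
    ∃ g : G, g⁻¹ * x * g ∈ H := by
  have h1 : IsPGroup p (Subgroup.zpowers x) := by
    obtain ⟨i, -, hi⟩ := (Nat.dvd_prime_pow (Fact.out : p.Prime)).1 (orderOf_dvd_of_pow_eq_one hx)
    apply IsPGroup.of_card (n := i)
    rw [Nat.card_zpowers, hi]
  obtain ⟨y, hy⟩ := h1.nonempty_fixed_point_of_prime_not_dvd_card (G ⧸ H) (by rw [← Subgroup.index_eq_card]; exact hi)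
  obtain ⟨g, rfl⟩ := QuotientGroup.mk_surjective y
  refine ⟨g, ?_⟩
  have h2 := hy ⟨x, Subgroup.mem_zpowers x⟩
  have h3 : (QuotientGroup.mk g : G ⧸ H) = QuotientGroup.mk (x * g) := h2.symm
  rw [QuotientGroup.eq] at h3
  rwa [← mul_assoc] at h3

/-- uniqueness of the normal form -/
theorem Rk1.uniq' {G : Type*} [Group G] {B T U : Subgroup G} {n : G} (R : Rk1 B T U n) (hUT : ∀ u ∈ U, u ∈ T → u = 1) {u s v u' s' v' : G}
    (hu : u ∈ U) (hs : s ∈ T) (hv : v ∈ U) (hu' : u' ∈ U) (hs' : s' ∈ T) (hv' : v' ∈ U) (h : u * s * n * v = u' * s' * n * v') :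
    u = u' ∧ s = s' ∧ v = v' := by
  have h1 : n * (v * v'⁻¹) * n⁻¹ = s⁻¹ * (u⁻¹ * u') * s' := by
    calc n * (v * v'⁻¹) * n⁻¹ = s⁻¹ * u⁻¹ * (u * s * n * v) * v'⁻¹ * n⁻¹ := by group
      _ = _ := by rw [h]; group
  have h2 := R.nU _ (mul_mem hv (inv_mem hv')) (by
    rw [h1]
    exact mul_mem (mul_mem (inv_mem (R.HB hs)) (mul_mem (inv_mem (R.UB hu)) (R.UB hu'))) (R.HB hs'))
  have hvv : v = v' := mul_inv_eq_one.1 h2
  rw [h2] at h1
  have h3 : u⁻¹ * u' = s * s'⁻¹ := by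
    calc u⁻¹ * u' = s * (s⁻¹ * (u⁻¹ * u') * s') * s'⁻¹ := by group
      _ = s * (n * 1 * n⁻¹) * s'⁻¹ := by rw [h1]
      _ = _ := by group
  have h4 : u⁻¹ * u' = 1 := hUT _ (mul_mem (inv_mem hu) hu') (by rw [h3]; exact mul_mem hs (inv_mem hs'))
  rw [h4] at h3
  exact ⟨inv_mul_eq_one.1 h4, mul_inv_eq_one.1 h3.symm, hvv⟩

section
variable {K : Type*} [Field K] [Fintype K] {G : Type*} [Group G] [Finite G] {B T U : Subgroup G} {n : G} (R : RA K B T U n)
include R

theorem RA.Tcomm {s t : G} (hs : s ∈ T) (ht : t ∈ T) : s * t = t * s := by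
  haveI := R.cyc
  have := (IsCyclic.isMulCommutative (α := T)).is_comm.comm ⟨s, hs⟩ ⟨t, ht⟩
  exact congrArg Subtype.val this

/-- centralisers of torus elements -/
theorem RA.cent_T {t : G} (ht : t ∈ T) (ht2 : t * t ≠ 1) : Subgroup.centralizer {t} = T := by
  apply le_antisymm
  · intro g hg
    rw [Subgroup.mem_centralizer_singleton_iff] at hg
    rcases R.rk.br g with hgB | ⟨u, hu, s, hs, v, hv, rfl⟩
    · obtain ⟨u, hu, s, hs, rfl⟩ := R.rk.dec g hgB
      have hst := R.Tcomm hs ht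
      have h1 : t * u = u * t := by
        have h2 : u * t * s = t * u * s := by
          calc u * t * s = u * (t * s) := by group
            _ = u * (s * t) := by rw [hst]
            _ = u * s * t := by group
            _ = t * (u * s) := hg
            _ = t * u * s := by group
        exact (mul_right_cancel h2).symm
      rw [R.fpf t ht ht2 u hu h1, one_mul]
      exact hs
    · exfalso
      apply ht2
      have hnt : n * t⁻¹ = t * n := by
        have := R.inv t⁻¹ (inv_mem ht)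
        rw [inv_inv, mul_inv_eq_iff_eq_mul] at this
        exact this
      have h1 : u * s * n * v = (t * u * t⁻¹) * (t * s * t) * n * (t * v * t⁻¹) := by
        calc u * s * n * v = t * (u * s * n * v) * t⁻¹ := by rw [← hg]; group
          _ = (t * u * t⁻¹) * (t * s) * (n * t⁻¹) * (t * v * t⁻¹) := by group
          _ = _ := by rw [hnt]; group
      obtain ⟨-, h2, -⟩ := R.rk.uniq' R.UT hu hs hv (R.rk.HU t ht u hu) (mul_mem (mul_mem ht hs) ht) (R.rk.HU t ht v hv) h1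
      have h3 := R.Tcomm hs ht
      have h4 : s * 1 = s * (t * t) := by
        rw [mul_one]
        calc s = t * s * t := h2
          _ = s * t * t := by rw [h3]
          _ = _ := by group
      exact (mul_left_cancel h4).symm
  · intro s hs
    rw [Subgroup.mem_centralizer_singleton_iff]
    exact R.Tcomm hs ht

theorem RA.qpos : 0 < Fintype.card K := Fintype.card_pos

theorem RA.three_dvd : 3 ∣ Fintype.card K := by
  haveI : CharP K 3 := by
    rw [CharP.charP_iff_prime_eq_zero Nat.prime_three]; exact_mod_cast R.c3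
  exact (CharP.cast_eq_zero_iff K 3 _).1 (by simp)

theorem RA.index_T : T.index = Fintype.card K ^ 3 * (Fintype.card K ^ 3 + 1) := by
  have h1 := T.card_mul_index
  rw [R.cardT, R.card] at h1
  have h2 : 0 < Fintype.card K - 1 := by have := R.q27; omega
  apply Nat.eq_of_mul_eq_mul_left h2
  rw [h1]; ring

theorem RA.index_U : U.index = (Fintype.card K - 1) * (Fintype.card K ^ 3 + 1) := by
  have h1 := U.card_mul_index
  rw [R.cardU, R.card] at h1
  have h2 : 0 < Fintype.card K ^ 3 := pow_pos R.qpos 3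
  apply Nat.eq_of_mul_eq_mul_left h2
  rw [h1]; ring

/-- split elements -/
theorem RA.split {p : ℕ} (hp : p.Prime) (hp2 : p ≠ 2) (hpq : p ∣ Fintype.card K - 1) {x : G} (hx : x ^ p = 1) (hx1 : x ≠ 1) :
    ∃ g : G, Subgroup.centralizer {x} = T.map (MulAut.conj g).toMonoidHom ∧ g⁻¹ * x * g ∈ T := by
  haveI : Fact p.Prime := ⟨hp⟩
  have hq : 1 ≤ Fintype.card K := R.qpos
  have hpq' : ¬ p ∣ Fintype.card K := fun h => by
    have : p ∣ Fintype.card K - (Fintype.card K - 1) := Nat.dvd_sub h hpq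
    rw [Nat.sub_sub_self hq] at this
    exact hp.one_lt.ne' (Nat.dvd_one.1 this)
  have hi : ¬ p ∣ T.index := by
    rw [R.index_T]
    intro h
    rcases (Nat.Prime.dvd_mul hp).1 h with h | h
    · exact hpq' (hp.dvd_of_dvd_pow h)
    · obtain ⟨j, hj⟩ := hpq
      have h2 : Fintype.card K = p * j + 1 := by omega
      have h3 : Fintype.card K ^ 3 + 1 = p * (j * (p ^ 2 * j ^ 2 + 3 * (p * j) + 3)) + 2 := by rw [h2]; ring
      rw [h3] at h
      have h4 : p ∣ 2 := (Nat.dvd_add_right (Dvd.intro _ rfl)).1 h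
      exact hp2 ((Nat.prime_dvd_prime_iff_eq hp Nat.prime_two).1 h4)
  obtain ⟨g, hg⟩ := conj_into T hi x (n := 1) (by rw [pow_one, hx])
  refine ⟨g, ?_, hg⟩
  have h1 : (g⁻¹ * x * g) * (g⁻¹ * x * g) ≠ 1 := by
    intro h
    have h2 : x ^ 2 = 1 := by
      calc x ^ 2 = g * ((g⁻¹ * x * g) * (g⁻¹ * x * g)) * g⁻¹ := by rw [pow_two]; group
        _ = 1 := by rw [h]; group
    have h3 : orderOf x ∣ 2 := orderOf_dvd_of_pow_eq_one h2
    have h4 : orderOf x ∣ p := orderOf_dvd_of_pow_eq_one hx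
    have h5 : orderOf x ≠ 1 := fun h => hx1 (orderOf_eq_one_iff.1 h)
    have h6 := ((Nat.dvd_prime Nat.prime_two).1 h3).resolve_left h5
    have h7 := ((Nat.dvd_prime hp).1 h4).resolve_left h5
    exact hp2 (h7.symm.trans h6)
  have h2 := R.cent_T hg h1
  rw [← h2]
  ext y
  rw [Subgroup.mem_centralizer_singleton_iff]
  constructor
  · intro hy
    refine ⟨g⁻¹ * y * g, ?_, ?_⟩
    · rw [SetLike.mem_coe, Subgroup.mem_centralizer_singleton_iff]
      calc g⁻¹ * y * g * (g⁻¹ * x * g) = g⁻¹ * (y * x) * g := by group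
        _ = _ := by rw [hy]; group
    · show g * (g⁻¹ * y * g) * g⁻¹ = y
      group
  · rintro ⟨z, hz, rfl⟩
    rw [SetLike.mem_coe, Subgroup.mem_centralizer_singleton_iff] at hz
    show g * z * g⁻¹ * x = x * (g * z * g⁻¹)
    calc g * z * g⁻¹ * x = g * (z * (g⁻¹ * x * g)) * g⁻¹ := by group
      _ = _ := by rw [hz]; group

/-- elements of order three are unipotent -/
theorem RA.three_conj {y : G} (hy : orderOf y = 3) : ∃ g : G, g⁻¹ * y * g ∈ U := by
  haveI : Fact (Nat.Prime 3) := ⟨Nat.prime_three⟩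
  apply conj_into U (p := 3) _ y (n := 1) (by rw [pow_one, ← hy, pow_orderOf_eq_one])
  rw [R.index_U]
  intro h
  obtain ⟨j, hj⟩ := R.three_dvd
  have hq := R.q27
  rcases (Nat.Prime.dvd_mul Nat.prime_three).1 h with h | h
  · omega
  · rw [hj] at h
    have h2 : 3 ∣ (3 * j) ^ 3 := by rw [pow_succ]; exact Dvd.dvd.mul_left (Dvd.intro _ rfl) _
    have := (Nat.dvd_add_right h2).1 h
    exact absurd this (by norm_num)

/-- elements commuting with an element of order three -/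
theorem RA.comm_three {p : ℕ} (hp : p.Prime) {x y : G} (hx : x ^ p = 1) (hx1 : x ≠ 1) (hxy : y * x = x * y) (hy : orderOf y = 3) :
    p ∣ Fintype.card K * (Fintype.card K - 1) := by
  obtain ⟨g, hg⟩ := R.three_conj hy
  have hy1 : g⁻¹ * y * g ≠ 1 := by
    intro h
    have : y = 1 := by
      calc y = g * (g⁻¹ * y * g) * g⁻¹ := by group
        _ = 1 := by rw [h]; group
    rw [this, orderOf_one] at hy
    norm_num at hy
  have h1 : g⁻¹ * x * g ∈ B := by
    apply R.rk.ti hg hy1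
    have : (g⁻¹ * x * g) * (g⁻¹ * y * g) * (g⁻¹ * x * g)⁻¹ = g⁻¹ * y * g := by
      calc (g⁻¹ * x * g) * (g⁻¹ * y * g) * (g⁻¹ * x * g)⁻¹ = g⁻¹ * (x * y) * x⁻¹ * g := by group
        _ = g⁻¹ * (y * x) * x⁻¹ * g := by rw [hxy]
        _ = _ := by group
    rw [this]
    exact R.rk.UB hg
  have h2 : orderOf (g⁻¹ * x * g) = p := by
    rw [orderOf_eq_prime_iff (hp := ⟨hp⟩)]
    constructor
    · have e : g⁻¹ * x * g = g⁻¹ * x * g⁻¹⁻¹ := by rw [inv_inv]
      rw [e, conj_pow, hx]; group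
    · intro h
      apply hx1
      calc x = g * (g⁻¹ * x * g) * g⁻¹ := by group
        _ = 1 := by rw [h]; group
  have h3 : Nat.card B ∣ Fintype.card K ^ 3 * (Fintype.card K - 1) := by
    have hf : Function.Surjective (fun z : U × T => (⟨z.1 * z.2, mul_mem (R.rk.UB z.1.2) (R.rk.HB z.2.2)⟩ : B)) := by
      rintro ⟨b, hb⟩
      obtain ⟨u, hu, t, ht, rfl⟩ := R.rk.dec b hb
      exact ⟨(⟨u, hu⟩, ⟨t, ht⟩), rfl⟩
    have hinj : Function.Injective (fun z : U × T => (⟨z.1 * z.2, mul_mem (R.rk.UB z.1.2) (R.rk.HB z.2.2)⟩ : B)) := by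
      rintro ⟨⟨u, hu⟩, ⟨t, ht⟩⟩ ⟨⟨u', hu'⟩, ⟨t', ht'⟩⟩ h
      have h4 : u * t = u' * t' := congrArg Subtype.val h
      have h5 : u'⁻¹ * u = t' * t⁻¹ := by
        calc u'⁻¹ * u = u'⁻¹ * (u * t) * t⁻¹ := by group
          _ = _ := by rw [h4]; group
      have h6 := R.UT _ (mul_mem (inv_mem hu') hu) (by rw [h5]; exact mul_mem ht' (inv_mem ht))
      have h7 : u = u' := (inv_mul_eq_one.1 h6).symm
      rw [h7] at h4
      exact Prod.ext (Subtype.ext h7) (Subtype.ext (mul_left_cancel h4))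
    rw [← Nat.card_congr (Equiv.ofBijective _ ⟨hinj, hf⟩), Nat.card_prod, R.cardU, R.cardT]
  have h4 : p ∣ Nat.card B := by
    rw [← h2, ← Subgroup.orderOf_mk (g⁻¹ * x * g) h1]
    exact orderOf_dvd_natCard _
  have h5 := h4.trans h3
  rcases (Nat.Prime.dvd_mul hp).1 h5 with h | h
  · exact Dvd.dvd.mul_right (hp.dvd_of_dvd_pow h) _
  · exact Dvd.dvd.mul_left h _

theorem RA.two_group_comm (P : Subgroup G) (hP : IsPGroup 2 P) : ∀ x ∈ P, ∀ y ∈ P, x * y = y * x := by
  haveI : Fact (Nat.Prime 2) := ⟨Nat.prime_two⟩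
  obtain ⟨S, hS⟩ := hP.exists_le_sylow
  obtain ⟨-, h2⟩ := R.syl S
  intro x hx y hy
  have h3 := h2 x (hS hx)
  have h4 := h2 y (hS hy)
  have h5 := h2 (x * y) (hS (mul_mem hx hy))
  calc x * y = x * (x * y * (x * y)) * y := by rw [h5, mul_one]
    _ = (x * x) * (y * x) * (y * y) := by group
    _ = y * x := by rw [h3, h4, one_mul, mul_one]

theorem RA.no_four (g : G) : orderOf g ≠ 4 := by
  intro h
  haveI : Fact (Nat.Prime 2) := ⟨Nat.prime_two⟩
  have h1 : IsPGroup 2 (Subgroup.zpowers g) := by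
    apply IsPGroup.of_card (n := 2)
    rw [Nat.card_zpowers, h]; norm_num
  obtain ⟨S, hS⟩ := h1.exists_le_sylow
  have h2 := (R.syl S).2 g (hS (Subgroup.mem_zpowers g))
  rw [← pow_two] at h2
  have := orderOf_dvd_of_pow_eq_one h2
  rw [h] at this
  exact absurd this (by norm_num)

/-- elliptic elements commuting with an involution -/
theorem RA.ell_T {p : ℕ} (hp : p.Prime) (hp2 : p ≠ 2) (hpq : p ∣ Fintype.card K + 1) {x : G} (hx : x ^ p = 1) (hx1 : x ≠ 1)
    {b : G} (hb1 : b ≠ 1) (hb2 : b * b = 1) (hbx : b * x = x * b) :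
    Nat.card ↥(Subgroup.centralizer {x} ⊓ Subgroup.centralizer {b}) = Fintype.card K + 1 ∧
    ∀ u ∈ Subgroup.centralizer {x} ⊓ Subgroup.centralizer {b}, ∀ v ∈ Subgroup.centralizer {x} ⊓ Subgroup.centralizer {b}, u * v = v * u := by
  obtain ⟨E⟩ := R.cent b hb1 hb2
  have hxb : x ∈ Subgroup.centralizer {b} := Subgroup.mem_centralizer_singleton_iff.2 hbx.symm
  set z := (E ⟨x, hxb⟩).2 with hz
  have hodd : Odd p := hp.odd_of_ne_two hp2
  have hEp : (E ⟨x, hxb⟩) ^ p = 1 := by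
    rw [← map_pow]
    have : (⟨x, hxb⟩ : ↥(Subgroup.centralizer {b})) ^ p = 1 := Subtype.ext hx
    rw [this, map_one]
  have h1 : (E ⟨x, hxb⟩).1 = 1 := by
    have h2 : (E ⟨x, hxb⟩).1 ^ p = 1 := by rw [← Prod.pow_fst, hEp]; rfl
    obtain ⟨j, rfl⟩ := hodd
    rw [pow_succ, pow_mul] at h2
    generalize (E ⟨x, hxb⟩).1 = w at h2
    have h3 : w ^ 2 = 1 := by clear h2; revert w; decide
    rw [h3, one_pow, one_mul] at h2
    exact h2
  have hzp : z ^ p = 1 := by rw [hz, ← Prod.pow_snd, hEp]; rfl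
  have hz1 : z ≠ 1 := by
    intro h
    apply hx1
    have : E ⟨x, hxb⟩ = 1 := Prod.ext h1 h
    exact congrArg Subtype.val (E.injective (this.trans (map_one E).symm))
  obtain ⟨c1, c2⟩ := psl_cent_ell R.c3 hp hp2 hpq z hzp hz1
  have hmem : ∀ g, ∀ hg : g ∈ Subgroup.centralizer {b}, g ∈ Subgroup.centralizer {x} ↔ (E ⟨g, hg⟩).2 ∈ Subgroup.centralizer {z} := by
    intro g hg
    rw [Subgroup.mem_centralizer_singleton_iff, Subgroup.mem_centralizer_singleton_iff]
    constructor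
    · intro h
      have h3 : (⟨g, hg⟩ : ↥(Subgroup.centralizer {b})) * ⟨x, hxb⟩ = ⟨x, hxb⟩ * ⟨g, hg⟩ := Subtype.ext h
      have h4 := congrArg (fun y => (E y).2) h3
      simp only [map_mul, Prod.snd_mul] at h4
      exact h4
    · intro h
      have h3 : (⟨g, hg⟩ : ↥(Subgroup.centralizer {b})) * ⟨x, hxb⟩ = ⟨x, hxb⟩ * ⟨g, hg⟩ := by
        apply E.injective
        rw [map_mul, map_mul]
        exact Prod.ext (mul_comm _ _) h
      exact congrArg Subtype.val h3
  constructor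
  · have e : ↥(Subgroup.centralizer {x} ⊓ Subgroup.centralizer {b}) ≃ Multiplicative (ZMod 2) × ↥(Subgroup.centralizer ({z} : Set (ProjectiveSpecialLinearGroup (Fin 2) K))) :=
      { toFun := fun g => ((E ⟨g, g.2.2⟩).1, ⟨(E ⟨g, g.2.2⟩).2, (hmem g g.2.2).1 g.2.1⟩)
        invFun := fun w => ⟨(E.symm (w.1, w.2)).1, by
          refine ⟨(hmem _ (E.symm (w.1, w.2)).2).2 ?_, (E.symm (w.1, w.2)).2⟩
          show (E (E.symm (w.1, w.2))).2 ∈ _
          rw [E.apply_symm_apply]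
          exact w.2.2⟩
        left_inv := by
          intro g
          apply Subtype.ext
          show (E.symm ((E ⟨g, g.2.2⟩).1, (E ⟨g, g.2.2⟩).2)).1 = g
          rw [Prod.mk.eta, E.symm_apply_apply]
        right_inv := by
          intro w
          apply Prod.ext
          · show (E (E.symm (w.1, w.2))).1 = w.1
            rw [E.apply_symm_apply]
          · apply Subtype.ext
            show (E (E.symm (w.1, w.2))).2 = w.2
            rw [E.apply_symm_apply] }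
    rw [Nat.card_congr e, Nat.card_prod, Nat.card_congr Multiplicative.toAdd, Nat.card_zmod, c1]
  · intro u hu v hv
    have h3 := c2 _ ((hmem u hu.2).1 hu.1) _ ((hmem v hv.2).1 hv.1)
    have h4 : (⟨u, hu.2⟩ : ↥(Subgroup.centralizer {b})) * ⟨v, hv.2⟩ = ⟨v, hv.2⟩ * ⟨u, hu.2⟩ := by
      apply E.injective
      rw [map_mul, map_mul]
      exact Prod.ext (mul_comm _ _) h3
    exact congrArg Subtype.val h4

theorem RA.card_cent_inv {a : G} (ha1 : a ≠ 1) (ha2 : a * a = 1) :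
    Nat.card ↥(Subgroup.centralizer {a}) = Fintype.card K * (Fintype.card K ^ 2 - 1) := by
  obtain ⟨E⟩ := R.cent a ha1 ha2
  have h1 := Cfsg.Agent.H5.card_PSL2 (F := K) rfl
  have h2 : Nat.gcd 2 (Fintype.card K - 1) = 2 := by
    apply Nat.gcd_eq_left
    have := R.mod8
    omega
  rw [h2] at h1
  rw [Nat.card_congr E.toEquiv, Nat.card_prod, Nat.card_congr Multiplicative.toAdd, Nat.card_zmod, h1]

theorem RA.index_cent_inv {a : G} (ha1 : a ≠ 1) (ha2 : a * a = 1) :
    (Subgroup.centralizer {a}).index = Fintype.card K ^ 2 * (Fintype.card K ^ 2 - Fintype.card K + 1) := by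
  have h1 := (Subgroup.centralizer {a}).card_mul_index
  rw [R.card_cent_inv ha1 ha2, R.card] at h1
  have hq := R.q27
  obtain ⟨j, hj⟩ : ∃ j, Fintype.card K = j + 1 := ⟨Fintype.card K - 1, by omega⟩
  have e1 : Fintype.card K ^ 2 - 1 = j * (j + 2) := by
    rw [hj]
    have : (j + 1) ^ 2 = j * (j + 2) + 1 := by ring
    rw [this]; rfl
  have e2 : Fintype.card K ^ 2 - Fintype.card K = j * (j + 1) := by
    rw [hj]
    have : (j + 1) ^ 2 = j * (j + 1) + (j + 1) := by ring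
    rw [this, Nat.add_sub_cancel]
  have e3 : Fintype.card K - 1 = j := by omega
  rw [e1, e3] at h1
  rw [e2]
  have hj0 : 0 < j := by omega
  have h2 : 0 < Fintype.card K * (j * (j + 2)) := by positivity
  apply Nat.eq_of_mul_eq_mul_left h2
  rw [h1, hj]; ring

/-- elliptic elements -/
theorem RA.ell {p : ℕ} (hp : p.Prime) (hp2 : p ≠ 2) (hpq : p ∣ Fintype.card K + 1) {x : G} (hx : x ^ p = 1) (hx1 : x ≠ 1) :
    ∃ a : G, a ≠ 1 ∧ a * a = 1 ∧ a * x = x * a ∧ Subgroup.centralizer {x} ≤ Subgroup.centralizer {a} ∧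
      Nat.card ↥(Subgroup.centralizer {x}) = Fintype.card K + 1 ∧
      ∀ u ∈ Subgroup.centralizer {x}, ∀ v ∈ Subgroup.centralizer {x}, u * v = v * u := by
  haveI : Fact p.Prime := ⟨hp⟩
  obtain ⟨a₀, ha1, ha2⟩ := R.exinv
  have hq := R.q27
  have h3q := R.three_dvd
  have hp3 : p ≠ 3 := by
    rintro rfl
    have := (Nat.dvd_add_right h3q).1 hpq
    exact absurd this (by norm_num)
  have hpq' : ¬ p ∣ Fintype.card K := fun h => by
    have := (Nat.dvd_add_right h).1 hpq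
    exact hp.one_lt.ne' (Nat.dvd_one.1 this)
  have hi : ¬ p ∣ (Subgroup.centralizer {a₀}).index := by
    rw [R.index_cent_inv ha1 ha2]
    intro h
    rcases (Nat.Prime.dvd_mul hp).1 h with h | h
    · exact hpq' (hp.dvd_of_dvd_pow h)
    · obtain ⟨j, hj⟩ := hpq
      have h5 : Fintype.card K ^ 2 - Fintype.card K + 1 + (3 * (Fintype.card K) ) = (Fintype.card K + 1) ^ 2 := by
        have : Fintype.card K ≤ Fintype.card K ^ 2 := Nat.le_self_pow (by norm_num) _
        have h6 : (Fintype.card K + 1) ^ 2 = Fintype.card K ^ 2 + 2 * Fintype.card K + 1 := by ring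
        omega
      have h7 : p ∣ 3 * Fintype.card K := by
        have h8 : p ∣ (Fintype.card K + 1) ^ 2 := by rw [hj, pow_two]; exact Dvd.dvd.mul_right (Dvd.intro _ rfl) _
        rw [← h5] at h8
        exact (Nat.dvd_add_right h).1 h8
      rcases (Nat.Prime.dvd_mul hp).1 h7 with h9 | h9
      · exact hp3 ((Nat.prime_dvd_prime_iff_eq hp Nat.prime_three).1 h9)
      · exact hpq' h9
  obtain ⟨g, hg⟩ := conj_into _ hi x (n := 1) (by rw [pow_one, hx])
  rw [Subgroup.mem_centralizer_singleton_iff] at hg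
  have hg1 : g * a₀ * g⁻¹ ≠ 1 := fun h => ha1 (by
    calc a₀ = g⁻¹ * (g * a₀ * g⁻¹) * g := by group
      _ = 1 := by rw [h]; group)
  have hg2 : (g * a₀ * g⁻¹) * (g * a₀ * g⁻¹) = 1 := by
    calc (g * a₀ * g⁻¹) * (g * a₀ * g⁻¹) = g * (a₀ * a₀) * g⁻¹ := by group
      _ = 1 := by rw [ha2]; group
  have hgx : (g * a₀ * g⁻¹) * x = x * (g * a₀ * g⁻¹) := by
    calc (g * a₀ * g⁻¹) * x = g * (a₀ * (g⁻¹ * x * g)) * g⁻¹ := by group
      _ = _ := by rw [← hg]; group
  obtain ⟨k, hk⟩ : ∃ k, Fintype.card K + 1 = 4 * k := ⟨(Fintype.card K + 1) / 4, by have := R.mod8; omega⟩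
  have hkodd : Odd k := by
    rw [Nat.odd_iff]; have := R.mod8; omega
  have hle := cent_le_cent (k := k) hkodd R.two_group_comm R.no_four (x := x)
    (by
      intro y hy hy3
      have h5 := R.comm_three hp hx hx1 hy hy3
      rcases (Nat.Prime.dvd_mul hp).1 h5 with h | h
      · exact hpq' h
      · have h6 : p ∣ (Fintype.card K + 1) - (Fintype.card K - 1) := Nat.dvd_sub hpq h
        have h7 : (Fintype.card K + 1) - (Fintype.card K - 1) = 2 := by omega
        rw [h7] at h6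
        exact hp2 ((Nat.prime_dvd_prime_iff_eq hp Nat.prime_two).1 h6))
    (by
      intro b hb1 hb2 hbx
      rw [← hk]
      exact R.ell_T hp hp2 hpq hx hx1 hb1 hb2 hbx) hg1 hg2 hgx
  obtain ⟨c1, c2⟩ := R.ell_T hp hp2 hpq hx hx1 hg1 hg2 hgx
  rw [inf_eq_left.2 hle] at c1 c2
  exact ⟨_, hg1, hg2, hgx, hle, c1, c2⟩

end

end Cfsg.Agent.H5.Ree
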