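import Mathlib
import Cfsg.Agent.H5.Ree13
set_option autoImplicit false
set_option maxHeartbeats 400000
set_option maxRecDepth 10000

/-! The small Ree groups satisfy the abstract axioms. -/

namespace Cfsg.Agent.H5.Ree
open Cfsg.Lie Matrix Cfsg Cfsg.Agent.H6 Cfsg.Agent.H6.WG2
open Cfsg.Agent.H22 (ux uy uw)

section abs
variable {G : Type*} [Group G]

theorem Rk1.change {B T U : Subgroup G} {n : G} (R : Rk1 B T U n) {s : G} (hs : s ∈ T) : Rk1 B T U (s * n) := by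
  constructor
  · intro g
    rcases R.br g with h | ⟨u, hu, t, ht, v, hv, rfl⟩
    · exact Or.inl h
    · exact Or.inr ⟨u, hu, t * s⁻¹, mul_mem ht (inv_mem hs), v, hv, by group⟩
  · exact R.UB
  · exact R.HB
  · exact R.dec
  · exact R.HU
  · intro t ht
    have e : s * n * t * (s * n)⁻¹ = s * (n * t * n⁻¹) * s⁻¹ := by group
    rw [e]
    exact mul_mem (mul_mem hs (R.nH t ht)) (inv_mem hs)
  · intro u hu h
    apply R.nU u hu
    have e : n * u * n⁻¹ = s⁻¹ * (s * n * u * (s * n)⁻¹) * s := by group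
    rw [e]
    exact mul_mem (mul_mem (inv_mem (R.HB hs)) h) (R.HB hs)

/-- an element inverting the torus is a Weyl element up to the torus -/
theorem Rk1.weyl {B T U : Subgroup G} {n : G} (R : Rk1 B T U n) (hUT : ∀ u ∈ U, u ∈ T → u = 1) {n' t : G} (ht : t ∈ T)
    (hC : ∀ u ∈ U, t * u = u * t → u = 1) (hB : n' ∉ B) (hn : n' * t * n'⁻¹ = t⁻¹) : ∃ s ∈ T, n' = s * n := by
  rcases R.br n' with h | ⟨u, hu, s, hs, v, hv, rfl⟩
  · exact absurd h hB
  · have h1 : u * s * n * v = (t * u * t⁻¹) * (t * s * (n * t * n⁻¹)) * n * (t⁻¹ * v * t) := by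
      have h2 : (u * s * n * v) = t * (u * s * n * v) * t := by
        have := mul_inv_eq_iff_eq_mul.1 hn
        calc (u * s * n * v) = (t * t⁻¹) * (u * s * n * v) := by group
          _ = t * (t⁻¹ * (u * s * n * v)) := by group
          _ = t * ((u * s * n * v) * t) := by rw [← this]
          _ = _ := by group
      calc u * s * n * v = t * (u * s * n * v) * t := h2
        _ = _ := by group
    have ht' : t⁻¹ * v * t ∈ U := by
      have := R.HU t⁻¹ (inv_mem ht) v hv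
      rwa [inv_inv] at this
    obtain ⟨h2, -, h3⟩ := R.uniq' hUT hu hs hv (R.HU t ht u hu) (mul_mem (mul_mem ht hs) (R.nH t ht)) ht' h1
    have hu1 : u = 1 := hC u hu (by
      have : t * u * t⁻¹ = u := h2.symm
      exact mul_inv_eq_iff_eq_mul.1 this)
    have hv1 : v = 1 := hC v hv (by
      have : t * v = t * (t⁻¹ * v * t) := by rw [← h3]
      rw [this]; group)
    exact ⟨s, hs, by rw [hu1, hv1]; group⟩

/-- involutions are conjugate -/
theorem invs_conj [Finite G] (S : Sylow 2 G) (h8 : Nat.card S = 8) (h2 : ∀ x ∈ S, x * x = 1)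
    (hC : Subgroup.centralizer ((S : Subgroup G) : Set G) = S) (hN : Nat.card ↥(Subgroup.normalizer ((S : Subgroup G) : Set G)) = 168)
    {a b : G} (ha1 : a ≠ 1) (ha2 : a * a = 1) (hb1 : b ≠ 1) (hb2 : b * b = 1) : ∃ g : G, b = g * a * g⁻¹ := by
  haveI : Fact (Nat.Prime 2) := ⟨Nat.prime_two⟩
  haveI : Fact (Nat.Prime 7) := ⟨by norm_num⟩
  -- first inside `S`
  obtain ⟨⟨g, hg⟩, hgo⟩ := exists_prime_orderOf_dvd_card' (G := ↥(Subgroup.normalizer ((S : Subgroup G) : Set G))) 7 (by rw [hN]; norm_num)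
  rw [Subgroup.orderOf_mk] at hgo
  have hgS : ∀ x ∈ (S : Subgroup G), ∀ n : ℕ, g ^ n * x * (g ^ n)⁻¹ ∈ (S : Subgroup G) := by
    intro x hx n
    exact ((Subgroup.mem_normalizer_iff.1 (pow_mem hg n)) x).1 hx
  have hcomm : ∀ x : G, ∀ n : ℕ, ¬ 7 ∣ n → g ^ n * x = x * g ^ n → g * x = x * g := by
    intro x n hn h
    apply pow_conj' h
    rw [hgo]
    exact ((Nat.Prime.coprime_iff_not_dvd (by norm_num)).2 hn).symm
  -- `g` moves every involution
  have horb : ∀ x ∈ (S : Subgroup G), ¬ g * x = x * g → Function.Injective (fun i : Fin 7 => g ^ (i : ℕ) * x * (g ^ (i : ℕ))⁻¹) := by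
    intro x hx hne i j hij
    have key : ∀ i j : ℕ, i ≤ j → j < 7 → g ^ i * x * (g ^ i)⁻¹ = g ^ j * x * (g ^ j)⁻¹ → i = j := by
      intro i j hle hj h
      by_contra hne'
      obtain ⟨d, rfl⟩ := Nat.exists_eq_add_of_le hle
      apply hne
      apply hcomm x d
      · intro hd
        have := Nat.le_of_dvd (by omega) hd
        omega
      · have h3 : g ^ d * x * (g ^ d)⁻¹ = x := by
          calc g ^ d * x * (g ^ d)⁻¹ = (g ^ i)⁻¹ * (g ^ (i + d) * x * (g ^ (i + d))⁻¹) * g ^ i := by rw [pow_add]; group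
            _ = (g ^ i)⁻¹ * (g ^ i * x * (g ^ i)⁻¹) * g ^ i := by rw [h]
            _ = x := by group
        exact mul_inv_eq_iff_eq_mul.1 h3
    rcases le_total (i : ℕ) j with hle | hle
    · exact Fin.ext (key i j hle j.2 hij)
    · exact Fin.ext (key j i hle i.2 hij.symm).symm
  have hgnC : ¬ ∀ x ∈ (S : Subgroup G), g * x = x * g := by
    intro h
    have h3 : g ∈ Subgroup.centralizer ((S : Subgroup G) : Set G) := by
      rw [Subgroup.mem_centralizer_iff]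
      intro x hx; exact (h x hx).symm
    rw [hC] at h3
    have h4 := h2 g h3
    have h5 : orderOf g ∣ 2 := orderOf_dvd_of_pow_eq_one (by rw [pow_two, h4])
    rw [hgo] at h5
    exact absurd h5 (by norm_num)
  have hfin : (({x : G | x ∈ (S : Subgroup G) ∧ x ≠ 1} : Set G)).ncard = 7 := by
    have h3 : ({x : G | x ∈ (S : Subgroup G) ∧ x ≠ 1} : Set G) = ((S : Subgroup G) : Set G) \ {1} := by
      ext x
      simp only [Set.mem_setOf_eq, Set.mem_diff, Set.mem_singleton_iff]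
      exact Iff.rfl
    rw [h3, Set.ncard_diff_singleton_of_mem (one_mem (S : Subgroup G))]
    have : ((S : Subgroup G) : Set G).ncard = 8 := h8
    rw [this]
  have hmove : ∀ x ∈ (S : Subgroup G), x ≠ 1 → ¬ g * x = x * g := by
    intro x hx hx1 hc
    apply hgnC
    intro y hy
    by_contra hne
    have hinj := horb y hy hne
    have hsub : Set.range (fun i : Fin 7 => g ^ (i : ℕ) * y * (g ^ (i : ℕ))⁻¹) ⊆ {z : G | z ∈ (S : Subgroup G) ∧ z ≠ 1} \ {x} := by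
      rintro _ ⟨i, rfl⟩
      refine ⟨⟨hgS y hy i, ?_⟩, ?_⟩
      · intro h
        apply hne
        have h3 : y = 1 := by
          calc y = (g ^ (i : ℕ))⁻¹ * (g ^ (i : ℕ) * y * (g ^ (i : ℕ))⁻¹) * g ^ (i : ℕ) := by group
            _ = 1 := by
              have h' : g ^ (i : ℕ) * y * (g ^ (i : ℕ))⁻¹ = 1 := h
              rw [h']; group
        rw [h3]; group
      · intro h
        rw [Set.mem_singleton_iff] at h
        apply hne
        have hcx : Commute g x := hc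
        have h3 : y = x := by
          have h' : g ^ (i : ℕ) * y * (g ^ (i : ℕ))⁻¹ = x := h
          calc y = (g ^ (i : ℕ))⁻¹ * (g ^ (i : ℕ) * y * (g ^ (i : ℕ))⁻¹) * g ^ (i : ℕ) := by group
            _ = (g ^ (i : ℕ))⁻¹ * (x * g ^ (i : ℕ)) := by rw [h', mul_assoc]
            _ = (g ^ (i : ℕ))⁻¹ * (g ^ (i : ℕ) * x) := by rw [(hcx.pow_left i).eq]
            _ = x := by group
        rw [h3]; exact hc
    have h3 := Set.ncard_le_ncard hsub (Set.toFinite _)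
    rw [Set.ncard_diff_singleton_of_mem (show x ∈ {z : G | z ∈ (S : Subgroup G) ∧ z ≠ 1} from ⟨hx, hx1⟩), hfin, ← Set.image_univ, Set.ncard_image_of_injective _ hinj, Set.ncard_univ, Nat.card_fin] at h3
    omega
  have hin : ∀ x ∈ (S : Subgroup G), x ≠ 1 → ∀ y ∈ (S : Subgroup G), y ≠ 1 → ∃ k : G, y = k * x * k⁻¹ := by
    intro x hx hx1 y hy hy1
    have hinj := horb x hx (hmove x hx hx1)
    have hsub : Set.range (fun i : Fin 7 => g ^ (i : ℕ) * x * (g ^ (i : ℕ))⁻¹) ⊆ {z : G | z ∈ (S : Subgroup G) ∧ z ≠ 1} := by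
      rintro _ ⟨i, rfl⟩
      refine ⟨hgS x hx i, ?_⟩
      intro h
      apply hx1
      have h' : g ^ (i : ℕ) * x * (g ^ (i : ℕ))⁻¹ = 1 := h
      calc x = (g ^ (i : ℕ))⁻¹ * (g ^ (i : ℕ) * x * (g ^ (i : ℕ))⁻¹) * g ^ (i : ℕ) := by group
        _ = 1 := by rw [h']; group
    have h3 := Set.eq_of_subset_of_ncard_le hsub (by
      rw [hfin, ← Set.image_univ, Set.ncard_image_of_injective _ hinj, Set.ncard_univ, Nat.card_fin]) (Set.toFinite _)
    have h4 : y ∈ Set.range (fun i : Fin 7 => g ^ (i : ℕ) * x * (g ^ (i : ℕ))⁻¹) := by rw [h3]; exact ⟨hy, hy1⟩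
    obtain ⟨i, hi⟩ := h4
    exact ⟨_, hi.symm⟩
  have hto : ∀ x : G, x ≠ 1 → x * x = 1 → ∃ k : G, k⁻¹ * x * k ∈ (S : Subgroup G) := by
    intro x hx1 hx2
    apply conj_into (S : Subgroup G) _ x (n := 1) (by rw [pow_one, pow_two, hx2])
    exact S.not_dvd_index
  obtain ⟨k, hk⟩ := hto a ha1 ha2
  obtain ⟨l, hl⟩ := hto b hb1 hb2
  obtain ⟨j, hj⟩ := hin _ hk (fun h => ha1 (by
    calc a = k * (k⁻¹ * a * k) * k⁻¹ := by group
      _ = 1 := by rw [h]; group)) _ hl (fun h => hb1 (by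
    calc b = l * (l⁻¹ * b * l) * l⁻¹ := by group
      _ = 1 := by rw [h]; group))
  refine ⟨l * j * k⁻¹, ?_⟩
  calc b = l * (l⁻¹ * b * l) * l⁻¹ := by group
    _ = _ := by rw [hj]; group

/-- conjugate centralisers are isomorphic -/
theorem cent_conj_equiv {a g : G} : Nonempty (↥(Subgroup.centralizer {g * a * g⁻¹}) ≃* ↥(Subgroup.centralizer {a})) := by
  refine ⟨⟨⟨fun x => ⟨g⁻¹ * x * g, ?_⟩, fun x => ⟨g * x * g⁻¹, ?_⟩, ?_, ?_⟩, ?_⟩⟩
  · have := Subgroup.mem_centralizer_singleton_iff.1 x.2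
    rw [Subgroup.mem_centralizer_singleton_iff]
    calc g⁻¹ * x * g * a = g⁻¹ * ((x : G) * (g * a * g⁻¹)) * g := by group
      _ = _ := by rw [this]; group
  · have := Subgroup.mem_centralizer_singleton_iff.1 x.2
    rw [Subgroup.mem_centralizer_singleton_iff]
    calc g * x * g⁻¹ * (g * a * g⁻¹) = g * ((x : G) * a) * g⁻¹ := by group
      _ = _ := by rw [this]; group
  · intro x; apply Subtype.ext; show g * (g⁻¹ * (x : G) * g) * g⁻¹ = x; group
  · intro x; apply Subtype.ext; show g⁻¹ * (g * (x : G) * g⁻¹) * g = x; group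
  · intro x y; apply Subtype.ext
    show g⁻¹ * ((x : G) * y) * g = (g⁻¹ * x * g) * (g⁻¹ * y * g)
    group

end abs

section
variable {K : Type*} [Field K] [Fintype K] {m : ℕ}

theorem uw_dgw (d : Kˣ) : (uw : SpecialLinearGroup (Fin 2) K) * dgw d * uw⁻¹ = (dgw d)⁻¹ := by
  rw [mul_inv_eq_iff_eq_mul, eq_inv_mul_iff_mul_eq]
  apply Subtype.ext
  show ((dgw d : SpecialLinearGroup (Fin 2) K) : Matrix (Fin 2) (Fin 2) K) * ((uw : SpecialLinearGroup (Fin 2) K).1 * ((dgw d : SpecialLinearGroup (Fin 2) K) : Matrix (Fin 2) (Fin 2) K)) = (uw : SpecialLinearGroup (Fin 2) K).1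
  rw [dgw_eq]
  simp only [uw]
  rw [Matrix.mul_fin_two, Matrix.mul_fin_two]
  simp

abbrev RB (K : Type*) [Field K] (m : ℕ) : Subgroup ↥(twistedG2 K (3 ^ m)) := (chevG2.borelSubgroup K ⊓ twistedG2 K (3 ^ m)).subgroupOf (twistedG2 K (3 ^ m))
abbrev RT (K : Type*) [Field K] (m : ℕ) : Subgroup ↥(twistedG2 K (3 ^ m)) := (chevG2.diagonalSubgroup K ⊓ twistedG2 K (3 ^ m)).subgroupOf (twistedG2 K (3 ^ m))
abbrev RU (K : Type*) [Field K] (m : ℕ) : Subgroup ↥(twistedG2 K (3 ^ m)) := (chevG2.posUnipotent K ⊓ twistedG2 K (3 ^ m)).subgroupOf (twistedG2 K (3 ^ m))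

theorem ra (hm : 1 ≤ m) (hK : Fintype.card K = 3 ^ (2 * m + 1)) : ∃ n, RA K (RB K m) (RT K m) (RU K m) n := by
  obtain ⟨σ, h⟩ := exists_ctx hK
  have hf := fl_of_card hK
  haveI := finite_ree hK h hf
  have R := rk1 h hf
  obtain ⟨Φ₀, hx, hy⟩ := exists_Phi hf
  have hmem : ∀ g, Φ₀ g ∈ twistedG2 K (3 ^ m) := mem_all Φ₀ _ (fun t => by rw [hx]; exact RE_mem _ _ _ _) (fun t => by rw [hy]; exact RE_mem _ _ _ _)
  let Φ : SpecialLinearGroup (Fin 2) K →* ↥(twistedG2 K (3 ^ m)) := Φ₀.codRestrict _ hmem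
  have hΦ : ∀ g, (Φ g : GL chevG2.Idx K) = Φ₀ g := fun g => rfl
  have hdg : ∀ d : Kˣ, (Φ (dgw d) : GL chevG2.Idx K) = hh K (3 ^ m) (d ^ (3 * 3 ^ m + 1)) := fun d => by
    rw [hΦ, Phi_dgw hf hx hy]
  obtain ⟨c6, c7, c8, c9, c10, c11⟩ := cart
  obtain ⟨c3, c1⟩ := cart'
  let a : ↥(twistedG2 K (3 ^ m)) := ⟨hh K (3 ^ m) (-1), hh_neg_one_mem hf⟩
  have haa : ∀ g, Commute (Φ₀ g) (hh K (3 ^ m) (-1)) := by
    intro g
    apply comm_all
    · intro t
      rw [hx, RE0t hf]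
      exact (a_comm_x hf (by norm_num) c8 (by decide) _).mul_left (a_comm_x hf (by norm_num) c10 (by decide) _)
    · intro t
      rw [hy, RE0f hf]
      exact (a_comm_x hf (by norm_num) c3 (by decide) _).mul_left (a_comm_x hf (by norm_num) c1 (by decide) _)
  have hΦa : ∀ g, Commute a (Φ g) := by
    intro g
    apply Subtype.ext
    exact (haa g).symm.eq
  have ha2 : a * a = 1 := by
    apply Subtype.ext
    show hh K (3 ^ m) (-1) * hh K (3 ^ m) (-1) = 1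
    rw [← hh_mul]
    have : (-1 : Kˣ) * -1 = 1 := by simp
    rw [this, hh_one]
  have ha1 : a ≠ 1 := by
    intro h1
    have h2 : hh K (3 ^ m) (-1) = hh K (3 ^ m) 1 := by rw [hh_one]; exact congrArg Subtype.val h1
    exact neg_ne_one hf (hh_inj h2)
  have hUH : ∀ x, x ∈ RU K m → x ∈ RT K m → x = 1 := by
    intro x h1 h2
    rw [Subgroup.mem_subgroupOf] at h1 h2
    have h3 : (x : GL chevG2.Idx K) ∈ chevG2.posUnipotent K ⊓ chevG2.diagonalSubgroup K := ⟨h1.1, h2.1⟩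
    rw [h.G.pos_inf_diagonal, Subgroup.mem_bot] at h3
    exact Subtype.ext h3
  have hXU : ∀ t, Φ (ux t) ∈ RU K m := by
    intro t
    rw [Subgroup.mem_subgroupOf, hΦ, hx]
    exact (pos_iff h hf).2 ⟨0, t, 0, rfl⟩
  have hX1 : ∀ t, Φ (ux t) = 1 → t = 0 := by
    intro t ht
    have h1 := congrArg Subtype.val ht
    rw [hΦ, hx] at h1
    exact ((RE_eq_one hf).1 h1).2.1
  have hV : ∀ t, Φ (uy t) ∈ RB K m → Φ (uy t) = 1 := by
    intro t ht
    rw [Subgroup.mem_subgroupOf] at ht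
    have h1 : (Φ (uy t) : GL chevG2.Idx K) ∈ chevG2.negUnipotent K := by
      rw [hΦ, hy, RE0f hf, h.G.negUnipotent_eq_US]
      refine mul_mem (mem_US ?_ _) (mem_US ?_ _) <;> simp
    have h2 : (Φ (uy t) : GL chevG2.Idx K) ∈ chevG2.borelSubgroup K ⊓ chevG2.negUnipotent K := ⟨ht.1, h1⟩
    rw [h.G.borel_inf_neg, Subgroup.mem_bot] at h2
    exact Subtype.ext h2
  have hq27 : 27 ≤ Fintype.card K := by
    rw [hK]
    calc 27 = 3 ^ 3 := by norm_num
      _ ≤ 3 ^ (2 * m + 1) := Nat.pow_le_pow_right (by norm_num) (by omega)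
  have hTinv : ∀ t ∈ RT K m, Φ uw * t * (Φ uw)⁻¹ = t⁻¹ := by
    intro t ht
    obtain ⟨c, hc⟩ := (diag_iff h hf hK).1 (Subgroup.mem_subgroupOf.1 ht)
    obtain ⟨y, hy'⟩ := sq_or hK c
    have hd : Φ uw * Φ (dgw (y ^ (3 * 3 ^ m - 1))) * (Φ uw)⁻¹ = (Φ (dgw (y ^ (3 * 3 ^ m - 1))))⁻¹ := by
      rw [← map_inv, ← map_mul, ← map_mul, uw_dgw, map_inv]
    rcases hy' with h1 | h1
    · have : t = Φ (dgw (y ^ (3 * 3 ^ m - 1))) := by
        apply Subtype.ext
        rw [hdg, ← sq_eq hf, hc, h1]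
      rw [this]; exact hd
    · have : t = a * Φ (dgw (y ^ (3 * 3 ^ m - 1))) := by
        apply Subtype.ext
        show (t : GL chevG2.Idx K) = hh K (3 ^ m) (-1) * (Φ (dgw (y ^ (3 * 3 ^ m - 1))) : GL chevG2.Idx K)
        rw [hdg, ← sq_eq hf, hc, h1, hh_mul]
      rw [this]
      have e1 := (hΦa uw).eq
      have ea : a⁻¹ = a := inv_eq_of_mul_eq_one_left ha2
      calc Φ uw * (a * Φ (dgw (y ^ (3 * 3 ^ m - 1)))) * (Φ uw)⁻¹ = (Φ uw * a) * Φ (dgw (y ^ (3 * 3 ^ m - 1))) * (Φ uw)⁻¹ := by group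
        _ = a * (Φ uw * Φ (dgw (y ^ (3 * 3 ^ m - 1))) * (Φ uw)⁻¹) := by rw [← e1]; group
        _ = a * (Φ (dgw (y ^ (3 * 3 ^ m - 1))))⁻¹ := by rw [hd]
        _ = (Φ (dgw (y ^ (3 * 3 ^ m - 1))))⁻¹ * a := ((hΦa _).inv_right).eq
        _ = _ := by rw [_root_.mul_inv_rev, ea]
  have hfpf : ∀ t ∈ RT K m, t * t ≠ 1 → ∀ u ∈ RU K m, t * u = u * t → u = 1 := by
    rintro ⟨t, ht⟩ h1 ht2 ⟨u, hu⟩ hu1 htu
    obtain ⟨c, hc⟩ := (diag_iff h hf hK).1 (Subgroup.mem_subgroupOf.1 h1)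
    obtain ⟨x, y, z, he⟩ := (pos_iff h hf).1 (Subgroup.mem_subgroupOf.1 hu1)
    have hc' : t = hh K (3 ^ m) c := hc
    have he' : u = RE K (3 ^ m) true x y z := he
    by_contra hne
    have hne' : RE K (3 ^ m) true x y z ≠ 1 := fun h5 => hne (Subtype.ext (he'.trans h5))
    have h3 : hh K (3 ^ m) c * RE K (3 ^ m) true x y z = RE K (3 ^ m) true x y z * hh K (3 ^ m) c := by
      rw [← hc', ← he']; exact congrArg Subtype.val htu
    apply ht2
    apply Subtype.ext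
    show t * t = 1
    rw [hc', ← hh_mul]
    rcases comm_cases hf h3 hne' with h5 | ⟨h5, -, -⟩
    · rw [h5, mul_one, hh_one]
    · rw [← pow_two, h5, hh_one]
  have hcard := card_group h hf hK
  have hcardT : Nat.card ↥(RT K m) = Fintype.card K - 1 := by
    rw [Nat.card_congr (Subgroup.subgroupOfEquivOfLe inf_le_right).toEquiv, card_diag h hf hK, hK]
  have hcyc : IsCyclic ↥(RT K m) := by
    let f : Kˣ →* ↥(RT K m) :=
      { toFun := fun x => ⟨⟨hh K (3 ^ m) x, ((diag_iff h hf hK).2 ⟨x, rfl⟩).2⟩, by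
          rw [Subgroup.mem_subgroupOf]; exact (diag_iff h hf hK).2 ⟨x, rfl⟩⟩
        map_one' := by apply Subtype.ext; apply Subtype.ext; exact hh_one
        map_mul' := by intro x y; apply Subtype.ext; apply Subtype.ext; exact hh_mul x y }
    have hs : Function.Surjective f := by
      rintro ⟨⟨g, hg⟩, hg'⟩
      obtain ⟨x, hx'⟩ := (diag_iff h hf hK).1 (Subgroup.mem_subgroupOf.1 hg')
      exact ⟨x, by apply Subtype.ext; apply Subtype.ext; exact hx'.symm⟩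
    exact isCyclic_of_surjective f hs
  obtain ⟨n, hn⟩ : ∃ n, n = Φ uw := ⟨_, rfl⟩
  have hnB : n ∉ RB K m := by
    intro hnB
    have h1 : Φ (uy 1) ∈ RB K m := by
      rw [Cfsg.Agent.H22.uy_eq, map_mul, map_mul, map_inv, ← hn]
      exact mul_mem (mul_mem hnB (R.UB (hXU _))) (inv_mem hnB)
    have h3 := hV 1 h1
    rw [Cfsg.Agent.H22.uy_eq, map_mul, map_mul, map_inv, mul_inv_eq_one] at h3
    have h4 := hX1 _ (mul_left_cancel (h3.trans (mul_one _).symm))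
    exact one_ne_zero (neg_eq_zero.1 h4)
  -- a torus element which is not an involution
  obtain ⟨t, ht, ht2⟩ : ∃ t ∈ RT K m, t * t ≠ 1 := by
    haveI := hcyc
    obtain ⟨⟨g, hg⟩, hgen⟩ := IsCyclic.exists_generator (α := ↥(RT K m))
    refine ⟨g, hg, ?_⟩
    intro hc
    have h1 : orderOf (⟨g, hg⟩ : ↥(RT K m)) = Fintype.card K - 1 := by
      rw [orderOf_eq_card_of_forall_mem_zpowers hgen, hcardT]
    have h2 : orderOf (⟨g, hg⟩ : ↥(RT K m)) ∣ 2 := orderOf_dvd_of_pow_eq_one (by rw [pow_two]; exact Subtype.ext hc)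
    have h3 := Nat.le_of_dvd (by norm_num) h2
    omega
  obtain ⟨s, hs, hsn⟩ := R.weyl hUH ht (hfpf t ht ht2) hnB (by rw [hn]; exact hTinv t ht)
  refine ⟨n, ?_⟩
  constructor
  · rw [hsn]; exact R.change hs
  · exact hnB
  · exact hf.three
  · rw [hcard, hK]
  · rw [card_U hK h hf, hK, ← pow_mul, mul_comm]
  · exact hcardT
  · exact hcyc
  · rw [hn]; exact hTinv
  · exact hUH
  · exact hfpf
  · obtain ⟨j, hj⟩ := q_mod m
    rw [hK, hj]; omega
  · exact hq27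
  · intro b hb1 hb2
    obtain ⟨E, -⟩ := cent_equiv hK a rfl
    haveI : Nonempty (Sylow 2 ↥(twistedG2 K (3 ^ m))) := inferInstance
    obtain ⟨S⟩ := this
    obtain ⟨s1, s2⟩ := ree_sylow_norm hm hK S
    obtain ⟨s3, s4⟩ := (ree_cent_inv hK a (by
      show hh K (3 ^ m) (-1) ∈ _
      exact ((diag_iff h hf hK).2 ⟨-1, rfl⟩).1) ha1 ha2).2 S
    obtain ⟨g, rfl⟩ := invs_conj S s3 s4 s1 s2 ha1 ha2 hb1 hb2
    obtain ⟨E'⟩ := cent_conj_equiv (a := a) (g := g)
    exact ⟨E'.trans E⟩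
  · exact ⟨a, ha1, ha2⟩
  · intro S
    exact (ree_cent_inv hK a (by
      show hh K (3 ^ m) (-1) ∈ _
      exact ((diag_iff h hf hK).2 ⟨-1, rfl⟩).1) ha1 ha2).2 S

end

end Cfsg.Agent.H5.Ree
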