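import Mathlib
import Cfsg.Agent.H5.Ree14
set_option autoImplicit false
set_option maxHeartbeats 400000

/-! Centralisers of tori. -/

namespace Cfsg.Agent.H5.Ree
open Matrix

theorem cent_eq {G : Type*} [Group G] [Finite G] {H : Subgroup G} (hH : ∀ x ∈ H, ∀ y ∈ H, x * y = y * x)
    (hx : ∀ x ∈ H, (orderOf x).Prime → ∀ u ∈ Subgroup.centralizer {x}, ∀ v ∈ Subgroup.centralizer {x}, u * v = v * u) {A : Subgroup G}
    (hA : A ≤ H) (hA1 : A ≠ ⊥) : ∃ x ∈ A, (orderOf x).Prime ∧ Subgroup.centralizer (A : Set G) = Subgroup.centralizer {x} ∧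
      Subgroup.centralizer (H : Set G) = Subgroup.centralizer {x} := by
  have h1 : Nat.card A ≠ 1 := fun h => hA1 (Subgroup.card_eq_one.1 h)
  obtain ⟨p, hp, hpd⟩ := Nat.exists_prime_and_dvd h1
  haveI : Fact p.Prime := ⟨hp⟩
  obtain ⟨⟨x, hxA⟩, hxo⟩ := exists_prime_orderOf_dvd_card' (G := A) p hpd
  rw [Subgroup.orderOf_mk] at hxo
  have hxo' : (orderOf x).Prime := by rw [hxo]; exact hp
  have h2 : Subgroup.centralizer (A : Set G) ≤ Subgroup.centralizer {x} :=
    Subgroup.centralizer_le (Set.singleton_subset_iff.2 hxA)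
  have h3 : Subgroup.centralizer (H : Set G) ≤ Subgroup.centralizer (A : Set G) := Subgroup.centralizer_le hA
  have h4 : Subgroup.centralizer {x} ≤ Subgroup.centralizer (H : Set G) := by
    intro g hg
    rw [Subgroup.mem_centralizer_iff]
    intro y hy
    exact hx x (hA hxA) hxo' y (Subgroup.mem_centralizer_singleton_iff.2 (hH y hy x (hA hxA))) g hg
  exact ⟨x, hxA, hxo', le_antisymm h2 (h4.trans h3), le_antisymm (h3.trans h2) h4⟩

section
variable {K : Type*} [Field K] [Fintype K] {G : Type*} [Group G] [Finite G] {B T U : Subgroup G} {n : G} (R : RA K B T U n)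
include R

theorem cyc_comm {H : Subgroup G} (hH : IsCyclic H) : ∀ x ∈ H, ∀ y ∈ H, x * y = y * x := fun x hx y hy =>
  congrArg Subtype.val ((IsCyclic.isMulCommutative (α := H)).is_comm.comm (⟨x, hx⟩ : H) ⟨y, hy⟩)

theorem RA.conj_T_comm (g : G) : ∀ u ∈ T.map (MulAut.conj g).toMonoidHom, ∀ v ∈ T.map (MulAut.conj g).toMonoidHom, u * v = v * u := by
  rintro _ ⟨s, hs, rfl⟩ _ ⟨t, ht, rfl⟩
  rw [← map_mul, R.Tcomm hs ht, map_mul]

theorem RA.torus_cent (H : Subgroup G) (hH : IsCyclic H) :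
    (Nat.card H = (Fintype.card K - 1) / 2 →
      IsCyclic ↥(Subgroup.centralizer (H : Set G)) ∧ Nat.card ↥(Subgroup.centralizer (H : Set G)) = Fintype.card K - 1 ∧
        ∀ A : Subgroup G, A ≤ H → A ≠ ⊥ → Subgroup.centralizer (A : Set G) = Subgroup.centralizer (H : Set G)) ∧
    (Nat.card H = (Fintype.card K + 1) / 4 →
      IsMulCommutative ↥(Subgroup.centralizer (H : Set G)) ∧ Nat.card ↥(Subgroup.centralizer (H : Set G)) = Fintype.card K + 1 ∧
        (∀ x ∈ Subgroup.centralizer (H : Set G), orderOf x ≠ 4) ∧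
        ∀ A : Subgroup G, A ≤ H → A ≠ ⊥ → Subgroup.centralizer (A : Set G) = Subgroup.centralizer (H : Set G)) := by
  have hq := R.q27
  have h8 := R.mod8
  have hcomm := cyc_comm R hH
  have hord : ∀ x ∈ H, orderOf x ∣ Nat.card H := by
    intro x hx
    rw [← Subgroup.orderOf_mk x hx]
    exact orderOf_dvd_natCard _
  constructor
  · intro hc
    have hodd : ¬ 2 ∣ Nat.card H := by rw [hc]; omega
    have hdvd : Nat.card H ∣ Fintype.card K - 1 := by
      rw [hc]; exact ⟨2, by omega⟩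
    have key : ∀ x ∈ H, (orderOf x).Prime → ∃ g : G, Subgroup.centralizer {x} = T.map (MulAut.conj g).toMonoidHom := by
      intro x hx hxo
      obtain ⟨g, hg, -⟩ := R.split hxo (fun h => hodd (h ▸ hord x hx)) ((hord x hx).trans hdvd) (pow_orderOf_eq_one x)
        (fun h => by rw [h, orderOf_one] at hxo; exact Nat.not_prime_one hxo)
      exact ⟨g, hg⟩
    have hH1 : H ≠ ⊥ := by
      intro h
      rw [h, Subgroup.card_bot] at hc
      omega
    have hab : ∀ x ∈ H, (orderOf x).Prime → ∀ u ∈ Subgroup.centralizer {x}, ∀ v ∈ Subgroup.centralizer {x}, u * v = v * u := by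
      intro x hx hxo
      obtain ⟨g, hg⟩ := key x hx hxo
      rw [hg]
      exact R.conj_T_comm g
    obtain ⟨x, hx, hxo, hx1, hx2⟩ := cent_eq hcomm hab le_rfl hH1
    obtain ⟨g, hg⟩ := key x hx hxo
    refine ⟨?_, ?_, ?_⟩
    · rw [hx1, hg]
      haveI := R.cyc
      exact isCyclic_of_surjective (T.equivMapOfInjective _ (MulAut.conj g).injective) (T.equivMapOfInjective _ (MulAut.conj g).injective).surjective
    · rw [hx1, hg, Subgroup.card_map_of_injective (MulAut.conj g).injective, R.cardT]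
    · intro A hA hA1
      obtain ⟨y, hy, hyo, hy1, hy2⟩ := cent_eq hcomm hab hA hA1
      rw [hy1, hy2]
  · intro hc
    have hodd : ¬ 2 ∣ Nat.card H := by rw [hc]; omega
    have hdvd : Nat.card H ∣ Fintype.card K + 1 := by
      rw [hc]; exact ⟨4, by omega⟩
    have key : ∀ x ∈ H, (orderOf x).Prime → Nat.card ↥(Subgroup.centralizer {x}) = Fintype.card K + 1 ∧
      ∀ u ∈ Subgroup.centralizer {x}, ∀ v ∈ Subgroup.centralizer {x}, u * v = v * u := by
      intro x hx hxo
      obtain ⟨a, -, -, -, -, h1, h2⟩ := R.ell hxo (fun h => hodd (h ▸ hord x hx)) ((hord x hx).trans hdvd) (pow_orderOf_eq_one x)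
        (fun h => by rw [h, orderOf_one] at hxo; exact Nat.not_prime_one hxo)
      exact ⟨h1, h2⟩
    have hH1 : H ≠ ⊥ := by
      intro h
      rw [h, Subgroup.card_bot] at hc
      omega
    obtain ⟨x, hx, hxo, hx1, hx2⟩ := cent_eq hcomm (fun x hx hxo => (key x hx hxo).2) le_rfl hH1
    refine ⟨?_, ?_, ?_, ?_⟩
    · rw [hx1]
      exact ⟨⟨fun u v => Subtype.ext ((key x hx hxo).2 u u.2 v v.2)⟩⟩
    · rw [hx1]; exact (key x hx hxo).1
    · intro y _; exact R.no_four y
    · intro A hA hA1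
      obtain ⟨y, hy, hyo, hy1, hy2⟩ := cent_eq hcomm (fun x hx hxo => (key x hx hxo).2) hA hA1
      rw [hy1, hy2]

end

end Cfsg.Agent.H5.Ree
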