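import Mathlib
import Cfsg.Agent.H6.TwReeF
import Cfsg.Agent.S1059
set_option autoImplicit false
set_option maxHeartbeats 400000

/-! Regular torus elements of Chevalley groups. -/

namespace Cfsg.Agent.H5.Ree
open Cfsg.Lie Matrix Cfsg Cfsg.Agent.H6

section
variable {D : ChevalleyDatum} {N : ℕ} {η : ℕ → ℕ → ℤ} {rc : ℕ → ℕ → ℤ} {F : Type*} [Field F] (hG : Good D N η rc) (hE : Ext D rc)
include hG hE

/-- a regular torus element has no fixed points on the unipotent subgroup -/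
theorem reg_fix {h : GL D.Idx F} {χ : Fin D.nroots → Fˣ} (hm : Mon hG (xg D F) h 1 χ) (hreg : ∀ r, χ r ≠ 1)
    {u : GL D.Idx F} (hu : u ∈ D.posUnipotent F) (hc : h * u * h⁻¹ = u) : u = 1 := by
  obtain ⟨t, rfl⟩ := (hG.mem_pos_iff hE).1 hu
  rw [hG.conj_op hm] at hc
  have hN : N + N = D.nroots := by rw [hG.nroots_eq]; omega
  have h1 := hG.op_inj hE _ _ N N hN le_rfl hc
  have h2 : ∀ r, N ≤ r → r < D.nroots → t r = 0 := by
    intro r hr hr'
    have h3 := h1 r hr hr'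
    rw [dif_pos hr'] at h3
    by_contra hne
    apply hreg ⟨r, hr'⟩
    apply Units.ext
    rw [Units.val_one]
    exact mul_right_cancel₀ hne (h3.trans (one_mul _).symm)
  have h3 : op (xg D F) t N N = op (xg D F) (fun _ => 0) N N := op_congr _ (fun r hr hr' => h2 r hr (by omega))
  rw [h3]
  unfold op
  apply List.prod_eq_one
  intro x hx
  rw [List.mem_map] at hx
  obtain ⟨r, -, rfl⟩ := hx
  exact hG.xg_zero r

/-- conjugating regular torus elements into each other -/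
theorem reg_mono {h₁ h₂ g : GL D.Idx F} (h1 : h₁ ∈ D.diagonalSubgroup F) (h2 : h₂ ∈ D.diagonalSubgroup F)
    (r1 : ∀ u ∈ D.posUnipotent F, h₁ * u * h₁⁻¹ = u → u = 1) (r2 : ∀ u ∈ D.posUnipotent F, h₂ * u * h₂⁻¹ = u → u = 1)
    (hg : g ∈ D.group F) (hc : g * h₁ * g⁻¹ = h₂) : g ∈ D.monomialSubgroup F := by
  obtain ⟨b, hb, n, hn, w, χ, hm, u, hu, rfl⟩ := hG.canon hE hg
  have hc' : b * n * u * h₁ = h₂ * (b * n * u) := by rw [← hc]; group
  have hu2 : h₁⁻¹ * u * h₁ ∈ US (xg D F) (hG.Um w) := by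
    have hh : h₁⁻¹ ∈ HA D (xg D F) := by rw [hG.HA_eq]; exact inv_mem h1
    obtain ⟨χ', hm'⟩ := hG.HA_mon (hG.rdn hE) hh
    have := hm'.mem_US (S := hG.Um w) (T := hG.Um w) (fun r hr => hr.1) (fun r hr => hr) hu
    rwa [inv_inv] at this
  have hb2 : b * (n * h₁ * n⁻¹) ∈ D.borelSubgroup F :=
    mul_mem hb (Subgroup.mem_sup_right (hG.diagonal_normal_monomial hE hn h1))
  have hb3 : h₂ * b ∈ D.borelSubgroup F := mul_mem (Subgroup.mem_sup_right h2) hb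
  have he : (b * (n * h₁ * n⁻¹)) * n * (h₁⁻¹ * u * h₁) = (h₂ * b) * n * u := by
    calc (b * (n * h₁ * n⁻¹)) * n * (h₁⁻¹ * u * h₁) = b * n * u * h₁ := by group
      _ = _ := by rw [hc']; group
  obtain ⟨h3, h3'⟩ := hG.canon_unique hE hb2 hb3 hm hu2 hu he
  have hupos : u ∈ D.posUnipotent F := by
    rw [show D.posUnipotent F = US (xg D F) (posS D N) from (hG.posUnipotent_eq_US)]
    exact US_mono (hG.Um_sub w) hu
  have hu1 : u = 1 := r1 u hupos (by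
    calc h₁ * u * h₁⁻¹ = h₁ * (h₁⁻¹ * u * h₁) * h₁⁻¹ := by rw [h3']
      _ = u := by group)
  obtain ⟨v, hv, t, ht, rfl⟩ := hG.mem_borel_iff.1 hb
  -- compare the torus parts
  have h4 : v⁻¹ * (h₂ * v * h₂⁻¹) = t * (n * h₁ * n⁻¹) * t⁻¹ * h₂⁻¹ := by
    have h5 : v⁻¹ * (v * t * (n * h₁ * n⁻¹)) * t⁻¹ * h₂⁻¹ = v⁻¹ * (h₂ * (v * t)) * t⁻¹ * h₂⁻¹ := by rw [h3]
    calc v⁻¹ * (h₂ * v * h₂⁻¹) = v⁻¹ * (h₂ * (v * t)) * t⁻¹ * h₂⁻¹ := by group
      _ = _ := by rw [← h5]; group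
  have hn1 := hG.diagonal_normal_monomial hE hn h1
  have h6 : v⁻¹ * (h₂ * v * h₂⁻¹) ∈ D.posUnipotent F ⊓ D.diagonalSubgroup F := by
    refine Subgroup.mem_inf.2 ⟨mul_mem (inv_mem hv) (hG.diagonal_conj_pos h2 hv), ?_⟩
    rw [h4]
    exact mul_mem (mul_mem (mul_mem ht hn1) (inv_mem ht)) (inv_mem h2)
  rw [hG.pos_inf_diagonal, Subgroup.mem_bot, inv_mul_eq_one] at h6
  have hv1 : v = 1 := r2 v hv h6.symm
  rw [hu1, hv1, one_mul, mul_one]
  exact mul_mem (Subgroup.mem_sup_left ht) hn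

/-- characters of a conjugate torus element -/
theorem mon_char {n h h' : GL D.Idx F} {w : hG.W} {χn χ χ' : Fin D.nroots → Fˣ} (hn : Mon hG (xg D F) n w χn)
    (hh : Mon hG (xg D F) h 1 χ) (hh' : Mon hG (xg D F) h' 1 χ') (he : n * h * n⁻¹ = h') (r : Fin D.nroots) : χ' (w.1 r) = χ r := by
  have h1 := hn.act r 1
  have h2 := hh.act r 1
  have h3 := hh'.act (w.1 r) ((χn r : F) * 1)
  have h4 := hn.act r ((χ r : F) * 1)
  have h5 : h' * (n * xg D F r 1 * n⁻¹) * h'⁻¹ = n * (h * xg D F r 1 * h⁻¹) * n⁻¹ := by rw [← he]; group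
  rw [h1, h2] at h5
  have h6 : xg D F (w.1 r) ((χ' (w.1 r) : F) * ((χn r : F) * 1)) = xg D F (w.1 r) ((χn r : F) * ((χ r : F) * 1)) := by
    exact h3.symm.trans (h5.trans h4)
  have h7 := hG.xg_inj' hE (w.1 r).2 h6
  apply Units.ext
  have h8 : (χn r : F) ≠ 0 := (χn r).ne_zero
  apply mul_right_cancel₀ h8
  linear_combination h7

end

end Cfsg.Agent.H5.Ree
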