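import Mathlib
import Cfsg.Agent.H5.Ree16
import Cfsg.Agent.H5.Ree1
set_option autoImplicit false
set_option maxHeartbeats 400000
set_option maxRecDepth 10000

/-! The Weyl group of type `G₂` and its action on the torus. -/

namespace Cfsg.Agent.H5.Ree
open Cfsg.Lie Matrix Cfsg Cfsg.Agent.H6 Cfsg.Agent.H6.WG2

abbrev GG := TG2.good
theorem rk2 : chevG2.rank = 2 := by decide +kernel
noncomputable def i0 : Fin chevG2.rank := ⟨0, by rw [rk2]; norm_num⟩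
noncomputable def i1 : Fin chevG2.rank := ⟨1, by rw [rk2]; norm_num⟩
noncomputable def s0 : GG.W := GG.s i0
noncomputable def s1 : GG.W := GG.s i1

theorem s0_app (r : Fin chevG2.nroots) : ((s0.1 r : Fin chevG2.nroots) : ℕ) = chevG2.reflectRoot 0 r := rfl
theorem s1_app (r : Fin chevG2.nroots) : ((s1.1 r : Fin chevG2.nroots) : ℕ) = chevG2.reflectRoot 1 r := rfl

theorem w_ext {w w' : GG.W} (h : ∀ r : Fin chevG2.nroots, ((w.1 r : Fin chevG2.nroots) : ℕ) = (w'.1 r : Fin chevG2.nroots)) : w = w' := by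
  apply Subtype.ext
  apply Equiv.ext
  intro r
  exact Fin.ext (h r)

theorem s0_sq : s0 * s0 = 1 := by
  apply w_ext
  have h : ∀ r < 12, chevG2.reflectRoot 0 (chevG2.reflectRoot 0 r) = r := by decide +kernel
  intro r
  exact h r (by rw [← nr]; exact r.2)

theorem s1_sq : s1 * s1 = 1 := by
  apply w_ext
  have h : ∀ r < 12, chevG2.reflectRoot 1 (chevG2.reflectRoot 1 r) = r := by decide +kernel
  intro r
  exact h r (by rw [← nr]; exact r.2)

theorem rho_app (r : Fin chevG2.nroots) : (((s0 * s1).1 r : Fin chevG2.nroots) : ℕ) = chevG2.reflectRoot 0 (chevG2.reflectRoot 1 r) := rfl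

theorem mul_app (w w' : GG.W) (r : Fin chevG2.nroots) : (w * w').1 r = w.1 (w'.1 r) := rfl

theorem rho_six : (s0 * s1) ^ 6 = 1 := by
  apply w_ext
  have h : ∀ r < 12, chevG2.reflectRoot 0 (chevG2.reflectRoot 1 (chevG2.reflectRoot 0 (chevG2.reflectRoot 1
    (chevG2.reflectRoot 0 (chevG2.reflectRoot 1 (chevG2.reflectRoot 0 (chevG2.reflectRoot 1
    (chevG2.reflectRoot 0 (chevG2.reflectRoot 1 (chevG2.reflectRoot 0 (chevG2.reflectRoot 1 r))))))))))) = r := by decide +kernel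
  intro r
  have h1 := h r (by rw [← nr]; exact r.2)
  generalize hρ : s0 * s1 = ρ
  have hr : ∀ r : Fin chevG2.nroots, ((ρ.1 r : Fin chevG2.nroots) : ℕ) = chevG2.reflectRoot 0 (chevG2.reflectRoot 1 r) := by
    rw [← hρ]; exact rho_app
  have e : ρ ^ 6 = ρ * (ρ * (ρ * (ρ * (ρ * ρ)))) := by
    simp only [pow_succ, pow_zero, one_mul, mul_assoc]
  rw [e, mul_app, mul_app, mul_app, mul_app, mul_app, hr, hr, hr, hr, hr, hr]
  exact h1

theorem s0_rho (k : ℕ) : s0 * (s0 * s1) ^ k = (s0 * s1) ^ (5 * k) * s0 := by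
  have h0 : s0⁻¹ = s0 := inv_eq_of_mul_eq_one_left s0_sq
  have h1 : s1⁻¹ = s1 := inv_eq_of_mul_eq_one_left s1_sq
  have h2 : s0 * (s0 * s1) * s0⁻¹ = (s0 * s1)⁻¹ := by
    rw [_root_.mul_inv_rev, h0, h1, ← mul_assoc, s0_sq, one_mul]
  have h3 : s0 * (s0 * s1) ^ k * s0⁻¹ = ((s0 * s1) ^ k)⁻¹ := by rw [← conj_pow, h2, inv_pow]
  have h4 : ((s0 * s1) ^ k)⁻¹ = (s0 * s1) ^ (5 * k) := by
    rw [inv_eq_iff_mul_eq_one, ← pow_add, show k + 5 * k = 6 * k by ring, pow_mul, rho_six, one_pow]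
  rw [h4] at h3
  exact mul_inv_eq_iff_eq_mul.1 h3

theorem w_cases (w : GG.W) : (∃ k, w = (s0 * s1) ^ k) ∨ (∃ k, w = (s0 * s1) ^ k * s0) := by
  induction w using GG.W_induction with
  | one => left; exact ⟨0, (pow_zero _).symm⟩
  | mul i w ih =>
    have hi : GG.s i = s0 ∨ GG.s i = s1 := by
      have h2 : (i : ℕ) < 2 := by rw [← rk2]; exact i.2
      rcases Nat.lt_succ_iff_lt_or_eq.1 h2 with h | h
      · left
        have : i = i0 := Fin.ext (by show (i : ℕ) = 0; omega)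
        rw [this]; rfl
      · right
        have : i = i1 := Fin.ext h
        rw [this]; rfl
    have e1 : s1 = s0 * (s0 * s1) := by rw [← mul_assoc, s0_sq, one_mul]
    rcases hi with hi | hi <;> rw [hi] <;> rcases ih with ⟨k, rfl⟩ | ⟨k, rfl⟩
    · right; exact ⟨5 * k, s0_rho k⟩
    · left
      refine ⟨5 * k, ?_⟩
      rw [← mul_assoc, s0_rho, mul_assoc, s0_sq, mul_one]
    · right
      refine ⟨5 * (k + 1), ?_⟩
      rw [← s0_rho, pow_succ', ← mul_assoc s0, ← e1]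
    · left
      refine ⟨5 * (k + 1), ?_⟩
      have : s1 * (s0 * s1) ^ k = (s0 * s1) ^ (5 * (k + 1)) * s0 := by
        rw [← s0_rho, pow_succ', ← mul_assoc s0, ← e1]
      rw [← mul_assoc, this, mul_assoc, s0_sq, mul_one]

theorem refl_sq (k : ℕ) : ((s0 * s1) ^ k * s0) ^ 2 = 1 := by
  rw [pow_two]
  calc (s0 * s1) ^ k * s0 * ((s0 * s1) ^ k * s0) = (s0 * s1) ^ k * (s0 * (s0 * s1) ^ k) * s0 := by group
    _ = (s0 * s1) ^ k * ((s0 * s1) ^ (5 * k) * s0) * s0 := by rw [s0_rho]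
    _ = ((s0 * s1) ^ k * (s0 * s1) ^ (5 * k)) * (s0 * s0) := by group
    _ = 1 := by rw [s0_sq, mul_one, ← pow_add, show k + 5 * k = 6 * k by ring, pow_mul, rho_six, one_pow]

/-- exponent six -/
theorem w_six (w : GG.W) : w ^ 6 = 1 := by
  rcases w_cases w with ⟨k, rfl⟩ | ⟨k, rfl⟩
  · rw [← pow_mul, mul_comm, pow_mul, rho_six, one_pow]
  · have e : ((s0 * s1) ^ k * s0) ^ 6 = (((s0 * s1) ^ k * s0) ^ 2) ^ 3 := by rw [← pow_mul]
    rw [e, refl_sq, one_pow]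

/-- elements of order six -/
theorem w_order_six (w : GG.W) (h2 : w ^ 2 ≠ 1) (h3 : w ^ 3 ≠ 1) : w = s0 * s1 ∨ w = (s0 * s1) ^ 5 := by
  rcases w_cases w with ⟨k, rfl⟩ | ⟨k, rfl⟩
  · have hk : (s0 * s1) ^ k = (s0 * s1) ^ (k % 6) := by
      conv_lhs => rw [← Nat.div_add_mod k 6, pow_add, pow_mul, rho_six, one_pow, one_mul]
    have hlt : k % 6 < 6 := Nat.mod_lt _ (by norm_num)
    rw [hk] at h2 h3 ⊢
    generalize k % 6 = j at *
    interval_cases j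
    · simp at h2
    · left; exact pow_one _
    · exfalso; apply h3; rw [← pow_mul]; exact rho_six
    · exfalso; apply h2; rw [← pow_mul]; exact rho_six
    · exfalso; apply h3; rw [← pow_mul]; exact (pow_mul (s0 * s1) 6 2).trans (by rw [rho_six, one_pow])
    · right; rfl
  · exact absurd (refl_sq k) h2

/-- root indices -/
noncomputable def rt (r : ℕ) (h : r < 12) : Fin chevG2.nroots := ⟨r, by rw [nr]; exact h⟩

theorem rho_vals : (s0 * s1).1 (rt 7 (by norm_num)) = rt 9 (by norm_num) ∧ (s0 * s1).1 (rt 9 (by norm_num)) = rt 8 (by norm_num) := by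
  have h : chevG2.reflectRoot 0 (chevG2.reflectRoot 1 7) = 9 ∧ chevG2.reflectRoot 0 (chevG2.reflectRoot 1 9) = 8 := by decide +kernel
  exact ⟨Fin.ext h.1, Fin.ext h.2⟩

theorem rho5_vals : ((s0 * s1) ^ 5).1 (rt 9 (by norm_num)) = rt 7 (by norm_num) ∧ ((s0 * s1) ^ 5).1 (rt 8 (by norm_num)) = rt 9 (by norm_num) := by
  have e : (s0 * s1) ^ 5 = (s0 * s1)⁻¹ := by rw [eq_inv_iff_mul_eq_one, ← pow_succ]; exact rho_six
  obtain ⟨h1, h2⟩ := rho_vals
  rw [e]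
  constructor
  · rw [← h1]
    exact (s0 * s1).1.symm_apply_apply _
  · rw [← h2]
    exact (s0 * s1).1.symm_apply_apply _

section
variable {F : Type*} [Field F]

/-- characters of the torus of `G₂` -/
noncomputable def ch (c : Fin 2 → Fˣ) (r : Fin chevG2.nroots) : Fˣ := c 0 ^ chevG2.cartan 0 r * c 1 ^ chevG2.cartan 1 r

theorem mon_P (c : Fin 2 → Fˣ) : Mon GG (xg chevG2 F) (PhiH chevG2 F 2 c) 1 (ch c) := by
  have h := GG.mon_PhiH (F := F) c
  have h2 : (fun r : Fin chevG2.nroots => ∏ k : Fin chevG2.rank, c k ^ chevG2.cartan k r) = ch c := by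
    funext r
    change (∏ k : Fin 2, c k ^ chevG2.cartan k r) = _
    rw [Fin.prod_univ_two]; rfl
  rw [← h2]; exact h

theorem ch_vals (c : Fin 2 → Fˣ) : ch c (rt 6 (by norm_num)) = c 0 ^ (-3 : ℤ) * c 1 ^ (2 : ℤ) ∧ ch c (rt 7 (by norm_num)) = c 0 ^ (2 : ℤ) * c 1 ^ (-1 : ℤ) ∧
    ch c (rt 8 (by norm_num)) = c 0 ^ (-1 : ℤ) * c 1 ^ (1 : ℤ) ∧ ch c (rt 9 (by norm_num)) = c 0 ^ (1 : ℤ) * c 1 ^ (0 : ℤ) ∧
    ch c (rt 10 (by norm_num)) = c 0 ^ (3 : ℤ) * c 1 ^ (-1 : ℤ) ∧ ch c (rt 11 (by norm_num)) = c 0 ^ (0 : ℤ) * c 1 ^ (1 : ℤ) := by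
  obtain ⟨h6, h7, h8, h9, h10, h11⟩ := cart
  rw [Prod.mk.injEq] at h6 h7 h8 h9 h10 h11
  refine ⟨?_, ?_, ?_, ?_, ?_, ?_⟩
  · show c 0 ^ chevG2.cartan 0 6 * c 1 ^ chevG2.cartan 1 6 = _
    rw [h6.1, h6.2]
  · show c 0 ^ chevG2.cartan 0 7 * c 1 ^ chevG2.cartan 1 7 = _
    rw [h7.1, h7.2]
  · show c 0 ^ chevG2.cartan 0 8 * c 1 ^ chevG2.cartan 1 8 = _
    rw [h8.1, h8.2]
  · show c 0 ^ chevG2.cartan 0 9 * c 1 ^ chevG2.cartan 1 9 = _
    rw [h9.1, h9.2]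
  · show c 0 ^ chevG2.cartan 0 10 * c 1 ^ chevG2.cartan 1 10 = _
    rw [h10.1, h10.2]
  · show c 0 ^ chevG2.cartan 0 11 * c 1 ^ chevG2.cartan 1 11 = _
    rw [h11.1, h11.2]

theorem mem_diag_P {g : GL chevG2.Idx F} : g ∈ chevG2.diagonalSubgroup F ↔ ∃ c : Fin 2 → Fˣ, g = PhiH chevG2 F 2 c := by
  rw [← GG.range_PhiH (F := F) rk2]
  constructor
  · rintro ⟨c, rfl⟩; exact ⟨c, rfl⟩
  · rintro ⟨c, rfl⟩; exact ⟨c, rfl⟩

/-- the relation between the two coordinates -/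
theorem tor_rel {n : GL chevG2.Idx F} {w : GG.W} {χn : Fin chevG2.nroots → Fˣ} (hn : Mon GG (xg chevG2 F) n w χn)
    (hw : w = s0 * s1 ∨ w = (s0 * s1) ^ 5) {c : Fin 2 → Fˣ} {q : ℕ} (he : n * PhiH chevG2 F 2 c * n⁻¹ = (PhiH chevG2 F 2 c) ^ q) :
    (c 0) ^ ((q : ℤ) ^ 2 - q + 1) = 1 ∧ ((w = s0 * s1 ∧ c 1 = c 0 ^ (2 - (q : ℤ))) ∨ (w = (s0 * s1) ^ 5 ∧ c 1 = c 0 ^ ((q : ℤ) + 1))) := by
  rw [← map_pow] at he
  have key := mon_char GG TG2.ext hn (mon_P c) (mon_P (c ^ q)) he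
  have hpow : ∀ r, ch (c ^ q) r = (ch c r) ^ q := by
    intro r
    unfold ch
    rw [Pi.pow_apply, Pi.pow_apply, mul_pow]
    congr 1
    · rw [← zpow_natCast, ← zpow_natCast, ← _root_.zpow_mul, ← _root_.zpow_mul, mul_comm]
    · rw [← zpow_natCast, ← zpow_natCast, ← _root_.zpow_mul, ← _root_.zpow_mul, mul_comm]
  obtain ⟨v6, v7, v8, v9, v10, v11⟩ := ch_vals c
  rcases hw with rfl | rfl
  · have k7 := key (rt 7 (by norm_num))
    have k9 := key (rt 9 (by norm_num))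
    rw [rho_vals.1, hpow, v9, v7] at k7
    rw [rho_vals.2, hpow, v8, v9] at k9
    have h1 : c 1 = c 0 ^ (2 - (q : ℤ)) := by
      rw [zpow_one, zpow_zero, mul_one, _root_.zpow_neg, zpow_one, eq_mul_inv_iff_mul_eq] at k7
      rw [_root_.zpow_sub, ← k7, zpow_natCast, mul_comm (c 0 ^ q), mul_assoc, mul_inv_cancel, mul_one]
    refine ⟨?_, Or.inl ⟨rfl, h1⟩⟩
    rw [h1, zpow_one, zpow_one, zpow_zero, mul_one, ← _root_.zpow_add, ← zpow_natCast, ← _root_.zpow_mul] at k9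
    have e : ((q : ℤ) ^ 2 - q + 1) = 1 - (-1 + (2 - (q : ℤ))) * q := by ring
    rw [e, _root_.zpow_sub, zpow_one, k9, mul_inv_cancel]
  · have k9 := key (rt 9 (by norm_num))
    have k8 := key (rt 8 (by norm_num))
    rw [rho5_vals.1, hpow, v7, v9] at k9
    rw [rho5_vals.2, hpow, v9, v8] at k8
    have h1 : c 1 = c 0 ^ ((q : ℤ) + 1) := by
      rw [zpow_one, zpow_zero, mul_one, zpow_one, _root_.zpow_neg, zpow_one, eq_inv_mul_iff_mul_eq] at k8
      rw [← k8, _root_.zpow_add, zpow_one, zpow_natCast, mul_comm]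
    refine ⟨?_, Or.inr ⟨rfl, h1⟩⟩
    rw [h1, ← _root_.zpow_mul, ← _root_.zpow_add, zpow_one, zpow_zero, mul_one, ← zpow_natCast, ← _root_.zpow_mul] at k9
    have e : ((q : ℤ) ^ 2 - q + 1) = 1 - (2 + (q + 1 : ℤ) * -1) * q := by ring
    rw [e, _root_.zpow_sub, zpow_one, k9, mul_inv_cancel]

theorem zp_ne {c : Fˣ} {p : ℕ} (hp : p.Prime) (hc : c ^ p = 1) (hc1 : c ≠ 1) {e : ℤ} (he : ¬ (p : ℤ) ∣ e) : c ^ e ≠ 1 := by
  intro h
  have h1 : orderOf c = p := orderOf_eq_prime_iff (hp := ⟨hp⟩) |>.2 ⟨hc, hc1⟩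
  apply he
  rw [← h1]
  exact orderOf_dvd_iff_zpow_eq_one.2 h

/-- regularity -/
theorem tor_reg {c : Fin 2 → Fˣ} {q p : ℕ} (hp : p.Prime) (hp3 : 3 < p) (hpq : (p : ℤ) ∣ (q : ℤ) ^ 2 - q + 1)
    (hrel : c 1 = c 0 ^ (2 - (q : ℤ)) ∨ c 1 = c 0 ^ ((q : ℤ) + 1)) (hc : c 0 ^ p = 1) (hc1 : c 0 ≠ 1) (r : Fin chevG2.nroots) : ch c r ≠ 1 := by
  have hpZ : Prime (p : ℤ) := Nat.prime_iff_prime_int.1 hp
  have h3 : ¬ (p : ℤ) ∣ 3 := by
    intro h
    have : p ∣ 3 := by exact_mod_cast h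
    have := Nat.le_of_dvd (by norm_num) this
    omega
  have h1' : ¬ (p : ℤ) ∣ 1 := by
    intro h
    have : p ∣ 1 := by exact_mod_cast h
    exact hp.one_lt.ne' (Nat.dvd_one.1 this)
  have d1 : ¬ (p : ℤ) ∣ (q : ℤ) := fun h => h1' (by
    have e : (1 : ℤ) = ((q : ℤ) ^ 2 - q + 1) - q * (q - 1) := by ring
    rw [e]; exact dvd_sub hpq (Dvd.dvd.mul_right h _))
  have d2 : ¬ (p : ℤ) ∣ (q : ℤ) - 1 := fun h => h1' (by
    have e : (1 : ℤ) = ((q : ℤ) ^ 2 - q + 1) - (q - 1) * q := by ring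
    rw [e]; exact dvd_sub hpq (Dvd.dvd.mul_right h _))
  have d3 : ¬ (p : ℤ) ∣ (q : ℤ) + 1 := fun h => h3 (by
    have e : (3 : ℤ) = ((q : ℤ) ^ 2 - q + 1) - (q + 1) * (q - 2) := by ring
    rw [e]; exact dvd_sub hpq (Dvd.dvd.mul_right h _))
  have d4 : ¬ (p : ℤ) ∣ (q : ℤ) - 2 := fun h => h3 (by
    have e : (3 : ℤ) = ((q : ℤ) ^ 2 - q + 1) - (q - 2) * (q + 1) := by ring
    rw [e]; exact dvd_sub hpq (Dvd.dvd.mul_right h _))
  have d5 : ¬ (p : ℤ) ∣ 2 * (q : ℤ) - 1 := fun h => h3 (by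
    have e : (3 : ℤ) = 4 * ((q : ℤ) ^ 2 - q + 1) - (2 * q - 1) * (2 * q - 1) := by ring
    rw [e]; exact dvd_sub (Dvd.dvd.mul_left hpq _) (Dvd.dvd.mul_right h _))
  obtain ⟨v6, v7, v8, v9, v10, v11⟩ := ch_vals c
  have Z : ∀ {e : ℤ}, ¬ (p : ℤ) ∣ e → c 0 ^ e ≠ 1 := fun he => zp_ne hp hc hc1 he
  -- positive roots
  have hpos : ∀ r : Fin chevG2.nroots, 6 ≤ (r : ℕ) → ch c r ≠ 1 := by
    intro r hr
    have hr2 : (r : ℕ) < 12 := by rw [← nr]; exact r.2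
    have hr' : r = rt r hr2 := Fin.ext rfl
    rw [hr']
    generalize (r : ℕ) = k at *
    interval_cases k
    · rw [v6]
      rcases hrel with h | h
      · rw [h, ← _root_.zpow_mul, ← _root_.zpow_add]
        exact Z (fun h => d5 (by
          have e : (2 * (q : ℤ) - 1) = -(-3 + (2 - (q : ℤ)) * 2) := by ring
          rw [e]; exact dvd_neg.2 h))
      · rw [h, ← _root_.zpow_mul, ← _root_.zpow_add]
        exact Z (fun h => d5 (by
          have e : (2 * (q : ℤ) - 1) = (-3 + ((q : ℤ) + 1) * 2) := by ring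
          rw [e]; exact h))
    · rw [v7]
      rcases hrel with h | h
      · rw [h, ← _root_.zpow_mul, ← _root_.zpow_add]
        exact Z (fun h => d1 (by
          have e : (q : ℤ) = (2 + (2 - (q : ℤ)) * -1) := by ring
          rw [e]; exact h))
      · rw [h, ← _root_.zpow_mul, ← _root_.zpow_add]
        exact Z (fun h => d2 (by
          have e : (q : ℤ) - 1 = -(2 + ((q : ℤ) + 1) * -1) := by ring
          rw [e]; exact dvd_neg.2 h))
    · rw [v8]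
      rcases hrel with h | h
      · rw [h, ← _root_.zpow_mul, ← _root_.zpow_add]
        exact Z (fun h => d2 (by
          have e : (q : ℤ) - 1 = -(-1 + (2 - (q : ℤ)) * 1) := by ring
          rw [e]; exact dvd_neg.2 h))
      · rw [h, ← _root_.zpow_mul, ← _root_.zpow_add]
        exact Z (fun h => d1 (by
          have e : (q : ℤ) = (-1 + ((q : ℤ) + 1) * 1) := by ring
          rw [e]; exact h))
    · rw [v9, zpow_zero, mul_one]
      exact Z h1'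
    · rw [v10]
      rcases hrel with h | h
      · rw [h, ← _root_.zpow_mul, ← _root_.zpow_add]
        exact Z (fun h => d3 (by
          have e : (q : ℤ) + 1 = (3 + (2 - (q : ℤ)) * -1) := by ring
          rw [e]; exact h))
      · rw [h, ← _root_.zpow_mul, ← _root_.zpow_add]
        exact Z (fun h => d4 (by
          have e : (q : ℤ) - 2 = -(3 + ((q : ℤ) + 1) * -1) := by ring
          rw [e]; exact dvd_neg.2 h))
    · rw [v11]
      rcases hrel with h | h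
      · rw [h, ← _root_.zpow_mul, ← _root_.zpow_add]
        exact Z (fun h => d4 (by
          have e : (q : ℤ) - 2 = -(0 + (2 - (q : ℤ)) * 1) := by ring
          rw [e]; exact dvd_neg.2 h))
      · rw [h, ← _root_.zpow_mul, ← _root_.zpow_add]
        exact Z (fun h => d3 (by
          have e : (q : ℤ) + 1 = (0 + ((q : ℤ) + 1) * 1) := by ring
          rw [e]; exact h))
  by_cases hr : 6 ≤ (r : ℕ)
  · exact hpos r hr
  · push Not at hr
    have h1 := (mon_P c).neg r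
    intro h2
    rw [h2, inv_one] at h1
    exact hpos _ ((GG.pos_ngf_iff r).2 hr) h1

end

end Cfsg.Agent.H5.Ree
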