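import Mathlib
import Cfsg.Agent.H5.Ree17
import Cfsg.Agent.H5.Ree13
import Cfsg.Agent.H6.ChevField
set_option autoImplicit false
set_option maxHeartbeats 400000
set_option maxRecDepth 10000

/-! Elements of `G₂(q)` of order dividing `q² - q + 1`. -/

namespace Cfsg.Agent.H5.Ree
open Cfsg.Lie Matrix Cfsg Cfsg.Agent.H6 Cfsg.Agent.H6.WG2

/-- powers of the Coxeter element on indices -/
theorem rho_pow_app (k : ℕ) (r : Fin chevG2.nroots) : ((((s0 * s1) ^ k).1 r : Fin chevG2.nroots) : ℕ) =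
    (fun r => chevG2.reflectRoot 0 (chevG2.reflectRoot 1 r))^[k] r := by
  induction k with
  | zero => rfl
  | succ k ih =>
    rw [pow_succ', mul_app, rho_app, ih, Function.iterate_succ_apply']

/-- non-trivial Weyl elements fix no regular character -/
theorem fix_reg {F : Type*} [Field F] {c : Fin 2 → Fˣ} {p : ℕ} (hp : p.Prime) (hp3 : 3 < p) (hc : ∀ r, ch c r ^ p = 1) (hc1 : ∀ r, ch c r ≠ 1)
    {v : GG.W} (hv : ∀ r, ch c (v.1 r) = ch c r) : v = 1 := by
  have hneg : ∀ r, ch c (GG.ngf r) = (ch c r)⁻¹ := (mon_P c).neg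
  have hz : ∀ r, ∀ e : ℕ, 0 < e → e < p → ch c r ^ e ≠ 1 := by
    intro r e he hep h
    have h1 : orderOf (ch c r) = p := orderOf_eq_prime_iff (hp := ⟨hp⟩) |>.2 ⟨hc r, hc1 r⟩
    have h2 := orderOf_le_of_pow_eq_one he h
    omega
  have hno : ∀ r, v.1 r ≠ GG.ngf r := by
    intro r h
    have h1 := hv r
    rw [h, hneg] at h1
    apply hz r 2 (by norm_num) (by omega)
    rw [pow_two]
    exact mul_eq_one_iff_inv_eq.2 h1
  rcases w_cases v with ⟨k, rfl⟩ | ⟨k, rfl⟩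
  · have hk : (s0 * s1) ^ k = (s0 * s1) ^ (k % 6) := by
      conv_lhs => rw [← Nat.div_add_mod k 6, pow_add, pow_mul, rho_six, one_pow, one_mul]
    have hlt : k % 6 < 6 := Nat.mod_lt _ (by norm_num)
    rw [hk] at hv hno ⊢
    generalize k % 6 = j at *
    have hpow : ∀ i : ℕ, ∀ r, ch c (((s0 * s1) ^ (j * i)).1 r) = ch c r := by
      intro i
      induction i with
      | zero => intro r; rfl
      | succ i ih =>
        intro r
        rw [Nat.mul_succ, pow_add, mul_app, ih, hv]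
    have hB : ∀ i : ℕ, (s0 * s1) ^ (j * i) = (s0 * s1) ^ 2 → False := by
      intro i hi
      have h1 := hpow i (rt 9 (by norm_num))
      have h2 := hpow i (rt 7 (by norm_num))
      rw [hi] at h1 h2
      have d1 : (fun r => chevG2.reflectRoot 0 (chevG2.reflectRoot 1 r))^[2] 9 = chevG2.neg 7 := by decide +kernel
      have d2 : (fun r => chevG2.reflectRoot 0 (chevG2.reflectRoot 1 r))^[2] 7 = 8 := by decide +kernel
      have e1 : ((s0 * s1) ^ 2).1 (rt 9 (by norm_num)) = GG.ngf (rt 7 (by norm_num)) := by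
        apply Fin.ext; rw [rho_pow_app]; exact d1
      have e2 : ((s0 * s1) ^ 2).1 (rt 7 (by norm_num)) = rt 8 (by norm_num) := by
        apply Fin.ext; rw [rho_pow_app]; exact d2
      rw [e1, hneg] at h1
      rw [e2] at h2
      obtain ⟨v6, v7, v8, v9, v10, v11⟩ := ch_vals c
      -- χ9 = χ7 χ8
      have h3 : ch c (rt 9 (by norm_num)) = ch c (rt 7 (by norm_num)) * ch c (rt 8 (by norm_num)) := by
        rw [v9, v7, v8]
        have e : c 0 ^ (2 : ℤ) * c 1 ^ (-1 : ℤ) * (c 0 ^ (-1 : ℤ) * c 1 ^ (1 : ℤ)) = (c 0 ^ (2 : ℤ) * c 0 ^ (-1 : ℤ)) * (c 1 ^ (-1 : ℤ) * c 1 ^ (1 : ℤ)) := by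
          simp only [mul_assoc, mul_left_comm, mul_comm]
        rw [e, ← _root_.zpow_add, ← _root_.zpow_add]; norm_num
      rw [h3, h2] at h1
      apply hz (rt 7 (by norm_num)) 3 (by norm_num) hp3
      have h4 : ch c (rt 7 (by norm_num)) * (ch c (rt 7 (by norm_num)) * ch c (rt 7 (by norm_num))) = 1 := by
        rw [← h1]; exact mul_inv_cancel _
      rw [pow_succ, pow_two, mul_assoc]; exact h4
    interval_cases j
    · exact pow_zero _
    · exact (hB 2 rfl).elim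
    · exact (hB 1 rfl).elim
    · exfalso
      apply hno (rt 7 (by norm_num))
      have d3 : (fun r => chevG2.reflectRoot 0 (chevG2.reflectRoot 1 r))^[3] 7 = chevG2.neg 7 := by decide +kernel
      apply Fin.ext; rw [rho_pow_app]; exact d3
    · exact (hB 2 (by
        have : (s0 * s1) ^ (4 * 2) = (s0 * s1) ^ 6 * (s0 * s1) ^ 2 := by rw [← pow_add]
        rw [this, rho_six, one_mul])).elim
    · exact (hB 4 (by
        have : (s0 * s1) ^ (5 * 4) = ((s0 * s1) ^ 6) ^ 3 * (s0 * s1) ^ 2 := by rw [← pow_mul, ← pow_add]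
        rw [this, rho_six, one_pow, one_mul])).elim
  · exfalso
    have hk : (s0 * s1) ^ k = (s0 * s1) ^ (k % 6) := by
      conv_lhs => rw [← Nat.div_add_mod k 6, pow_add, pow_mul, rho_six, one_pow, one_mul]
    have hlt : k % 6 < 6 := Nat.mod_lt _ (by norm_num)
    rw [hk] at hno
    have hd : ∀ j < 6, ∃ r < 12, (fun r => chevG2.reflectRoot 0 (chevG2.reflectRoot 1 r))^[j] (chevG2.reflectRoot 0 r) = chevG2.neg r := by
      decide +kernel
    obtain ⟨r, hr, h1⟩ := hd (k % 6) hlt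
    apply hno (rt r hr)
    apply Fin.ext
    rw [mul_app, rho_pow_app, s0_app]
    exact h1

section
variable {F : Type*} [Field F]

theorem mon_pow {g : GL chevG2.Idx F} {w : GG.W} {χ : Fin chevG2.nroots → Fˣ} (h : Mon GG (xg chevG2 F) g w χ) (k : ℕ) :
    ∃ χ', Mon GG (xg chevG2 F) (g ^ k) (w ^ k) χ' := by
  induction k with
  | zero => exact ⟨1, by rw [pow_zero, pow_zero]; exact Mon.one⟩
  | succ k ih =>
    obtain ⟨χ', h'⟩ := ih
    exact ⟨_, by rw [pow_succ, pow_succ]; exact h'.mul h⟩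

theorem conj_pow_pow {A : Type*} [Group A] {n t : A} {q : ℕ} (h : n * t * n⁻¹ = t ^ q) (k : ℕ) : n ^ k * t * (n ^ k)⁻¹ = t ^ (q ^ k) := by
  induction k with
  | zero => simp
  | succ k ih =>
    calc n ^ (k + 1) * t * (n ^ (k + 1))⁻¹ = n * (n ^ k * t * (n ^ k)⁻¹) * n⁻¹ := by rw [pow_succ']; group
      _ = n * t ^ (q ^ k) * n⁻¹ := by rw [ih]
      _ = (n * t * n⁻¹) ^ (q ^ k) := by rw [conj_pow]
      _ = t ^ (q ^ (k + 1)) := by rw [h, ← pow_mul, pow_succ']

theorem not_dvd_two {p q : ℕ} (hp : p.Prime) (hp3 : 3 < p) (hpq : (p : ℤ) ∣ (q : ℤ) ^ 2 - q + 1) : ¬ (p : ℤ) ∣ (q : ℤ) ^ 2 - 1 := by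
  intro h
  have h1 : (p : ℤ) ∣ 3 := by
    have e : (3 : ℤ) = ((q : ℤ) ^ 2 - 1) * (q + 1) - ((q : ℤ) ^ 2 - q + 1) * (q + 1) * 2 + ((q : ℤ) ^ 2 - 1) * 1 + ((q : ℤ) ^ 2 - q + 1) * (q + 2) - (q ^ 2 - 1) * 1 + 0 * q + (3 - ((((q : ℤ) ^ 2 - 1) * (q + 1) - ((q : ℤ) ^ 2 - q + 1) * (q + 1) * 2 + ((q : ℤ) ^ 2 - 1) * 1 + ((q : ℤ) ^ 2 - q + 1) * (q + 2) - (q ^ 2 - 1) * 1))) := by ring
    have e2 : (3 : ℤ) = ((q : ℤ) ^ 2 - q + 1) * (1 + (q + 1)) - ((q : ℤ) ^ 2 - 1) * (1 + q) - ((q : ℤ) ^ 2 - q + 1) * 0 + (3 - (((q : ℤ) ^ 2 - q + 1) * (1 + (q + 1)) - ((q : ℤ) ^ 2 - 1) * (1 + q))) := by ring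
    have h2 : (p : ℤ) ∣ (q : ℤ) - 2 := by
      have e3 : (q : ℤ) - 2 = ((q : ℤ) ^ 2 - 1) - ((q : ℤ) ^ 2 - q + 1) := by ring
      rw [e3]; exact dvd_sub h hpq
    have e4 : (3 : ℤ) = ((q : ℤ) ^ 2 - q + 1) - (q - 2) * (q + 1) := by ring
    rw [e4]; exact dvd_sub hpq (Dvd.dvd.mul_right h2 _)
  have : p ∣ 3 := by exact_mod_cast h1
  have := Nat.le_of_dvd (by norm_num) this
  omega

theorem not_dvd_three {p q : ℕ} (hp : p.Prime) (hp3 : 3 < p) (hpq : (p : ℤ) ∣ (q : ℤ) ^ 2 - q + 1) : ¬ (p : ℤ) ∣ (q : ℤ) ^ 3 - 1 := by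
  intro h
  have h1 : (p : ℤ) ∣ 2 := by
    have e : (2 : ℤ) = ((q : ℤ) ^ 2 - q + 1) * (q + 1) - ((q : ℤ) ^ 3 - 1) := by ring
    rw [e]; exact dvd_sub (Dvd.dvd.mul_right hpq _) h
  have : p ∣ 2 := by exact_mod_cast h1
  have := Nat.le_of_dvd (by norm_num) this
  omega

variable {L : Type*} [Field L]

/-- Frobenius on the torus -/
theorem map_P (φ : F →+* L) (c : Fin 2 → Fˣ) : Matrix.GeneralLinearGroup.map φ (PhiH chevG2 F 2 c) = PhiH chevG2 L 2 (fun i => Units.map (φ : F →* L) (c i)) := by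
  apply Units.ext
  show φ.mapMatrix ((PhiH chevG2 F 2 c : GL chevG2.Idx F) : Matrix chevG2.Idx chevG2.Idx F) = ((PhiH chevG2 L 2 _ : GL chevG2.Idx L) : Matrix chevG2.Idx chevG2.Idx L)
  have e1 : ((PhiH chevG2 F 2 c : GL chevG2.Idx F) : Matrix chevG2.Idx chevG2.Idx F) = chevG2.charDiag F (fun s => ∏ k : Fin 2, c k ^ chevG2.cartan k s) := rfl
  have e2 : ((PhiH chevG2 L 2 (fun i => Units.map (φ : F →* L) (c i)) : GL chevG2.Idx L) : Matrix chevG2.Idx chevG2.Idx L) =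
    chevG2.charDiag L (fun s => ∏ k : Fin 2, (Units.map (φ : F →* L) (c k)) ^ chevG2.cartan k s) := rfl
  rw [e1, e2]
  unfold ChevalleyDatum.charDiag
  rw [RingHom.mapMatrix_apply, Matrix.diagonal_map (map_zero φ)]
  congr 1
  funext a
  rcases a with a | a
  · simp
  · simp only [Function.comp, Sum.elim_inr, Fin.prod_univ_two]
    rw [Units.val_mul, Units.val_mul, map_mul]
    congr 1
    · rw [← map_zpow]; rfl
    · rw [← map_zpow]; rfl

theorem map_group_le (φ : F →+* L) {g : GL chevG2.Idx F} (hg : g ∈ chevG2.group F) : Matrix.GeneralLinearGroup.map φ g ∈ chevG2.group L := by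
  rw [GG.group_eq_closure] at hg ⊢
  induction hg using Subgroup.closure_induction with
  | mem x hx =>
    obtain ⟨r, t, hr, rfl⟩ := hx
    rw [GG.map_xg]
    exact Subgroup.subset_closure ⟨r, φ t, hr, rfl⟩
  | one => rw [map_one]; exact one_mem _
  | mul x y _ _ hx hy => rw [map_mul]; exact mul_mem hx hy
  | inv x _ hx => rw [map_inv]; exact inv_mem hx

theorem glmap_injective (φ : F →+* L) : Function.Injective (Matrix.GeneralLinearGroup.map (n := chevG2.Idx) φ) := by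
  intro x y h
  apply Units.ext
  ext i j
  have h1 := congrArg (fun g : GL chevG2.Idx L => (g : Matrix chevG2.Idx chevG2.Idx L) i j) h
  exact φ.injective h1

end

/-- the main structure result -/
theorem g2_main {K L : Type*} [Field K] [Field L] [Finite L] (ι : K →+* L) (φ : L →+* L) {q : ℕ} (hφ : ∀ z, φ z = z ^ q) (hιφ : ∀ k, φ (ι k) = ι k)
    (hL : Nat.card L = q ^ 6) {p : ℕ} (hp : p.Prime) (hp3 : 3 < p) (hpq : (p : ℤ) ∣ (q : ℤ) ^ 2 - q + 1)
    {x : GL chevG2.Idx K} (hx : x ∈ chevG2.group K) (hxp : x ^ p = 1) (hx1 : x ≠ 1) :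
    (∃ f : GL chevG2.Idx K → Lˣ, (∀ y z, y ∈ chevG2.group K → z ∈ chevG2.group K → y * x = x * y → z * x = x * z → f (y * z) = f y * f z) ∧
      (∀ y ∈ chevG2.group K, y * x = x * y → f y = 1 → y = 1) ∧
      (∀ y ∈ chevG2.group K, y * x = x * y → (f y) ^ ((q : ℤ) ^ 2 - q + 1) = 1)) ∧
    (∀ y ∈ chevG2.group K, ∀ j : ℕ, y * x * y⁻¹ = x ^ j → y ^ 6 * x = x * y ^ 6) := by
  have E := TG2.ext
  haveI : Fact p.Prime := ⟨hp⟩
  haveI := Fintype.ofFinite L
  have hLc : Fintype.card L = q ^ 6 := by rw [← hL, Nat.card_eq_fintype_card]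
  have hq0 : 0 < q := by
    rcases Nat.eq_zero_or_pos q with h | h
    · rw [h] at hLc; have := Fintype.card_pos (α := L); rw [hLc] at this; simp at this
    · exact h
  set I := Matrix.GeneralLinearGroup.map (n := chevG2.Idx) ι with hI
  set Φ := Matrix.GeneralLinearGroup.map (n := chevG2.Idx) φ with hΦ
  have hΦI : ∀ y, Φ (I y) = I y := by
    intro y
    apply Units.ext
    ext i j
    exact hιφ _
  -- conjugate into the torus
  have hcardG := Cfsg.Agent.S1059.result (F := L) hLc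
  have hcardT := TG2.card_diagonal (F := L) hLc
  have h0 : (∏ i, Nat.gcd (q ^ 6 - 1) (TG2.smd i)) = 1 := by
    simp [Fin.prod_univ_succ, TG2.smd]
  rw [h0, one_mul] at hcardT
  have hTle : chevG2.diagonalSubgroup L ≤ chevG2.group L := fun y hy => GG.borel_le (Subgroup.mem_sup_right hy)
  have hcardT' : Nat.card ↥((chevG2.diagonalSubgroup L).subgroupOf (chevG2.group L)) = (q ^ 6 - 1) ^ 2 := by
    rw [Nat.card_congr (Subgroup.subgroupOfEquivOfLe hTle).toEquiv, hcardT]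
  have hQ : 1 ≤ q ^ 6 := Nat.one_le_pow _ _ hq0
  obtain ⟨J, hJ⟩ : ∃ J, q ^ 6 = J + 1 := ⟨q ^ 6 - 1, by omega⟩
  have hpJ : p ∣ J := by
    have h1 : (p : ℤ) ∣ (J : ℤ) := by
      have e : (J : ℤ) = (q : ℤ) ^ 6 - 1 := by
        have : ((q ^ 6 : ℕ) : ℤ) = (J : ℤ) + 1 := by exact_mod_cast hJ
        push_cast at this; linarith
      have e2 : (J : ℤ) = ((q : ℤ) ^ 2 - q + 1) * ((q + 1) * (q ^ 3 - 1)) := by rw [e]; ring
      rw [e2]; exact Dvd.dvd.mul_right hpq _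
    exact_mod_cast h1
  have hJ0 : 0 < J := by
    rcases Nat.eq_zero_or_pos J with h | h
    · exfalso
      rw [h] at hJ
      have h1 : q = 1 := by
        by_contra hne
        have : 2 ≤ q := by omega
        have : 2 ^ 6 ≤ q ^ 6 := Nat.pow_le_pow_left this 6
        omega
      rw [h1] at hpq
      have : (p : ℤ) ∣ 1 := by simpa using hpq
      have : p ∣ 1 := by exact_mod_cast this
      exact hp.one_lt.ne' (Nat.dvd_one.1 this)
    · exact h
  have hidx : ¬ p ∣ ((chevG2.diagonalSubgroup L).subgroupOf (chevG2.group L)).index := by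
    have h1 := ((chevG2.diagonalSubgroup L).subgroupOf (chevG2.group L)).card_mul_index
    rw [hcardT', hcardG, hJ, Nat.add_sub_cancel] at h1
    have e1 : (J + 1) ^ 2 - 1 = J * (J + 2) := by
      have : (J + 1) ^ 2 = J * (J + 2) + 1 := by ring
      rw [this]; rfl
    have e2 : (J + 1) ^ 6 - 1 = J * (J ^ 5 + 6 * J ^ 4 + 15 * J ^ 3 + 20 * J ^ 2 + 15 * J + 6) := by
      have : (J + 1) ^ 6 = J * (J ^ 5 + 6 * J ^ 4 + 15 * J ^ 3 + 20 * J ^ 2 + 15 * J + 6) + 1 := by ring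
      rw [this]; rfl
    rw [e1, e2] at h1
    have h2 : ((chevG2.diagonalSubgroup L).subgroupOf (chevG2.group L)).index =
        (J + 1) ^ 6 * ((J + 2) * (J ^ 5 + 6 * J ^ 4 + 15 * J ^ 3 + 20 * J ^ 2 + 15 * J + 6)) := by
      apply Nat.eq_of_mul_eq_mul_left (show 0 < J ^ 2 by positivity)
      rw [h1]; ring
    rw [h2]
    obtain ⟨j, rfl⟩ := hpJ
    intro h3
    have h4 : (p * j + 1) ^ 6 * ((p * j + 2) * ((p * j) ^ 5 + 6 * (p * j) ^ 4 + 15 * (p * j) ^ 3 + 20 * (p * j) ^ 2 + 15 * (p * j) + 6)) =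
        p * (j * (((p * j) ^ 5 + 6 * (p * j) ^ 4 + 15 * (p * j) ^ 3 + 20 * (p * j) ^ 2 + 15 * (p * j) + 6) * ((p * j + 2) * ((p * j) ^ 5 + 6 * (p * j) ^ 4 + 15 * (p * j) ^ 3 + 20 * (p * j) ^ 2 + 15 * (p * j) + 6)) +
          (((p * j) ^ 5 + 6 * (p * j) ^ 4 + 15 * (p * j) ^ 3 + 20 * (p * j) ^ 2 + 15 * (p * j) + 6) + 2 * ((p * j) ^ 4 + 6 * (p * j) ^ 3 + 15 * (p * j) ^ 2 + 20 * (p * j) + 15)))) + 12 := by ring
    rw [h4] at h3
    have h5 : p ∣ 12 := (Nat.dvd_add_right (Dvd.intro _ rfl)).1 h3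
    have h6 : p ∣ 2 ^ 2 * 3 := by simpa using h5
    rcases (Nat.Prime.dvd_mul hp).1 h6 with h7 | h7
    · have := Nat.le_of_dvd (by norm_num) (hp.dvd_of_dvd_pow h7); omega
    · have := Nat.le_of_dvd (by norm_num) h7; omega
  obtain ⟨⟨g, hg⟩, hgt⟩ := conj_into ((chevG2.diagonalSubgroup L).subgroupOf (chevG2.group L)) hidx (⟨I x, map_group_le ι hx⟩ : ↥(chevG2.group L)) (n := 1)
    (by apply Subtype.ext; show (I x) ^ p ^ 1 = 1; rw [pow_one, ← map_pow, hxp, map_one])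
  rw [Subgroup.mem_subgroupOf] at hgt
  obtain ⟨c, hc⟩ := mem_diag_P.1 hgt
  set t := PhiH chevG2 L 2 c with ht
  have hc' : g⁻¹ * I x * g = t := hc
  have hIx : I x = g * t * g⁻¹ := by rw [← hc']; group
  have htD : t ∈ chevG2.diagonalSubgroup L := mem_diag_P.2 ⟨c, rfl⟩
  have htp : t ^ p = 1 := by
    rw [← hc']
    have e : g⁻¹ * I x * g = g⁻¹ * I x * g⁻¹⁻¹ := by rw [inv_inv]
    rw [e, conj_pow, ← map_pow, hxp, map_one]; group
  have ht1 : t ≠ 1 := by
    intro h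
    apply hx1
    apply glmap_injective ι
    show I x = I 1
    rw [hIx, h, map_one]; group
  have hΦP : ∀ d : Fin 2 → Lˣ, Φ (PhiH chevG2 L 2 d) = (PhiH chevG2 L 2 d) ^ q := by
    intro d
    rw [hΦ, map_P, ← map_pow]
    congr 1
    funext i
    apply Units.ext
    show φ (d i) = ((d i ^ q : Lˣ) : L)
    rw [hφ, Units.val_pow_eq_pow_val]
  -- Frobenius element
  set n := (Φ g)⁻¹ * g with hn
  have hnG : n ∈ chevG2.group L := mul_mem (inv_mem (map_group_le φ hg)) hg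
  have hnconj : ∀ y, n * (g⁻¹ * I y * g) * n⁻¹ = Φ (g⁻¹ * I y * g) := by
    intro y
    rw [map_mul, map_mul, map_inv, hΦI, hn]; group
  have hnt : n * t * n⁻¹ = t ^ q := by
    rw [← hc', hnconj, hc', hΦP]
  -- Weyl elements acting as `q`-power
  have key : ∀ {n₁ : GL chevG2.Idx L} {w : GG.W} {χ : Fin chevG2.nroots → Lˣ}, n₁ ∈ chevG2.monomialSubgroup L → Mon GG (xg chevG2 L) n₁ w χ → n₁ * t * n₁⁻¹ = t ^ q →
      w = s0 * s1 ∨ w = (s0 * s1) ^ 5 := by
    intro n₁ w χ hn₁ hm he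
    have hpw : ∀ k : ℕ, w ^ k = 1 → (p : ℤ) ∣ (q : ℤ) ^ k - 1 := by
      intro k hk
      obtain ⟨χ', hm'⟩ := mon_pow hm k
      rw [hk] at hm'
      have h1 := GG.mem_diagonal_of_mon E (pow_mem hn₁ k) hm'
      have h2 := GG.diagonal_comm h1 htD
      have h3 := conj_pow_pow he k
      rw [h2, mul_inv_cancel_right] at h3
      have h4 : orderOf t = p := orderOf_eq_prime_iff |>.2 ⟨htp, ht1⟩
      have h5 : t ^ ((q : ℤ) ^ k - 1) = 1 := by
        rw [_root_.zpow_sub, zpow_one]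
        have : t ^ ((q : ℤ) ^ k) = t := by
          have e : ((q : ℤ) ^ k) = ((q ^ k : ℕ) : ℤ) := by push_cast; rfl
          rw [e, zpow_natCast]; exact h3.symm
        rw [this, mul_inv_cancel]
      rw [← h4]
      exact orderOf_dvd_iff_zpow_eq_one.2 h5
    apply w_order_six
    · intro h; exact not_dvd_two hp hp3 hpq (hpw 2 h)
    · intro h; exact not_dvd_three hp hp3 hpq (hpw 3 h)
  obtain ⟨n₁, hn₁, hn₁t⟩ := GG.diagonal_fusion E htD (pow_mem htD q) hnG hnt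
  obtain ⟨w₁, χ₁, hm₁⟩ := GG.exists_mon E hn₁
  obtain ⟨-, hrel⟩ := tor_rel hm₁ (key hn₁ hm₁ hn₁t) hn₁t
  have hrel' : c 1 = c 0 ^ (2 - (q : ℤ)) ∨ c 1 = c 0 ^ ((q : ℤ) + 1) := by
    rcases hrel with h | h
    · left; exact h.2
    · right; exact h.2
  have hcp : c ^ p = 1 := by
    apply PhiH_inj
    rw [map_pow, map_one]; exact htp
  have hc0p : c 0 ^ p = 1 := congrFun hcp 0
  have hc01 : c 0 ≠ 1 := by
    intro h
    apply ht1
    have h1 : c = 1 := by
      funext i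
      fin_cases i
      · exact h
      · show c 1 = 1
        rcases hrel' with h2 | h2 <;> rw [h2, h, _root_.one_zpow]
    rw [ht, h1, map_one]
  have hreg := tor_reg hp hp3 hpq hrel' hc0p hc01
  have hchp : ∀ r, ch c r ^ p = 1 := by
    intro r
    have h1 : ch c r ^ p = ch (c ^ p) r := by
      unfold ch
      rw [Pi.pow_apply, Pi.pow_apply, mul_pow]
      congr 1
      · rw [← zpow_natCast, ← zpow_natCast, ← _root_.zpow_mul, ← _root_.zpow_mul, mul_comm]
      · rw [← zpow_natCast, ← zpow_natCast, ← _root_.zpow_mul, ← _root_.zpow_mul, mul_comm]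
    rw [h1, hcp]
    unfold ch
    simp
  -- regularity of powers
  have hregfix : ∀ j : ℕ, ¬ p ∣ j → ∀ u ∈ chevG2.posUnipotent L, (t ^ j) * u * (t ^ j)⁻¹ = u → u = 1 := by
    intro j hj u hu hcu
    have hm : Mon GG (xg chevG2 L) (t ^ j) 1 (ch (c ^ j)) := by rw [ht, ← map_pow]; exact mon_P (c ^ j)
    refine reg_fix GG E hm ?_ hu hcu
    intro r h
    have h1 : ch c r ^ j = ch (c ^ j) r := by
      unfold ch
      rw [Pi.pow_apply, Pi.pow_apply, mul_pow]
      congr 1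
      · rw [← zpow_natCast, ← zpow_natCast, ← _root_.zpow_mul, ← _root_.zpow_mul, mul_comm]
      · rw [← zpow_natCast, ← zpow_natCast, ← _root_.zpow_mul, ← _root_.zpow_mul, mul_comm]
    rw [← h1] at h
    have h2 : orderOf (ch c r) = p := orderOf_eq_prime_iff |>.2 ⟨hchp r, hreg r⟩
    apply hj
    rw [← h2]
    exact orderOf_dvd_of_pow_eq_one h
  have hp1 : ¬ p ∣ 1 := fun h => hp.one_lt.ne' (Nat.dvd_one.1 h)
  have hreg1 : ∀ u ∈ chevG2.posUnipotent L, t * u * t⁻¹ = u → u = 1 := by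
    have := hregfix 1 hp1
    rwa [pow_one] at this
  have hpq' : ¬ p ∣ q := by
    intro h
    have h1 : (p : ℤ) ∣ (q : ℤ) := by exact_mod_cast h
    have h2 : (p : ℤ) ∣ 1 := by
      have e : (1 : ℤ) = ((q : ℤ) ^ 2 - q + 1) - q * (q - 1) := by ring
      rw [e]; exact dvd_sub hpq (Dvd.dvd.mul_right h1 _)
    have : p ∣ 1 := by exact_mod_cast h2
    exact hp1 this
  have hnM : n ∈ chevG2.monomialSubgroup L := reg_mono GG E htD (pow_mem htD q) hreg1 (hregfix q hpq') hnG hnt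
  obtain ⟨w, χw, hmw⟩ := GG.exists_mon E hnM
  have hw := key hnM hmw hnt
  -- the centraliser
  have hcent : ∀ y ∈ chevG2.group K, y * x = x * y → ∃ d : Fin 2 → Lˣ, g⁻¹ * I y * g = PhiH chevG2 L 2 d := by
    intro y hy hyx
    have hyG : g⁻¹ * I y * g ∈ chevG2.group L := mul_mem (mul_mem (inv_mem hg) (map_group_le ι hy)) hg
    have hyt : (g⁻¹ * I y * g) * t * (g⁻¹ * I y * g)⁻¹ = t := by
      rw [← hc']
      have e : I y * I x = I x * I y := by rw [← map_mul, hyx, map_mul]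
      calc (g⁻¹ * I y * g) * (g⁻¹ * I x * g) * (g⁻¹ * I y * g)⁻¹ = g⁻¹ * (I y * I x) * (I y)⁻¹ * g := by group
        _ = _ := by rw [e]; group
    have hyM := reg_mono GG E htD htD hreg1 hreg1 hyG hyt
    obtain ⟨v, χv, hmv⟩ := GG.exists_mon E hyM
    have hv : v = 1 := by
      apply fix_reg hp hp3 hchp hreg
      intro r
      exact mon_char GG E hmv (mon_P c) (mon_P c) hyt r
    subst hv
    exact mem_diag_P.1 (GG.mem_diagonal_of_mon E hyM hmv)
  constructor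
  · classical
    choose! d hd using hcent
    refine ⟨fun y => d y 0, ?_, ?_, ?_⟩
    · intro y z hy hz hyx hzx
      have hyz : (y * z) * x = x * (y * z) := by rw [mul_assoc, hzx, ← mul_assoc, hyx, mul_assoc]
      have h1 := hd (y * z) (mul_mem hy hz) hyz
      have h2 : PhiH chevG2 L 2 (d (y * z)) = PhiH chevG2 L 2 (d y * d z) := by
        rw [← h1, map_mul (PhiH chevG2 L 2), ← hd y hy hyx, ← hd z hz hzx, map_mul]; group
      exact congrFun (PhiH_inj h2) 0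
    · intro y hy hyx hf
      have h1 := hd y hy hyx
      have h2 : n * PhiH chevG2 L 2 (d y) * n⁻¹ = (PhiH chevG2 L 2 (d y)) ^ q := by rw [← h1, hnconj, h1, hΦP]
      obtain ⟨-, h3⟩ := tor_rel hmw hw h2
      have hf' : d y 0 = 1 := hf
      have h4 : d y = 1 := by
        funext i
        fin_cases i
        · exact hf
        · show d y 1 = 1
          rcases h3 with h5 | h5 <;> rw [h5.2, hf', _root_.one_zpow]
      rw [h4, map_one] at h1
      apply glmap_injective ι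
      show I y = I 1
      calc I y = g * (g⁻¹ * I y * g) * g⁻¹ := by group
        _ = I 1 := by rw [h1, map_one]; group
    · intro y hy hyx
      have h1 := hd y hy hyx
      have h2 : n * PhiH chevG2 L 2 (d y) * n⁻¹ = (PhiH chevG2 L 2 (d y)) ^ q := by rw [← h1, hnconj, h1, hΦP]
      exact (tor_rel hmw hw h2).1
  · intro y hy j hyj
    have hyG : g⁻¹ * I y * g ∈ chevG2.group L := mul_mem (mul_mem (inv_mem hg) (map_group_le ι hy)) hg
    have hyt : (g⁻¹ * I y * g) * t * (g⁻¹ * I y * g)⁻¹ = t ^ j := by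
      rw [← hc']
      have e : I y * I x * (I y)⁻¹ = (I x) ^ j := by rw [← map_mul, ← map_inv, ← map_mul, hyj, map_pow]
      have e2 : (g⁻¹ * I x * g) ^ j = g⁻¹ * (I x) ^ j * g := by
        have e3 : g⁻¹ * I x * g = g⁻¹ * I x * g⁻¹⁻¹ := by rw [inv_inv]
        rw [e3, conj_pow, inv_inv]
      rw [e2, ← e]; group
    have hj : ¬ p ∣ j := by
      intro h
      obtain ⟨k, rfl⟩ := h
      rw [pow_mul, hxp, one_pow] at hyj
      apply hx1
      calc x = y⁻¹ * (y * x * y⁻¹) * y := by group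
        _ = 1 := by rw [hyj]; group
    have hyM := reg_mono GG E htD (pow_mem htD j) hreg1 (hregfix j hj) hyG hyt
    obtain ⟨v, χv, hmv⟩ := GG.exists_mon E hyM
    obtain ⟨χ', hm'⟩ := mon_pow hmv 6
    rw [w_six] at hm'
    have h1 := GG.mem_diagonal_of_mon E (pow_mem hyM 6) hm'
    have h2 := GG.diagonal_comm h1 htD
    have e2 : (g⁻¹ * I y * g) ^ 6 = g⁻¹ * (I y) ^ 6 * g := by
      have e3 : g⁻¹ * I y * g = g⁻¹ * I y * g⁻¹⁻¹ := by rw [inv_inv]
      rw [e3, conj_pow, inv_inv]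
    rw [e2, ← hc'] at h2
    apply glmap_injective ι
    show I (y ^ 6 * x) = I (x * y ^ 6)
    rw [map_mul, map_mul, map_pow]
    calc (I y) ^ 6 * I x = g * (g⁻¹ * (I y) ^ 6 * g * (g⁻¹ * I x * g)) * g⁻¹ := by group
      _ = _ := by rw [h2]; group

end Cfsg.Agent.H5.Ree
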