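import Mathlib
import Cfsg.Agent.H5.Ree11
import Cfsg.Agent.H5.Ree14
import Cfsg.Agent.H5.Ree18
set_option autoImplicit false
set_option maxHeartbeats 400000
set_option maxRecDepth 10000

/-! Cyclic tori. -/

namespace Cfsg.Agent.H5.Ree

section sl
open Matrix Cfsg.Agent.H16 Cfsg.Agent.H5
variable {F : Type*} [Field F] [Fintype F]

local notation "SL₂" => Matrix.SpecialLinearGroup (Fin 2) F
local notation "M₂" => Matrix (Fin 2) (Fin 2) F
local notation "PG" => Matrix.ProjectiveSpecialLinearGroup (Fin 2) F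
local notation "π'" => QuotientGroup.mk' (Subgroup.center (Matrix.SpecialLinearGroup (Fin 2) F))

omit [Fintype F] in
theorem ab_uniq {M : M₂} (hM : ¬ IsScal M) {a b c d : F} (h : a • (1 : M₂) + b • M = c • (1 : M₂) + d • M) : a = c ∧ b = d := by
  have e00 := congrFun (congrFun h 0) 0
  have e01 := congrFun (congrFun h 0) 1
  have e10 := congrFun (congrFun h 1) 0
  have e11 := congrFun (congrFun h 1) 1
  simp only [Matrix.add_apply, Matrix.smul_apply, smul_eq_mul, Matrix.one_apply_eq, mul_one, ne_eq, zero_ne_one, one_ne_zero,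
    not_false_eq_true, Matrix.one_apply_ne, mul_zero, zero_add] at e00 e01 e10 e11
  have hbd : b = d := by
    by_contra hne
    apply hM
    have hne' : b - d ≠ 0 := sub_ne_zero.2 hne
    refine ⟨?_, ?_, ?_⟩
    · apply mul_left_cancel₀ hne'; linear_combination e01
    · apply mul_left_cancel₀ hne'; linear_combination e10
    · apply mul_left_cancel₀ hne'; linear_combination e00 - e11
  refine ⟨?_, hbd⟩
  rw [hbd] at e00
  exact add_right_cancel e00

theorem cent_sl2_cyclic {x : SL₂} (hne : ∀ c : F, c ^ 2 - c * (x : M₂).trace + 1 ≠ 0) : IsCyclic ↥(Subgroup.centralizer ({x} : Set SL₂)) := by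
  classical
  have hns : ¬ IsScal (x : M₂) := not_isScal_of_noEig (by rw [x.2]; exact hne)
  set t := (x : M₂).trace with ht
  let L := AlgebraicClosure F
  obtain ⟨l, hl⟩ : ∃ l : L, l ^ 2 - algebraMap F L t * l + 1 = 0 := by
    let P : Polynomial L := Polynomial.X ^ 2 - Polynomial.C (algebraMap F L t) * Polynomial.X + Polynomial.C 1
    have hdeg : P.degree = 2 := by
      have : P = Polynomial.C 1 * Polynomial.X ^ 2 + Polynomial.C (-(algebraMap F L t)) * Polynomial.X + Polynomial.C 1 := by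
        simp only [P, Polynomial.C_neg, Polynomial.C_1]; ring
      rw [this]
      exact Polynomial.degree_quadratic one_ne_zero
    obtain ⟨l, hl⟩ := IsAlgClosed.exists_root P (by rw [hdeg]; norm_num)
    refine ⟨l, ?_⟩
    simpa [P, Polynomial.IsRoot] using hl
  have hex : ∀ g : ↥(Subgroup.centralizer ({x} : Set SL₂)), ∃ ab : F × F, ((g : SL₂) : M₂) = ab.1 • (1 : M₂) + ab.2 • (x : M₂) := by
    intro g
    have h1 := Subgroup.mem_centralizer_singleton_iff.1 g.2
    obtain ⟨a, b, hab⟩ := commute_nonscalar hns (B := ((g : SL₂) : M₂)) (by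
      have := congrArg (fun y : SL₂ => (y : M₂)) h1
      exact this.symm)
    exact ⟨(a, b), hab⟩
  choose ab hab using hex
  have hsq : (x : M₂) * (x : M₂) = t • (x : M₂) - 1 := by
    have := Cfsg.Agent.H5.Ree.sl_sq x
    rw [this, ht, Matrix.trace_fin_two]
  let f : ↥(Subgroup.centralizer ({x} : Set SL₂)) →* L :=
    { toFun := fun g => algebraMap F L (ab g).1 + algebraMap F L (ab g).2 * l
      map_one' := by
        have h1 : (ab 1).1 • (1 : M₂) + (ab 1).2 • (x : M₂) = (1 : F) • (1 : M₂) + (0 : F) • (x : M₂) := by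
          rw [← hab 1, one_smul, zero_smul, add_zero]; rfl
        obtain ⟨h2, h3⟩ := ab_uniq hns h1
        rw [h2, h3]; simp
      map_mul' := by
        intro g k
        have h1 : (ab (g * k)).1 • (1 : M₂) + (ab (g * k)).2 • (x : M₂) =
            ((ab g).1 * (ab k).1 - (ab g).2 * (ab k).2) • (1 : M₂) + ((ab g).1 * (ab k).2 + (ab g).2 * (ab k).1 + (ab g).2 * (ab k).2 * t) • (x : M₂) := by
          rw [← hab (g * k)]
          have h2 : (((g * k : ↥(Subgroup.centralizer ({x} : Set SL₂))) : SL₂) : M₂) = ((g : SL₂) : M₂) * ((k : SL₂) : M₂) := rfl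
          rw [h2, hab g, hab k]
          have h3 : ((ab g).1 • (1 : M₂) + (ab g).2 • (x : M₂)) * ((ab k).1 • (1 : M₂) + (ab k).2 • (x : M₂)) =
            ((ab g).1 * (ab k).1) • (1 : M₂) + ((ab g).1 * (ab k).2 + (ab g).2 * (ab k).1) • (x : M₂) + ((ab g).2 * (ab k).2) • ((x : M₂) * (x : M₂)) := by
            rw [add_mul, mul_add, mul_add, smul_mul_smul_comm, smul_mul_smul_comm, smul_mul_smul_comm, smul_mul_smul_comm, one_mul, one_mul, mul_one, add_smul]
            abel
          rw [h3, hsq, smul_sub, smul_smul, sub_smul, add_smul _ ((ab g).2 * (ab k).2 * t)]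
          abel
        obtain ⟨h2, h3⟩ := ab_uniq hns h1
        rw [h2, h3]
        simp only [map_sub, map_add, map_mul]
        linear_combination (-(algebraMap F L (ab g).2 * algebraMap F L (ab k).2)) * hl }
  apply isCyclic_of_subgroup_isDomain f
  rw [injective_iff_map_eq_one]
  intro g hg
  have hg' : algebraMap F L (ab g).1 + algebraMap F L (ab g).2 * l = 1 := hg
  have hb : (ab g).2 = 0 := by
    by_contra hb
    have hb' : algebraMap F L (ab g).2 ≠ 0 := by
      intro h; exact hb ((map_eq_zero _).1 h)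
    apply hne ((1 - (ab g).1) / (ab g).2)
    apply (algebraMap F L).injective
    have hl2 : algebraMap F L ((1 - (ab g).1) / (ab g).2) = l := by
      rw [map_div₀, map_sub, map_one, div_eq_iff hb']
      linear_combination -hg'
    rw [map_add, map_sub, map_pow, map_mul, hl2, map_one, map_zero]
    linear_combination hl
  have ha : (ab g).1 = 1 := by
    rw [hb, map_zero, zero_mul, add_zero] at hg'
    exact (algebraMap F L).injective (hg'.trans (map_one _).symm)
  apply Subtype.ext
  apply Subtype.ext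
  show ((g : SL₂) : M₂) = 1
  rw [hab g, ha, hb, one_smul, zero_smul, add_zero]

/-- elliptic elements of `PSL₂`: lifting data -/
theorem psl_ell_lift (h3 : (3 : F) = 0) {p : ℕ} (hp : p.Prime) (hp2 : p ≠ 2) (hpq : p ∣ Fintype.card F + 1) (z : PG) (hz : z ^ p = 1) (hz1 : z ≠ 1) :
    ∃ x : SL₂, x ^ p = 1 ∧ x ≠ 1 ∧ π' x = z ∧ (∀ c : F, c ^ 2 - c * (x : M₂).trace + 1 ≠ 0) ∧
      Subgroup.centralizer ({z} : Set PG) = (Subgroup.centralizer ({x} : Set SL₂)).map π' := by
  have h2 : (2 : F) ≠ 0 := by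
    intro h
    have : (1 : F) = 0 := by linear_combination h3 - h
    exact one_ne_zero this
  have hodd : Odd p := hp.odd_of_ne_two hp2
  obtain ⟨x, hxp, rfl⟩ : ∃ x : SL₂, x ^ p = 1 ∧ π' x = z := by
    obtain ⟨x, rfl⟩ := QuotientGroup.mk'_surjective _ z
    rw [← map_pow, center_eq'] at hz
    rcases hz with h | h
    · exact ⟨x, h, rfl⟩
    · refine ⟨-x, by rw [hodd.neg_pow, h, neg_neg], ?_⟩
      have e : -x = (-1) * x := by rw [neg_one_mul]
      rw [e, map_mul, (center_eq' _).2 (Or.inr rfl), one_mul]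
  have hx1 : x ≠ 1 := by rintro rfl; exact hz1 (map_one _)
  have hne := no_eig h3 hp hp2 hpq hxp hx1
  refine ⟨x, hxp, hx1, rfl, hne, ?_⟩
  ext y
  constructor
  · intro hy
    obtain ⟨g, rfl⟩ := QuotientGroup.mk'_surjective _ y
    rw [Subgroup.mem_centralizer_singleton_iff] at hy
    refine ⟨g, ?_, rfl⟩
    rw [SetLike.mem_coe, Subgroup.mem_centralizer_singleton_iff]
    have h1 : π' (g * x * g⁻¹ * x⁻¹) = 1 := by
      rw [map_mul, map_mul, map_mul, hy, map_inv, map_inv, mul_inv_cancel_right, mul_inv_cancel]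
    rcases (center_eq' _).1 h1 with h4 | h4
    · rw [mul_inv_eq_one, mul_inv_eq_iff_eq_mul] at h4
      exact h4
    · exfalso
      rw [mul_inv_eq_iff_eq_mul, neg_one_mul] at h4
      have h5 : (g * x * g⁻¹) ^ p = 1 := by rw [conj_pow, hxp]; group
      rw [h4, hodd.neg_pow, hxp] at h5
      have h6 : (-1 : F) = 1 := by
        have := congrArg (fun y : SL₂ => (y : M₂) 0 0) h5
        simpa using this
      exact h2 (by linear_combination -h6)
  · rintro ⟨g, hg, rfl⟩
    rw [SetLike.mem_coe, Subgroup.mem_centralizer_singleton_iff] at hg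
    rw [Subgroup.mem_centralizer_singleton_iff, ← map_mul, hg, map_mul]

theorem psl_cent_cyclic (h3 : (3 : F) = 0) {p : ℕ} (hp : p.Prime) (hp2 : p ≠ 2) (hpq : p ∣ Fintype.card F + 1) (z : PG) (hz : z ^ p = 1) (hz1 : z ≠ 1) :
    IsCyclic ↥(Subgroup.centralizer ({z} : Set PG)) := by
  obtain ⟨x, -, -, -, hne, hC⟩ := psl_ell_lift h3 hp hp2 hpq z hz hz1
  haveI := cent_sl2_cyclic hne
  rw [hC]
  exact isCyclic_of_surjective ((π').subgroupMap (Subgroup.centralizer ({x} : Set SL₂))) ((π').subgroupMap_surjective _)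

end sl

section abs
variable {K : Type*} [Field K] [Fintype K] {G : Type*} [Group G] [Finite G] {B T U : Subgroup G} {n : G} (R : RA K B T U n)
include R

/-- odd part of the elliptic torus is cyclic -/
theorem RA.ell_cyc {p : ℕ} (hp : p.Prime) (hp2 : p ≠ 2) (hpq : p ∣ Fintype.card K + 1) {x : G} (hx : x ^ p = 1) (hx1 : x ≠ 1)
    (A : Subgroup G) (hA : A ≤ Subgroup.centralizer {x}) (hodd : Odd (Nat.card A)) : IsCyclic A := by
  obtain ⟨a, ha1, ha2, hax, hle, -, -⟩ := R.ell hp hp2 hpq hx hx1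
  obtain ⟨E⟩ := R.cent a ha1 ha2
  have hxb : x ∈ Subgroup.centralizer {a} := Subgroup.mem_centralizer_singleton_iff.2 hax.symm
  set z := (E ⟨x, hxb⟩).2 with hz
  have hoddp : Odd p := hp.odd_of_ne_two hp2
  have hfst : ∀ y, ∀ hy : y ∈ Subgroup.centralizer {a}, Odd (orderOf y) → (E ⟨y, hy⟩).1 = 1 := by
    intro y hy ho
    have h2 : (E ⟨y, hy⟩).1 ^ (orderOf y) = 1 := by
      rw [← Prod.pow_fst, ← map_pow]
      have : (⟨y, hy⟩ : ↥(Subgroup.centralizer {a})) ^ (orderOf y) = 1 := Subtype.ext (pow_orderOf_eq_one y)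
      rw [this, map_one]; rfl
    obtain ⟨j, hj⟩ := ho
    rw [hj, pow_succ, pow_mul] at h2
    generalize (E ⟨y, hy⟩).1 = w at h2
    have h3 : w ^ 2 = 1 := by clear h2; revert w; decide
    rw [h3, one_pow, one_mul] at h2
    exact h2
  have hxo : orderOf x = p := orderOf_eq_prime_iff (hp := ⟨hp⟩) |>.2 ⟨hx, hx1⟩
  have h1 := hfst x hxb (by rw [hxo]; exact hoddp)
  have hzp : z ^ p = 1 := by
    rw [hz, ← Prod.pow_snd, ← map_pow]
    have : (⟨x, hxb⟩ : ↥(Subgroup.centralizer {a})) ^ p = 1 := Subtype.ext hx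
    rw [this, map_one]; rfl
  have hz1 : z ≠ 1 := by
    intro h
    apply hx1
    have : E ⟨x, hxb⟩ = 1 := Prod.ext h1 h
    exact congrArg Subtype.val (E.injective (this.trans (map_one E).symm))
  haveI := psl_cent_cyclic R.c3 hp hp2 hpq z hzp hz1
  have hAa : ∀ y : A, (y : G) ∈ Subgroup.centralizer {a} := fun y => hle (hA y.2)
  let f : A →* ↥(Subgroup.centralizer ({z} : Set (Matrix.ProjectiveSpecialLinearGroup (Fin 2) K))) :=
    { toFun := fun y => ⟨(E ⟨y, hAa y⟩).2, by
        rw [Subgroup.mem_centralizer_singleton_iff]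
        have h2 := Subgroup.mem_centralizer_singleton_iff.1 (hA y.2)
        have h3 : (⟨y, hAa y⟩ : ↥(Subgroup.centralizer {a})) * ⟨x, hxb⟩ = ⟨x, hxb⟩ * ⟨y, hAa y⟩ := Subtype.ext h2
        have h4 := congrArg (fun y => (E y).2) h3
        simp only [map_mul, Prod.snd_mul] at h4
        exact h4⟩
      map_one' := by
        apply Subtype.ext
        show (E ⟨1, _⟩).2 = 1
        have : (⟨1, one_mem _⟩ : ↥(Subgroup.centralizer {a})) = 1 := rfl
        rw [this, map_one]; rfl
      map_mul' := by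
        intro y w
        apply Subtype.ext
        show (E ⟨(y : G) * w, _⟩).2 = (E ⟨y, _⟩).2 * (E ⟨w, _⟩).2
        rw [← Prod.snd_mul, ← map_mul]; rfl }
  have hinj : Function.Injective f := by
    rw [injective_iff_map_eq_one]
    intro y hy
    have h2 : (E ⟨y, hAa y⟩).2 = 1 := congrArg Subtype.val hy
    have h3 : (E ⟨y, hAa y⟩).1 = 1 := hfst y (hAa y) (by
      rw [Subgroup.orderOf_coe]
      exact Odd.of_dvd_nat hodd (orderOf_dvd_natCard y))
    have : E ⟨y, hAa y⟩ = 1 := Prod.ext h3 h2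
    have h4 := congrArg Subtype.val (E.injective (this.trans (map_one E).symm))
    exact Subtype.ext h4
  exact isCyclic_of_injective f hinj

end abs

/-- the third kind of torus -/
structure RB3 (q : ℕ) (G : Type*) [Group G] : Prop where
  third : ∀ p, p.Prime → 3 < p → p ∣ q ^ 2 - q + 1 → ∀ x : G, x ^ p = 1 → x ≠ 1 →
    IsCyclic ↥(Subgroup.centralizer {x}) ∧ (∀ y ∈ Subgroup.centralizer {x}, y ^ (q ^ 2 - q + 1) = 1) ∧
      ∀ y : G, ∀ j : ℕ, y * x * y⁻¹ = x ^ j → y ^ 6 * x = x * y ^ 6

section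
open Cfsg.Lie Matrix Cfsg Cfsg.Agent.H6 Cfsg.Agent.H6.WG2
variable {K : Type*} [Field K] [Fintype K] {m : ℕ}

theorem rb3 (hK : Fintype.card K = 3 ^ (2 * m + 1)) : RB3 (3 ^ (2 * m + 1)) ↥(twistedG2 K (3 ^ m)) := by
  obtain ⟨σ, h⟩ := exists_ctx hK
  have hf := fl_of_card hK
  haveI := finite_ree hK h hf
  constructor
  intro p hp hp3 hpq x hxp hx1
  haveI : Fact (Nat.Prime 3) := ⟨Nat.prime_three⟩
  haveI : CharP K 3 := by
    rw [CharP.charP_iff_prime_eq_zero Nat.prime_three]; exact_mod_cast hf.three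
  have hcard : Nat.card K = 3 ^ (2 * m + 1) := by rw [Nat.card_eq_fintype_card, hK]
  set q := 3 ^ (2 * m + 1) with hq
  have hqle : q ≤ q ^ 2 := Nat.le_self_pow (by norm_num) _
  have hZ : ((q ^ 2 - q + 1 : ℕ) : ℤ) = (q : ℤ) ^ 2 - q + 1 := by
    rw [Nat.cast_add, Nat.cast_sub hqle]; push_cast; ring
  have hpqZ : (p : ℤ) ∣ (q : ℤ) ^ 2 - q + 1 := by rw [← hZ]; exact_mod_cast hpq
  have hle : ∀ y : ↥(twistedG2 K (3 ^ m)), (y : GL chevG2.Idx K) ∈ chevG2.group K := fun y => (grp h hf).le_group y.2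
  obtain ⟨⟨f, f1, f2, f3⟩, h6⟩ := g2_main (K := K) (L := FiniteField.Extension K 3 6) (algebraMap K _) ((FiniteField.Extension.frob K 3 6 : _ ≃ₐ[K] _) : FiniteField.Extension K 3 6 →+* FiniteField.Extension K 3 6)
    (q := q) (fun z => by
      show FiniteField.Extension.frob K 3 6 z = z ^ q
      rw [FiniteField.Extension.frob_apply, hcard]) (fun k => AlgEquiv.commutes _ k)
    (by rw [FiniteField.natCard_extension, hcard]) hp hp3 hpqZ (hle x)
    (by rw [← Subgroup.coe_pow, hxp]; rfl) (fun h => hx1 (Subtype.ext h))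
  refine ⟨?_, ?_, ?_⟩
  · let F' : ↥(Subgroup.centralizer {x}) →* (FiniteField.Extension K 3 6)ˣ :=
      { toFun := fun y => f ((y : ↥(twistedG2 K (3 ^ m))) : GL chevG2.Idx K)
        map_one' := by
          have h1 := f1 1 1 (one_mem _) (one_mem _) (by group) (by group)
          rw [mul_one] at h1
          exact (mul_eq_left.1 h1.symm)
        map_mul' := by
          intro y z
          exact f1 _ _ (hle _) (hle _) (congrArg Subtype.val (Subgroup.mem_centralizer_singleton_iff.1 y.2))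
            (congrArg Subtype.val (Subgroup.mem_centralizer_singleton_iff.1 z.2)) }
    have hinj : Function.Injective F' := by
      rw [injective_iff_map_eq_one]
      intro y hy
      have h1 := f2 _ (hle y) (congrArg Subtype.val (Subgroup.mem_centralizer_singleton_iff.1 y.2)) hy
      exact Subtype.ext (Subtype.ext h1)
    let F'' : ↥(Subgroup.centralizer {x}) →* FiniteField.Extension K 3 6 := (Units.coeHom _).comp F'
    exact isCyclic_of_subgroup_isDomain F'' (Units.val_injective.comp hinj)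
  · intro y hy
    have hyx := congrArg Subtype.val (Subgroup.mem_centralizer_singleton_iff.1 hy)
    have hyx' : ∀ k : ℕ, ((y ^ k : ↥(twistedG2 K (3 ^ m))) : GL chevG2.Idx K) * x = x * ((y ^ k : ↥(twistedG2 K (3 ^ m))) : GL chevG2.Idx K) := by
      intro k
      exact congrArg Subtype.val (Subgroup.mem_centralizer_singleton_iff.1 (pow_mem hy k))
    have h1 := f3 _ (hle y) hyx
    have hpow : ∀ k : ℕ, f ((y ^ k : ↥(twistedG2 K (3 ^ m))) : GL chevG2.Idx K) = f (y : GL chevG2.Idx K) ^ k := by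
      intro k
      induction k with
      | zero =>
        have h1 := f1 1 1 (one_mem _) (one_mem _) (by group) (by group)
        rw [mul_one] at h1
        rw [pow_zero, pow_zero]
        exact (mul_eq_left.1 h1.symm)
      | succ k ih =>
        rw [pow_succ, pow_succ, ← ih]
        exact f1 _ _ (hle _) (hle _) (hyx' k) hyx
    have h2 : f ((y ^ (q ^ 2 - q + 1) : ↥(twistedG2 K (3 ^ m))) : GL chevG2.Idx K) = 1 := by
      rw [hpow, ← zpow_natCast, hZ]; exact h1
    have h3 := f2 _ (hle _) (hyx' _) h2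
    exact Subtype.ext h3
  · intro y j hyj
    have h1 := h6 _ (hle y) j (congrArg Subtype.val hyj)
    exact Subtype.ext h1

end

end Cfsg.Agent.H5.Ree
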