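import Mathlib
import Cfsg.Agent.H5.Ree19
set_option autoImplicit false
set_option maxHeartbeats 400000
set_option maxRecDepth 10000

/-! Sylow subgroups for primes above three. -/

namespace Cfsg.Agent.H5.Ree

section gen
variable {G : Type*} [Group G] [Finite G]

/-- subgroups of a cyclic subgroup are determined by their order -/
theorem cyc_sub_eq {A A₀ A₁ : Subgroup G} (hA : IsCyclic A) (h0 : A₀ ≤ A) (h1 : A₁ ≤ A) (hc : Nat.card A₀ = Nat.card A₁) : A₀ = A₁ := by
  classical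
  haveI := Fintype.ofFinite A
  have key : ∀ A₂ : Subgroup G, A₂ ≤ A → Nat.card A₂ = Nat.card A₀ → ∀ y, y ∈ A₂ ↔ (∃ h : y ∈ A, (⟨y, h⟩ : A) ^ Nat.card A₀ = 1) := by
    intro A₂ h2 hc2 y
    have hpos : 0 < Nat.card A₀ := Nat.card_pos
    have hle := IsCyclic.card_pow_eq_one_le (α := A) hpos
    have hsub : (A₂.subgroupOf A : Set A) ⊆ ((Finset.univ.filter fun a : A => a ^ Nat.card A₀ = 1 : Finset A) : Set A) := by
      intro z hz
      rw [Finset.coe_filter, Set.mem_setOf_eq]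
      refine ⟨Finset.mem_univ _, ?_⟩
      have hz' : (z : G) ∈ A₂ := Subgroup.mem_subgroupOf.1 hz
      apply Subtype.ext
      show (z : G) ^ Nat.card A₀ = 1
      rw [← hc2]
      exact congrArg Subtype.val (pow_card_eq_one' (x := (⟨z, hz'⟩ : A₂)))
    have hcard : (A₂.subgroupOf A : Set A).ncard = Nat.card A₀ := by
      rw [← hc2, ← Nat.card_congr (Subgroup.subgroupOfEquivOfLe h2).toEquiv]; rfl
    have heq := Set.eq_of_subset_of_ncard_le hsub (by rw [hcard, Set.ncard_coe_finset]; exact hle) (Set.toFinite _)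
    constructor
    · intro hy
      refine ⟨h2 hy, ?_⟩
      have h3 : (⟨y, h2 hy⟩ : A) ∈ (A₂.subgroupOf A : Set A) := Subgroup.mem_subgroupOf.2 hy
      rw [heq, Finset.coe_filter] at h3
      exact h3.2
    · rintro ⟨h, hy⟩
      have h3 : (⟨y, h⟩ : A) ∈ (A₂.subgroupOf A : Set A) := by
        rw [heq, Finset.coe_filter]; exact ⟨Finset.mem_univ _, hy⟩
      exact Subgroup.mem_subgroupOf.1 h3
  ext y
  rw [key A₀ h0 rfl y, key A₁ h1 hc.symm y]

/-- conjugacy of subgroups of prime order -/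
theorem sub_conj {p : ℕ} [hp : Fact p.Prime] (H : Subgroup G) (hcyc : ∀ P : Subgroup G, P ≤ H → IsPGroup p P → IsCyclic P)
    {x y : G} (hx : x ∈ H) (hy : y ∈ H) (hxo : orderOf x = p) (hyo : orderOf y = p) : ∃ h ∈ H, h * y * h⁻¹ ∈ Subgroup.zpowers x := by
  obtain ⟨P, hP⟩ := (IsPGroup.of_card (p := p) (n := 1) (by rw [Nat.card_zpowers, Subgroup.orderOf_mk, hxo, pow_one]) : IsPGroup p (Subgroup.zpowers (⟨x, hx⟩ : H))).exists_le_sylow
  have hi : ¬ p ∣ (P : Subgroup H).index := P.not_dvd_index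
  obtain ⟨h, hh⟩ := conj_into (P : Subgroup H) hi (⟨y, hy⟩ : H) (n := 1) (by
    apply Subtype.ext; show y ^ p ^ 1 = 1; rw [pow_one, ← hyo, pow_orderOf_eq_one])
  refine ⟨(h : G)⁻¹, inv_mem h.2, ?_⟩
  set Q : Subgroup G := (P : Subgroup H).map H.subtype with hQ
  have hQc : IsCyclic Q := hcyc Q (by rintro _ ⟨z, -, rfl⟩; exact z.2) (P.2.map _)
  have hxQ : x ∈ Q := ⟨⟨x, hx⟩, hP (Subgroup.mem_zpowers _), rfl⟩
  have hyQ : (h : G)⁻¹ * y * (h : G)⁻¹⁻¹ ∈ Q := ⟨h⁻¹ * ⟨y, hy⟩ * h, hh, by rw [inv_inv]; rfl⟩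
  have he := cyc_sub_eq hQc ((Subgroup.zpowers_le).2 hxQ) ((Subgroup.zpowers_le).2 hyQ) (by
    rw [Nat.card_zpowers, Nat.card_zpowers, hxo]
    have : orderOf ((h : G)⁻¹ * y * (h : G)⁻¹⁻¹) = orderOf y := by
      rw [← MulAut.conj_apply]; exact (MulAut.conj (h : G)⁻¹).orderOf_eq y
    rw [this, hyo])
  rw [he]
  exact Subgroup.mem_zpowers _

end gen

section abs
variable {K : Type*} [Field K] [Fintype K] {G : Type*} [Group G] [Finite G] {B T U : Subgroup G} {n : G} (R : RA K B T U n)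
  (R3 : RB3 (Fintype.card K) G)

include R in
theorem RA.not_dvd_q {p : ℕ} (hp : p.Prime) (hp3 : p ≠ 3) : ¬ p ∣ Fintype.card K := by
  intro h
  haveI : CharP K 3 := by
    rw [CharP.charP_iff_prime_eq_zero Nat.prime_three]; exact_mod_cast R.c3
  obtain ⟨k, -, hk⟩ := FiniteField.card K 3
  rw [hk] at h
  exact hp3 ((Nat.prime_dvd_prime_iff_eq hp Nat.prime_three).1 (hp.dvd_of_dvd_pow h))

include R in
theorem cube_add : Fintype.card K ^ 3 + 1 = (Fintype.card K + 1) * (Fintype.card K ^ 2 - Fintype.card K + 1) := by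
  have hq := R.q27
  obtain ⟨j, hj⟩ : ∃ j, Fintype.card K = j + 1 := ⟨Fintype.card K - 1, by omega⟩
  rw [hj]
  have e2 : (j + 1) ^ 2 - (j + 1) = j * (j + 1) := by
    have : (j + 1) ^ 2 = j * (j + 1) + (j + 1) := by ring
    rw [this, Nat.add_sub_cancel]
  rw [e2]; ring

include R in
theorem RA.prime_cases {p : ℕ} (hp : p.Prime) (hp3 : 3 < p) {x : G} (hx : orderOf x = p) :
    p ∣ Fintype.card K - 1 ∨ p ∣ Fintype.card K + 1 ∨ p ∣ Fintype.card K ^ 2 - Fintype.card K + 1 := by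
  have h1 : p ∣ Nat.card G := hx ▸ orderOf_dvd_natCard x
  rw [R.card, cube_add R] at h1
  rcases (Nat.Prime.dvd_mul hp).1 h1 with h | h
  · rcases (Nat.Prime.dvd_mul hp).1 h with h | h
    · exact absurd (hp.dvd_of_dvd_pow h) (R.not_dvd_q hp (by omega))
    · exact Or.inl h
  · rcases (Nat.Prime.dvd_mul hp).1 h with h | h
    · exact Or.inr (Or.inl h)
    · exact Or.inr (Or.inr h)

include R R3 in
theorem RA.cent_odd_cyclic {p : ℕ} (hp : p.Prime) (hp3 : 3 < p) {x : G} (hx : orderOf x = p) (P : Subgroup G) (hP : P ≤ Subgroup.centralizer {x})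
    (hodd : Odd (Nat.card P)) : IsCyclic P := by
  have hxp : x ^ p = 1 := by rw [← hx, pow_orderOf_eq_one]
  have hx1 : x ≠ 1 := by rintro rfl; rw [orderOf_one] at hx; exact hp.one_lt.ne hx
  have hsub : IsCyclic ↥(Subgroup.centralizer {x}) → IsCyclic P := by
    intro h
    exact isCyclic_of_injective (Subgroup.inclusion hP) (Subgroup.inclusion_injective hP)
  rcases R.prime_cases hp hp3 hx with h | h | h
  · obtain ⟨g, hg, -⟩ := R.split hp (by omega) h hxp hx1
    apply hsub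
    rw [hg]
    haveI := R.cyc
    exact isCyclic_of_surjective (T.equivMapOfInjective _ (MulAut.conj g).injective) (T.equivMapOfInjective _ (MulAut.conj g).injective).surjective
  · exact R.ell_cyc hp (by omega) h hxp hx1 P hP hodd
  · exact hsub (R3.third p hp hp3 h x hxp hx1).1

include R R3 in
theorem RA.pgroup_cyclic {p : ℕ} (hp : p.Prime) (hp3 : 3 < p) (P : Subgroup G) (hP : IsPGroup p P) : IsCyclic P := by
  haveI : Fact p.Prime := ⟨hp⟩
  obtain ⟨k, hk⟩ := IsPGroup.iff_card.1 hP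
  have hodd : Odd (Nat.card P) := by rw [hk]; exact Odd.pow (hp.odd_of_ne_two (by omega))
  by_cases htriv : Nontrivial P
  · haveI := hP.center_nontrivial
    have hc : IsPGroup p (Subgroup.center P) := hP.to_subgroup _
    obtain ⟨j, hj⟩ := IsPGroup.iff_card.1 hc
    have hj0 : j ≠ 0 := by
      rintro rfl
      have h1 : 1 < Nat.card (Subgroup.center P) := Finite.one_lt_card
      rw [hj] at h1; simp at h1
    obtain ⟨⟨z, hz⟩, hzo⟩ := exists_prime_orderOf_dvd_card' (G := Subgroup.center P) p (by rw [hj]; exact dvd_pow_self p hj0)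
    rw [Subgroup.orderOf_mk] at hzo
    have hzo' : orderOf (z : G) = p := by rw [Subgroup.orderOf_coe]; exact hzo
    apply R.cent_odd_cyclic R3 hp hp3 hzo' P _ hodd
    intro y hy
    rw [Subgroup.mem_centralizer_singleton_iff]
    have := Subgroup.mem_center_iff.1 hz ⟨y, hy⟩
    exact congrArg Subtype.val this
  · rw [not_nontrivial_iff_subsingleton] at htriv
    exact isCyclic_of_subsingleton

end abs

end Cfsg.Agent.H5.Ree
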