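import Mathlib
import Cfsg.Agent.H5.Ree15
import Cfsg.Agent.H5.Ree20
set_option autoImplicit false
set_option maxHeartbeats 400000
set_option maxRecDepth 10000

/-! Conjugacy of cyclic subgroups of order prime to six. -/

namespace Cfsg.Agent.H5.Ree

/-- the elements of exponent dividing `d` in a commutative subgroup -/
def Om {G : Type*} [Group G] (C : Subgroup G) (hC : ∀ u ∈ C, ∀ v ∈ C, u * v = v * u) (d : ℕ) : Subgroup G where
  carrier := {z | z ∈ C ∧ z ^ d = 1}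
  one_mem' := ⟨one_mem _, one_pow _⟩
  mul_mem' := by
    rintro a b ⟨ha, ha'⟩ ⟨hb, hb'⟩
    refine ⟨mul_mem ha hb, ?_⟩
    have hc : Commute a b := hC a ha b hb
    rw [hc.mul_pow, ha', hb', one_mul]
  inv_mem' := by
    rintro a ⟨ha, ha'⟩
    exact ⟨inv_mem ha, by rw [inv_pow, ha', inv_one]⟩

theorem mem_Om {G : Type*} [Group G] {C : Subgroup G} {hC : ∀ u ∈ C, ∀ v ∈ C, u * v = v * u} {d : ℕ} {z : G} :
    z ∈ Om C hC d ↔ z ∈ C ∧ z ^ d = 1 := Iff.rfl

theorem Om_odd {G : Type*} [Group G] [Finite G] {C : Subgroup G} {hC : ∀ u ∈ C, ∀ v ∈ C, u * v = v * u} {d : ℕ} (hd : Odd d) :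
    Odd (Nat.card (Om C hC d)) := by
  rw [← Nat.not_even_iff_odd, even_iff_two_dvd]
  intro h
  obtain ⟨⟨z, hz⟩, hzo⟩ := exists_prime_orderOf_dvd_card' (G := Om C hC d) 2 h
  rw [Subgroup.orderOf_mk] at hzo
  have h1 : orderOf z ∣ d := orderOf_dvd_of_pow_eq_one (mem_Om.1 hz).2
  rw [hzo] at h1
  exact (Nat.not_even_iff_odd.2 hd) (even_iff_two_dvd.2 h1)

section abs
variable {K : Type*} [Field K] [Fintype K] {G : Type*} [Group G] [Finite G] {B T U : Subgroup G} {n : G} (R : RA K B T U n)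
  (R3 : RB3 (Fintype.card K) G)

include R R3 in
theorem RA.cent_comm {p : ℕ} (hp : p.Prime) (hp3 : 3 < p) {x : G} (hx : orderOf x = p) :
    ∀ u ∈ Subgroup.centralizer {x}, ∀ v ∈ Subgroup.centralizer {x}, u * v = v * u := by
  have hxp : x ^ p = 1 := by rw [← hx, pow_orderOf_eq_one]
  have hx1 : x ≠ 1 := by rintro rfl; rw [orderOf_one] at hx; exact hp.one_lt.ne hx
  rcases R.prime_cases hp hp3 hx with h | h | h
  · obtain ⟨g, hg, -⟩ := R.split hp (by omega) h hxp hx1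
    rw [hg]
    exact R.conj_T_comm g
  · obtain ⟨a, -, -, -, -, -, h1⟩ := R.ell hp (by omega) h hxp hx1
    exact h1
  · exact cyc_comm R (R3.third p hp hp3 h x hxp hx1).1

theorem six_prime {p d : ℕ} (hp : p.Prime) (hpd : p ∣ d) (h6 : Nat.Coprime d 6) : 3 < p := by
  have h1 : Nat.Coprime p 6 := Nat.Coprime.coprime_dvd_left hpd h6
  have h2 : p ≠ 2 := by rintro rfl; revert h1; decide
  have h3 : p ≠ 3 := by rintro rfl; revert h1; decide
  have := hp.two_le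
  omega

theorem six_odd {d : ℕ} (h6 : Nat.Coprime d 6) : Odd d := by
  have : Nat.Coprime d 2 := Nat.Coprime.coprime_dvd_right (by norm_num) h6
  exact Nat.coprime_two_right.1 this

include R R3 in
theorem RA.Om_cyc {p : ℕ} (hp : p.Prime) (hp3 : 3 < p) {x : G} (hx : orderOf x = p) {d : ℕ} (hd : Odd d) :
    IsCyclic (Om (Subgroup.centralizer {x}) (R.cent_comm R3 hp hp3 hx) d) :=
  R.cent_odd_cyclic R3 hp hp3 hx _ (fun _ hz => (mem_Om.1 hz).1) (Om_odd hd)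

include R R3 in
theorem RA.cyc_conj {A B' : Subgroup G} (hA : ∀ x ∈ A, ∀ y ∈ A, x * y = y * x) (hB : ∀ x ∈ B', ∀ y ∈ B', x * y = y * x)
    (hAB : Nat.card A = Nat.card B') (h6 : Nat.Coprime (Nat.card A) 6) : ∃ g : G, B' = A.map (MulAut.conj g).toMonoidHom := by
  by_cases h1 : Nat.card A = 1
  · refine ⟨1, ?_⟩
    have e1 : A = ⊥ := Subgroup.card_eq_one.1 h1
    have e2 : B' = ⊥ := Subgroup.card_eq_one.1 (hAB ▸ h1)
    rw [e1, Subgroup.map_bot, e2]
  obtain ⟨p, hp, hpd⟩ := Nat.exists_prime_and_dvd h1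
  haveI : Fact p.Prime := ⟨hp⟩
  have hp3 := six_prime hp hpd h6
  obtain ⟨⟨x, hxA⟩, hxo⟩ := exists_prime_orderOf_dvd_card' (G := A) p hpd
  rw [Subgroup.orderOf_mk] at hxo
  obtain ⟨⟨y, hyB⟩, hyo⟩ := exists_prime_orderOf_dvd_card' (G := B') p (hAB ▸ hpd)
  rw [Subgroup.orderOf_mk] at hyo
  obtain ⟨g, -, hg⟩ := sub_conj (⊤ : Subgroup G) (fun P _ hP => R.pgroup_cyclic R3 hp hp3 P hP) (Subgroup.mem_top x) (Subgroup.mem_top y) hxo hyo
  have hgo : orderOf (g * y * g⁻¹) = p := by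
    rw [← hyo, ← MulAut.conj_apply]; exact (MulAut.conj g).orderOf_eq y
  have hgA : g * y * g⁻¹ ∈ A := (Subgroup.zpowers_le.2 hxA) hg
  have hd := six_odd h6
  have hcyc := R.Om_cyc R3 hp hp3 hgo (d := Nat.card A) hd
  have hBmap : Nat.card (B'.map (MulAut.conj g).toMonoidHom) = Nat.card B' :=
    (Nat.card_congr (B'.equivMapOfInjective _ (MulAut.conj g).injective).toEquiv).symm
  have e := cyc_sub_eq hcyc (A₀ := A) (A₁ := B'.map (MulAut.conj g).toMonoidHom) (by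
      intro z hz
      refine ⟨Subgroup.mem_centralizer_singleton_iff.2 (hA z hz _ hgA), ?_⟩
      exact congrArg Subtype.val (pow_card_eq_one' (x := (⟨z, hz⟩ : A))))
    (by
      rintro _ ⟨z, hz, rfl⟩
      refine ⟨Subgroup.mem_centralizer_singleton_iff.2 ?_, ?_⟩
      · show g * z * g⁻¹ * (g * y * g⁻¹) = g * y * g⁻¹ * (g * z * g⁻¹)
        have := hB z hz y hyB
        calc g * z * g⁻¹ * (g * y * g⁻¹) = g * (z * y) * g⁻¹ := by group
          _ = g * (y * z) * g⁻¹ := by rw [this]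
          _ = _ := by group
      · rw [← map_pow, hAB]
        have : z ^ Nat.card B' = 1 := congrArg Subtype.val (pow_card_eq_one' (x := (⟨z, hz⟩ : B')))
        rw [this, map_one]) (by rw [hBmap, hAB])
  refine ⟨g⁻¹, ?_⟩
  rw [e, Subgroup.map_map]
  have : (MulAut.conj g⁻¹).toMonoidHom.comp (MulAut.conj g).toMonoidHom = MonoidHom.id G := by
    ext z
    show g⁻¹ * (g * z * g⁻¹) * g⁻¹⁻¹ = z
    group
  rw [this, Subgroup.map_id]

end abs

/-! arithmetic of the torus orders -/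

theorem r_sq (m : ℕ) : 3 ^ (m + 1) * 3 ^ (m + 1) = 3 * 3 ^ (2 * m + 1) := by
  rw [← pow_add, ← pow_succ']; congr 1; ring

theorem r_lt {m : ℕ} (hm : 1 ≤ m) : 3 * 3 ^ (m + 1) ≤ 3 ^ (2 * m + 1) := by
  rw [← pow_succ']; exact Nat.pow_le_pow_right (by norm_num) (by omega)

theorem k_coprime {m : ℕ} (hm : 1 ≤ m) {d : ℕ} (hd : d ∣ (3 ^ (2 * m + 1) - 1) / 2 ∨ d ∣ (3 ^ (2 * m + 1) + 1) / 4 ∨ d ∣ 3 ^ (2 * m + 1) - 3 ^ (m + 1) + 1 ∨ d ∣ 3 ^ (2 * m + 1) + 3 ^ (m + 1) + 1) :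
    Nat.Coprime d 6 := by
  obtain ⟨j, hj⟩ := q_mod m
  have hr := r_lt hm
  obtain ⟨r', hr'⟩ : ∃ r', 3 ^ (m + 1) = 2 * r' + 1 := by
    have : Odd (3 ^ (m + 1)) := Odd.pow (by decide)
    exact this
  have h3 : 3 ∣ 3 ^ (m + 1) := dvd_pow_self 3 (by omega)
  have h3q : 3 ∣ 3 ^ (2 * m + 1) := dvd_pow_self 3 (by omega)
  have key : ∀ k : ℕ, k % 2 = 1 → k % 3 ≠ 0 → d ∣ k → Nat.Coprime d 6 := by
    intro k h2 h3 hdk
    apply Nat.Coprime.coprime_dvd_left hdk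
    have e2 : Nat.Coprime k 2 := Nat.coprime_two_right.2 (Nat.odd_iff.2 h2)
    have e3 : Nat.Coprime k 3 := by
      rw [Nat.coprime_comm, Nat.Prime.coprime_iff_not_dvd Nat.prime_three]; omega
    exact Nat.Coprime.mul_right e2 e3
  rcases hd with h | h | h | h
  · exact key _ (by omega) (by omega) h
  · exact key _ (by omega) (by omega) h
  · exact key _ (by omega) (by omega) h
  · exact key _ (by omega) (by omega) h

end Cfsg.Agent.H5.Ree
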