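import Mathlib
import Cfsg.Agent.H5.Ree19
set_option autoImplicit false
set_option maxHeartbeats 400000
set_option maxRecDepth 10000

/-! Facts on `PSL₂(q)`, `q` a power of three. -/

namespace Cfsg.Agent.H5.Ree

section sl
open Matrix Cfsg.Agent.H16 Cfsg.Agent.H5
variable {F : Type*} [Field F] [Fintype F]

local notation "SL₂" => Matrix.SpecialLinearGroup (Fin 2) F
local notation "M₂" => Matrix (Fin 2) (Fin 2) F
local notation "PG" => Matrix.ProjectiveSpecialLinearGroup (Fin 2) F
local notation "π'" => QuotientGroup.mk' (Subgroup.center (Matrix.SpecialLinearGroup (Fin 2) F))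

theorem psl_norm_ell (h3 : (3 : F) = 0) {p : ℕ} (hp : p.Prime) (hp2 : p ≠ 2) (hpq : p ∣ Fintype.card F + 1) (z : PG) (hz : z ^ p = 1) (hz1 : z ≠ 1) :
    (∃ w : PG, w * z * w⁻¹ = z⁻¹) ∧ ∀ y : PG, (y * z * y⁻¹) * z = z * (y * z * y⁻¹) → y * z * y⁻¹ = z ∨ y * z * y⁻¹ = z⁻¹ := by
  have h2 : (2 : F) ≠ 0 := by
    intro h
    have : (1 : F) = 0 := by linear_combination h3 - h
    exact one_ne_zero this
  obtain ⟨x, hxp, hx1, rfl, hne, hC⟩ := psl_ell_lift h3 hp hp2 hpq z hz hz1
  have hns : ¬ IsScal (x : M₂) := by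
    intro hs
    rcases isScal_sl_iff.1 hs with h | h
    · apply hne 1; rw [h, trace_one]; simp; norm_num
    · apply hne (-1); rw [h, trace_neg, trace_one]; simp; norm_num
  have ht : (x : M₂).trace ^ 2 ≠ 4 := by
    intro h
    have h4 : ((x : M₂).trace - 2) * ((x : M₂).trace + 2) = 0 := by linear_combination h
    rcases mul_eq_zero.1 h4 with h | h
    · apply hne 1; linear_combination -h
    · apply hne (-1); linear_combination h
  constructor
  · obtain ⟨w, hw⟩ := exists_inverting hns ht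
    refine ⟨π' w, ?_⟩
    rw [← map_inv, ← map_mul, ← map_mul, hw, map_inv]
  · intro y hy
    obtain ⟨g, rfl⟩ := QuotientGroup.mk'_surjective _ y
    have h4 : π' (g * x * g⁻¹) ∈ Subgroup.centralizer ({π' x} : Set PG) := by
      rw [Subgroup.mem_centralizer_singleton_iff, map_mul, map_mul, map_inv]; exact hy
    rw [hC] at h4
    obtain ⟨c, hc, hc2⟩ := h4
    have h5 : π' (g * x * g⁻¹ * c⁻¹) = 1 := by rw [map_mul, map_inv, hc2, mul_inv_cancel]
    have h6 : g * x * g⁻¹ ∈ Subgroup.centralizer ({x} : Set SL₂) := by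
      rcases (center_eq' _).1 h5 with h7 | h7
      · rw [mul_inv_eq_one.1 h7]; exact hc
      · rw [mul_inv_eq_iff_eq_mul.1 h7]
        apply mul_mem _ hc
        rw [Subgroup.mem_centralizer_singleton_iff, neg_one_mul, mul_neg_one]
    have h7 : ((g * x * g⁻¹ : SL₂) : M₂).trace = (x : M₂).trace := by
      rw [Matrix.SpecialLinearGroup.coe_mul, Matrix.trace_mul_comm, ← Matrix.SpecialLinearGroup.coe_mul, ← mul_assoc, inv_mul_cancel, one_mul]
    rcases eq_or_inv_of_trace hns h2 ht h6 h7 with h8 | h8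
    · left; rw [← map_inv, ← map_mul, ← map_mul, h8]
    · right; rw [← map_inv, ← map_mul, ← map_mul, h8, map_inv]

/-- elements of `SL₂` with cube one, characteristic three -/
theorem cube_trace (h3 : (3 : F) = 0) (g : SL₂) : g ^ 3 = 1 ↔ (g : M₂) 0 0 + (g : M₂) 1 1 = 2 := by
  have hd : (g : M₂) 0 0 * (g : M₂) 1 1 - (g : M₂) 0 1 * (g : M₂) 1 0 = 1 := by
    rw [← Matrix.det_fin_two]; exact g.2
  constructor
  · intro h
    have hM : (g : M₂) ^ 3 = 1 := by
      rw [← Matrix.SpecialLinearGroup.coe_pow, h]; rfl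
    set τ := (g : M₂) 0 0 + (g : M₂) 1 1 with hτ
    have e00 := congrFun (congrFun hM 0) 0
    have e11 := congrFun (congrFun hM 1) 1
    simp only [pow_succ, pow_zero, one_mul, Matrix.mul_apply, Fin.sum_univ_two, Matrix.one_apply_eq] at e00 e11
    have h5 : (τ - 2) ^ 3 = 0 := by
      rw [hτ]
      linear_combination (exp := 1) e00 + e11 + (3 * ((g : M₂) 0 0 + (g : M₂) 1 1)) * hd + (-2 * ((g : M₂) 0 0 + (g : M₂) 1 1) ^ 2 + 5 * ((g : M₂) 0 0 + (g : M₂) 1 1) - 2) * h3
    have := pow_eq_zero_iff (n := 3) (by norm_num) |>.1 h5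
    linear_combination this
  · intro h
    apply Matrix.SpecialLinearGroup.ext
    intro i j
    rw [Matrix.SpecialLinearGroup.coe_pow, unip_cube h3 hd h]; rfl

/-- the number of unipotent elements -/
theorem sl_cube_card (h3 : (3 : F) = 0) : Nat.card {g : SL₂ // g ^ 3 = 1} = Fintype.card F ^ 2 := by
  classical
  have key : ∀ b s : F, ∃ g : SL₂, g ^ 3 = 1 ∧ (b = 0 → (g : M₂) 0 0 = 1 ∧ (g : M₂) 1 1 = 1 ∧ (g : M₂) 0 1 = 0 ∧ (g : M₂) 1 0 = s) ∧
      (b ≠ 0 → (g : M₂) 0 0 = 1 + s ∧ (g : M₂) 1 1 = 1 - s ∧ (g : M₂) 0 1 = b ∧ (g : M₂) 1 0 = -s ^ 2 / b) := by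
    intro b s
    by_cases hb : b = 0
    · refine ⟨⟨!![1, 0; s, 1], by rw [Matrix.det_fin_two]; simp⟩, ?_, ?_, ?_⟩
      · refine (cube_trace h3 _).2 ?_; simp; norm_num
      · intro _; simp
      · intro h; exact absurd hb h
    · refine ⟨⟨!![1 + s, b; -s ^ 2 / b, 1 - s], by rw [Matrix.det_fin_two]; simp; field_simp; ring⟩, ?_, ?_, ?_⟩
      · refine (cube_trace h3 _).2 ?_; simp; ring
      · intro h; exact absurd h hb
      · intro _; simp
  choose f hf1 hf2 hf3 using key
  have hbij : Function.Bijective (fun p : F × F => (⟨f p.1 p.2, hf1 p.1 p.2⟩ : {g : SL₂ // g ^ 3 = 1})) := by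
    constructor
    · rintro ⟨b, s⟩ ⟨b', s'⟩ h
      have h' : f b s = f b' s' := congrArg Subtype.val h
      by_cases hb : b = 0
      · by_cases hb' : b' = 0
        · have e := (hf2 b s hb).2.2.2
          rw [h', (hf2 b' s' hb').2.2.2] at e
          rw [hb, hb', e]
        · exfalso
          have e := (hf2 b s hb).2.2.1
          rw [h', (hf3 b' s' hb').2.2.1] at e
          exact hb' e
      · by_cases hb' : b' = 0
        · exfalso
          have e := (hf3 b s hb).2.2.1
          rw [h', (hf2 b' s' hb').2.2.1] at e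
          exact hb e.symm
        · have e := (hf3 b s hb).2.2.1
          rw [h', (hf3 b' s' hb').2.2.1] at e
          have e2 := (hf3 b s hb).1
          rw [h', (hf3 b' s' hb').1] at e2
          rw [e, add_left_cancel e2]
    · rintro ⟨g, hg⟩
      have htr := (cube_trace h3 g).1 hg
      have hd : (g : M₂) 0 0 * (g : M₂) 1 1 - (g : M₂) 0 1 * (g : M₂) 1 0 = 1 := by
        rw [← Matrix.det_fin_two]; exact g.2
      by_cases hb : (g : M₂) 0 1 = 0
      · have h00 : (g : M₂) 0 0 = 1 := by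
          have : ((g : M₂) 0 0 - 1) ^ 2 = 0 := by
            rw [hb] at hd
            linear_combination (g : M₂) 0 0 * htr - hd
          have := pow_eq_zero_iff (n := 2) (by norm_num) |>.1 this
          linear_combination this
        refine ⟨(0, (g : M₂) 1 0), ?_⟩
        apply Subtype.ext
        apply Matrix.SpecialLinearGroup.ext
        obtain ⟨e1, e2, e3, e4⟩ := hf2 0 ((g : M₂) 1 0) rfl
        intro i j
        fin_cases i <;> fin_cases j
        · exact e1.trans h00.symm
        · exact e3.trans hb.symm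
        · exact e4
        · show (f 0 ((g : M₂) 1 0) : M₂) 1 1 = _
          rw [e2]
          show (1 : F) = (g : M₂) 1 1
          linear_combination h00 - htr
      · refine ⟨((g : M₂) 0 1, (g : M₂) 0 0 - 1), ?_⟩
        apply Subtype.ext
        apply Matrix.SpecialLinearGroup.ext
        obtain ⟨e1, e2, e3, e4⟩ := hf3 _ ((g : M₂) 0 0 - 1) hb
        intro i j
        fin_cases i <;> fin_cases j
        · refine e1.trans ?_
          show _ = (g : M₂) 0 0
          ring
        · exact e3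
        · refine e4.trans ?_
          show _ = (g : M₂) 1 0
          rw [div_eq_iff hb]; linear_combination hd - (g : M₂) 0 0 * htr
        · refine e2.trans ?_
          show _ = (g : M₂) 1 1
          linear_combination -htr
  rw [← Nat.card_congr (Equiv.ofBijective _ hbij), Nat.card_prod, Nat.card_eq_fintype_card]; ring

omit [Fintype F] in
theorem two_ne3 (h3 : (3 : F) = 0) : (2 : F) ≠ 0 := by
  intro h
  have : (1 : F) = 0 := by linear_combination h3 - h
  exact one_ne_zero this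

omit [Fintype F] in
theorem neg_one_ne (h3 : (3 : F) = 0) : (-1 : SL₂) ≠ 1 := by
  intro h6
  have h6 : (-1 : F) = 1 := by
    have := congrArg (fun y : SL₂ => (y : M₂) 0 0) h6
    simpa using this
  exact two_ne3 h3 (by linear_combination -h6)

theorem psl_lift3 (h3 : (3 : F) = 0) {y : PG} (hy : y ^ 3 = 1) : ∃ x : SL₂, x ^ 3 = 1 ∧ π' x = y := by
  obtain ⟨x, rfl⟩ := QuotientGroup.mk'_surjective _ y
  rw [← map_pow, center_eq'] at hy
  rcases hy with h | h
  · exact ⟨x, h, rfl⟩
  · refine ⟨-x, by rw [Odd.neg_pow (by decide), h, neg_neg], ?_⟩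
    have e : -x = (-1) * x := by rw [neg_one_mul]
    rw [e, map_mul, (center_eq' _).2 (Or.inr rfl), one_mul]

theorem psl_cube_card (h3 : (3 : F) = 0) : Nat.card {y : PG // y ^ 3 = 1} = Fintype.card F ^ 2 := by
  rw [← sl_cube_card h3]
  symm
  apply Nat.card_congr
  apply Equiv.ofBijective (fun x : {g : SL₂ // g ^ 3 = 1} => (⟨π' x.1, by rw [← map_pow, x.2, map_one]⟩ : {y : PG // y ^ 3 = 1}))
  constructor
  · rintro ⟨x, hx⟩ ⟨y, hy⟩ h
    have h' : π' x = π' y := congrArg Subtype.val h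
    have h5 : π' (x * y⁻¹) = 1 := by rw [map_mul, map_inv, h', mul_inv_cancel]
    rcases (center_eq' _).1 h5 with h7 | h7
    · exact Subtype.ext (mul_inv_eq_one.1 h7)
    · exfalso
      rw [mul_inv_eq_iff_eq_mul, neg_one_mul] at h7
      rw [h7, Odd.neg_pow (by decide), hy] at hx
      exact neg_one_ne h3 hx
  · rintro ⟨y, hy⟩
    obtain ⟨x, hx, rfl⟩ := psl_lift3 h3 hy
    exact ⟨⟨x, hx⟩, rfl⟩

theorem psl_cent_three (h3 : (3 : F) = 0) {z y : PG} (hy : y ^ 3 = 1) (hy1 : y ≠ 1) (hzy : z * y = y * z) : z ^ 3 = 1 := by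
  obtain ⟨x, hx, rfl⟩ := psl_lift3 h3 hy
  obtain ⟨g, rfl⟩ := QuotientGroup.mk'_surjective _ z
  have hx1 : x ≠ 1 := by rintro rfl; exact hy1 (map_one _)
  have h1 : π' (g * x * g⁻¹ * x⁻¹) = 1 := by
    rw [map_mul, map_mul, map_mul, hzy, map_inv, map_inv, mul_inv_cancel_right, mul_inv_cancel]
  have hgx : g * x = x * g := by
    rcases (center_eq' _).1 h1 with h4 | h4
    · rw [mul_inv_eq_one, mul_inv_eq_iff_eq_mul] at h4
      exact h4
    · exfalso
      rw [mul_inv_eq_iff_eq_mul, neg_one_mul] at h4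
      have h5 : (g * x * g⁻¹) ^ 3 = 1 := by rw [conj_pow, hx]; group
      rw [h4, Odd.neg_pow (by decide), hx] at h5
      exact neg_one_ne h3 h5
  have htr := (cube_trace h3 x).1 hx
  have hns : ¬ IsScal (x : M₂) := by
    intro hs
    rcases isScal_sl_iff.1 hs with h | h
    · exact hx1 (Subtype.ext h)
    · rw [h] at htr
      simp at htr
      apply two_ne3 h3
      linear_combination -2 * htr - 2 * h3
  obtain ⟨a, b, hab⟩ := (mem_tor_iff hns).1 (Subgroup.mem_centralizer_singleton_iff.2 hgx)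
  have hdx : (x : M₂) 0 0 * (x : M₂) 1 1 - (x : M₂) 0 1 * (x : M₂) 1 0 = 1 := by
    rw [← Matrix.det_fin_two]; exact x.2
  have hdg : (g : M₂) 0 0 * (g : M₂) 1 1 - (g : M₂) 0 1 * (g : M₂) 1 0 = 1 := by
    rw [← Matrix.det_fin_two]; exact g.2
  have e00 : (g : M₂) 0 0 = a + b * (x : M₂) 0 0 := by rw [hab]; simp
  have e11 : (g : M₂) 1 1 = a + b * (x : M₂) 1 1 := by rw [hab]; simp
  have e01 : (g : M₂) 0 1 = b * (x : M₂) 0 1 := by rw [hab]; simp
  have e10 : (g : M₂) 1 0 = b * (x : M₂) 1 0 := by rw [hab]; simp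
  have hsq : (a + b) ^ 2 = 1 := by
    rw [e00, e11, e01, e10] at hdg
    linear_combination hdg - b ^ 2 * hdx - a * b * htr
  have h5 : (a + b - 1) * (a + b + 1) = 0 := by linear_combination hsq
  rw [← map_pow, center_eq']
  rcases mul_eq_zero.1 h5 with h6 | h6
  · left
    rw [cube_trace h3, e00, e11]
    linear_combination b * htr + 2 * h6
  · right
    have : (-g) ^ 3 = 1 := by
      rw [cube_trace h3]
      show -((g : M₂) 0 0) + -((g : M₂) 1 1) = 2
      rw [e00, e11]
      linear_combination -b * htr - 2 * h6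
    rw [Odd.neg_pow (by decide)] at this
    rw [← this, neg_neg]

end sl
end Cfsg.Agent.H5.Ree
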