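import Mathlib
import Cfsg.Agent.H5.GLStab
import Cfsg.Agent.H5.Ree21
import Cfsg.Agent.H5.Ree22
set_option autoImplicit false
set_option maxHeartbeats 400000
set_option maxRecDepth 10000

/-! Counting elements by conjugacy. -/

namespace Cfsg.Agent.H5.Ree

section gen
variable {G : Type*} [Group G]

/-- the union of the conjugates of a set -/
def CL (X : Set G) : Set G := {y | ∃ g : G, g⁻¹ * y * g ∈ X}

theorem conj3 (g h x : G) : g * h * x * (g * h)⁻¹ = g * (h * x * h⁻¹) * g⁻¹ := by group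

theorem CL_conj {X : Set G} {y : G} (hy : y ∈ CL X) (g : G) : g * y * g⁻¹ ∈ CL X := by
  obtain ⟨h, hh⟩ := hy
  refine ⟨g * h, ?_⟩
  have : (g * h)⁻¹ * (g * y * g⁻¹) * (g * h) = h⁻¹ * y * h := by group
  rw [this]; exact hh

theorem CL_sub {X : Set G} {x : G} (hx : x ∈ X) : x ∈ CL X := ⟨1, by simpa using hx⟩

/-- counting conjugates -/
theorem count_ti [Finite G] (N : Subgroup G) (X : Set G) (h1 : ∀ g ∈ N, ∀ x ∈ X, g * x * g⁻¹ ∈ X)
    (h2 : ∀ g : G, ∀ x ∈ X, g * x * g⁻¹ ∈ X → g ∈ N) : Nat.card (CL X) * Nat.card N = Nat.card G * Nat.card X := by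
  let f : G × X → CL X := fun p => ⟨p.1 * (p.2 : G) * p.1⁻¹, CL_conj (CL_sub p.2.2) _⟩
  have key : ∀ y : CL X, Nat.card {a // f a = y} = Nat.card N := ?_
  · have h := Cfsg.Agent.H5.card_of_fibers_univ f (Nat.card N) key
    rw [Nat.card_prod] at h
    exact h.symm
  rintro ⟨y, g₀, hg₀⟩
  apply Nat.card_congr
  exact
    { toFun := fun a => ⟨g₀⁻¹ * a.1.1, by
        apply h2 _ _ a.1.2.2
        have e : a.1.1 * (a.1.2 : G) * a.1.1⁻¹ = y := congrArg Subtype.val a.2
        rw [conj3, e]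
        simpa using hg₀⟩
      invFun := fun n => ⟨(g₀ * (n : G), ⟨(n : G)⁻¹ * (g₀⁻¹ * y * g₀) * (n : G), by
        have := h1 _ (inv_mem n.2) _ hg₀
        simpa using this⟩), by
        apply Subtype.ext
        show g₀ * (n : G) * ((n : G)⁻¹ * (g₀⁻¹ * y * g₀) * (n : G)) * (g₀ * (n : G))⁻¹ = y
        group⟩
      left_inv := by
        rintro ⟨⟨g, x, hx⟩, h⟩
        have e : g * x * g⁻¹ = y := congrArg Subtype.val h
        apply Subtype.ext
        apply Prod.ext
        · show g₀ * (g₀⁻¹ * g) = g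
          group
        · apply Subtype.ext
          show (g₀⁻¹ * g)⁻¹ * (g₀⁻¹ * y * g₀) * (g₀⁻¹ * g) = x
          rw [← e]; group
      right_inv := by
        rintro ⟨n, hn⟩
        apply Subtype.ext
        show g₀⁻¹ * (g₀ * n) = n
        group }

/-- orders of the primary parts of a commutative subgroup -/
theorem card_Om [Finite G] {C : Subgroup G} (hC : ∀ u ∈ C, ∀ v ∈ C, u * v = v * u) {a b : ℕ} (hab : Nat.Coprime a b)
    (hc : Nat.card C = a * b) : Nat.card (Om C hC a) = a := by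
  have hdvd : ∀ a b : ℕ, Nat.Coprime a b → Nat.card C = a * b → Nat.card (Om C hC a) ∣ a := by
    intro a b hab hc
    have h1 : Nat.card (Om C hC a) ∣ a * b := by
      rw [← hc]
      exact Subgroup.card_dvd_of_le (fun z hz => (mem_Om.1 hz).1)
    apply Nat.Coprime.dvd_of_dvd_mul_right _ h1
    rw [Nat.coprime_iff_gcd_eq_one]
    by_contra hne
    obtain ⟨p, hp, hpd⟩ := Nat.exists_prime_and_dvd hne
    haveI : Fact p.Prime := ⟨hp⟩
    obtain ⟨⟨z, hz⟩, hzo⟩ := exists_prime_orderOf_dvd_card' (G := Om C hC a) p (hpd.trans (Nat.gcd_dvd_left _ _))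
    rw [Subgroup.orderOf_mk] at hzo
    have h2 : p ∣ a := hzo ▸ orderOf_dvd_of_pow_eq_one (mem_Om.1 hz).2
    have h3 := hpd.trans (Nat.gcd_dvd_right (Nat.card (Om C hC a)) b)
    have h4 := Nat.dvd_gcd h2 h3
    rw [hab] at h4
    exact hp.one_lt.ne' (Nat.dvd_one.1 h4)
  have h1 := hdvd a b hab hc
  have h2 := hdvd b a hab.symm (by rw [hc, mul_comm])
  have h3 : Nat.card C ≤ Nat.card (Om C hC a) * Nat.card (Om C hC b) := by
    rw [← Nat.card_prod]
    let f : C → Om C hC a × Om C hC b := fun c => (⟨(c : G) ^ b, pow_mem c.2 _, by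
        rw [← pow_mul, mul_comm, ← hc]; exact congrArg Subtype.val (pow_card_eq_one' (x := c))⟩,
      ⟨(c : G) ^ a, pow_mem c.2 _, by
        rw [← pow_mul, ← hc]; exact congrArg Subtype.val (pow_card_eq_one' (x := c))⟩)
    apply Nat.card_le_card_of_injective f
    rintro ⟨c, hcc⟩ ⟨d, hd⟩ h
    have e1 : c ^ b = d ^ b := congrArg (fun z => (z.1 : G)) h
    have e2 : c ^ a = d ^ a := congrArg (fun z => (z.2 : G)) h
    have hcom : Commute c d⁻¹ := (show Commute c d from hC c hcc d hd).inv_right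
    have f1 : (c * d⁻¹) ^ b = 1 := by rw [hcom.mul_pow, e1, inv_pow, mul_inv_cancel]
    have f2 : (c * d⁻¹) ^ a = 1 := by rw [hcom.mul_pow, e2, inv_pow, mul_inv_cancel]
    have f3 := Nat.dvd_gcd (orderOf_dvd_of_pow_eq_one f2) (orderOf_dvd_of_pow_eq_one f1)
    rw [hab] at f3
    exact Subtype.ext (mul_inv_eq_one.1 (orderOf_eq_one_iff.1 (Nat.dvd_one.1 f3)))
  have hpos : 0 < a * b := hc ▸ Nat.card_pos
  have ha : 0 < a := Nat.pos_of_mul_pos_right hpos |> fun h => by
    rcases Nat.eq_zero_or_pos a with h | h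
    · rw [h, zero_mul] at hpos; exact absurd hpos (lt_irrefl _)
    · exact h
  have hb : 0 < b := by
    rcases Nat.eq_zero_or_pos b with h | h
    · rw [h, mul_zero] at hpos; exact absurd hpos (lt_irrefl _)
    · exact h
  have l1 := Nat.le_of_dvd ha h1
  have l2 := Nat.le_of_dvd hb h2
  rw [hc] at h3
  apply le_antisymm l1
  by_contra hlt
  push Not at hlt
  have : Nat.card (Om C hC a) * Nat.card (Om C hC b) < a * b := by
    calc Nat.card (Om C hC a) * Nat.card (Om C hC b) ≤ Nat.card (Om C hC a) * b := Nat.mul_le_mul_left _ l2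
      _ < a * b := Nat.mul_lt_mul_of_pos_right hlt hb
  omega

/-- elements divisible by a large prime -/
def Big (y : G) : Prop := ∃ p : ℕ, p.Prime ∧ 3 < p ∧ p ∣ orderOf y

theorem Big.ne_one {y : G} (h : Big y) : y ≠ 1 := by
  rintro rfl
  obtain ⟨p, hp, -, hpd⟩ := h
  rw [orderOf_one] at hpd
  exact hp.one_lt.ne' (Nat.dvd_one.1 hpd)

theorem Big.conj {y : G} (h : Big y) (g : G) : Big (g * y * g⁻¹) := by
  obtain ⟨p, hp, hp3, hpd⟩ := h
  refine ⟨p, hp, hp3, ?_⟩
  have : orderOf (g * y * g⁻¹) = orderOf y := by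
    rw [← MulAut.conj_apply]; exact (MulAut.conj g).orderOf_eq y
  rw [this]; exact hpd

theorem cent_conj' (g y : G) : Subgroup.centralizer {g * y * g⁻¹} = (Subgroup.centralizer {y}).map (MulAut.conj g).toMonoidHom := by
  ext z
  rw [Subgroup.mem_centralizer_singleton_iff]
  constructor
  · intro h
    refine ⟨g⁻¹ * z * g, ?_, ?_⟩
    · rw [SetLike.mem_coe, Subgroup.mem_centralizer_singleton_iff]
      calc g⁻¹ * z * g * y = g⁻¹ * (z * (g * y * g⁻¹)) * g := by group
        _ = g⁻¹ * (g * y * g⁻¹ * z) * g := by rw [h]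
        _ = _ := by group
    · show g * (g⁻¹ * z * g) * g⁻¹ = z
      group
  · rintro ⟨w, hw, rfl⟩
    rw [SetLike.mem_coe, Subgroup.mem_centralizer_singleton_iff] at hw
    show g * w * g⁻¹ * (g * y * g⁻¹) = g * y * g⁻¹ * (g * w * g⁻¹)
    calc g * w * g⁻¹ * (g * y * g⁻¹) = g * (w * y) * g⁻¹ := by group
      _ = g * (y * w) * g⁻¹ := by rw [hw]
      _ = _ := by group

end gen

section abs
variable {K : Type*} [Field K] [Fintype K] {G : Type*} [Group G] [Finite G] {B T U : Subgroup G} {n : G} (R : RA K B T U n)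
  (R3 : RB3 (Fintype.card K) G)

include R R3 in
/-- big elements have commutative centralisers -/
theorem RA.big_cent {y : G} (hy : Big y) : ∃ (p : ℕ) (z : G), p.Prime ∧ 3 < p ∧ orderOf z = p ∧ z ∈ Subgroup.zpowers y ∧ p ∣ orderOf y ∧
    Subgroup.centralizer {y} = Subgroup.centralizer {z} := by
  obtain ⟨p, hp, hp3, hpd⟩ := hy
  have hzo : orderOf (y ^ (orderOf y / p)) = p := orderOf_pow_orderOf_div (orderOf_pos y).ne' hpd
  refine ⟨p, y ^ (orderOf y / p), hp, hp3, hzo, Subgroup.mem_zpowers_iff.2 ⟨(orderOf y / p : ℕ), zpow_natCast _ _⟩, hpd, ?_⟩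
  have hcom := R.cent_comm R3 hp hp3 hzo
  apply le_antisymm
  · intro g hg
    rw [Subgroup.mem_centralizer_singleton_iff] at hg ⊢
    exact (show Commute g y from hg).pow_right _
  · intro g hg
    rw [Subgroup.mem_centralizer_singleton_iff]
    apply hcom g hg y
    rw [Subgroup.mem_centralizer_singleton_iff]
    exact (Commute.refl y).pow_right _

include R R3 in
theorem RA.big_comm {y : G} (hy : Big y) : ∀ u ∈ Subgroup.centralizer {y}, ∀ v ∈ Subgroup.centralizer {y}, u * v = v * u := by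
  obtain ⟨p, z, hp, hp3, hz, -, -, he⟩ := R.big_cent R3 hy
  rw [he]
  exact R.cent_comm R3 hp hp3 hz

include R R3 in
/-- commuting big elements have the same centraliser -/
theorem RA.big_eq {x y : G} (hx : Big x) (hy : Big y) (hxy : y ∈ Subgroup.centralizer {x}) : Subgroup.centralizer {y} = Subgroup.centralizer {x} := by
  have hxy' := Subgroup.mem_centralizer_singleton_iff.1 hxy
  have key : ∀ x y : G, Big x → y * x = x * y → Subgroup.centralizer {x} ≤ Subgroup.centralizer {y} := by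
    intro x y hx hxy g hg
    rw [Subgroup.mem_centralizer_singleton_iff]
    exact R.big_comm R3 hx g hg y (Subgroup.mem_centralizer_singleton_iff.2 hxy)
  exact le_antisymm (key y x hy hxy'.symm) (key x y hx hxy')

/-- the big elements of a torus -/
def XB (C : Subgroup G) : Set G := {y | y ∈ C ∧ Big y}

include R R3 in
theorem RA.count_big {x : G} (hx : Big x) :
    Nat.card (CL (XB (Subgroup.centralizer {x}))) * Nat.card (Subgroup.normalizer (Subgroup.centralizer {x} : Set G)) =
      Nat.card G * Nat.card (XB (Subgroup.centralizer {x})) := by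
  apply count_ti
  · rintro g hg y ⟨hy, hyb⟩
    exact ⟨(Subgroup.mem_normalizer_iff.1 hg y).1 hy, hyb.conj g⟩
  · rintro g y ⟨hy, hyb⟩ ⟨hy', -⟩
    have h1 := R.big_eq R3 hx hyb hy
    have h2 := R.big_eq R3 hx (hyb.conj g) hy'
    rw [cent_conj', h1] at h2
    rw [Subgroup.mem_normalizer_iff]
    intro z
    constructor
    · intro hz
      have h3 : g * z * g⁻¹ ∈ (Subgroup.centralizer {x}).map (MulAut.conj g).toMonoidHom := ⟨z, hz, rfl⟩
      rw [h2] at h3
      exact h3
    · intro hz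
      have h3 : g * z * g⁻¹ ∈ (Subgroup.centralizer {x}).map (MulAut.conj g).toMonoidHom := by rw [h2]; exact hz
      obtain ⟨w, hw, hwz⟩ := h3
      have : w = z := by
        have h4 : g * w * g⁻¹ = g * z * g⁻¹ := hwz
        exact mul_left_cancel (mul_right_cancel h4)
      rw [← this]; exact hw

end abs

end Cfsg.Agent.H5.Ree
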