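import Mathlib
import Cfsg.Agent.H5.Ree23
set_option autoImplicit false
set_option maxHeartbeats 400000
set_option maxRecDepth 10000

/-! Normalisers of tori. -/

namespace Cfsg.Agent.H5.Ree

section gen
variable {G : Type*} [Group G] [Finite G]

theorem card_two {T N : Subgroup G} (hTN : T ≤ N) {x : G} (hx : x ∈ N) (hxT : x ∉ T) (key : ∀ y ∈ N, y ∉ T → x⁻¹ * y ∈ T) :
    Nat.card N = 2 * Nat.card T := by
  let f : T ⊕ T → N := fun s => s.elim (fun t : T => ⟨(t : G), hTN t.2⟩) (fun t : T => ⟨x * (t : G), N.mul_mem hx (hTN t.2)⟩)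
  have hf : Function.Bijective f := by
    constructor
    · rintro (a | a) (b | b) h
      · have : (a : G) = b := congrArg (Subtype.val : N → G) h
        rw [Subtype.ext this]
      · exfalso
        have : (a : G) = x * b := congrArg (Subtype.val : N → G) h
        apply hxT
        have e : x = a * (b : G)⁻¹ := by rw [this]; group
        rw [e]; exact mul_mem a.2 (inv_mem b.2)
      · exfalso
        have : x * (a : G) = b := congrArg (Subtype.val : N → G) h
        apply hxT
        have e : x = b * (a : G)⁻¹ := by rw [← this]; group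
        rw [e]; exact mul_mem b.2 (inv_mem a.2)
      · have : x * (a : G) = x * b := congrArg (Subtype.val : N → G) h
        rw [Subtype.ext (mul_left_cancel this)]
    · rintro ⟨y, hy⟩
      by_cases h : y ∈ T
      · exact ⟨Sum.inl ⟨y, h⟩, rfl⟩
      · refine ⟨Sum.inr ⟨x⁻¹ * y, key y hy h⟩, ?_⟩
        apply Subtype.ext
        show x * (x⁻¹ * y) = y
        group
  rw [← Nat.card_congr (Equiv.ofBijective f hf), Nat.card_sum]; ring

theorem card_XB {C : Subgroup G} (hC : ∀ u ∈ C, ∀ v ∈ C, u * v = v * u) {c k : ℕ} (hc4 : c ∣ 4) (hk : Nat.Coprime k 6)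
    (hcard : Nat.card C = c * k) : Nat.card (XB C) + c = c * k := by
  have hck : Nat.Coprime c k := by
    apply Nat.Coprime.coprime_dvd_left hc4
    have h2 : Nat.Coprime 2 k := (Nat.Coprime.coprime_dvd_right (by norm_num) hk).symm
    have : Nat.Coprime (2 * 2) k := Nat.Coprime.mul_left h2 h2
    exact this
  have h1 := card_Om hC hck hcard
  have hU : (C : Set G) = XB C ∪ (Om C hC c : Set G) := by
    ext y
    constructor
    · intro hy
      by_cases h : y ^ c = 1
      · exact Or.inr ⟨hy, h⟩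
      · left
        refine ⟨hy, ?_⟩
        by_contra hb
        apply h
        rw [← orderOf_dvd_iff_pow_eq_one]
        have h3 : orderOf y ∣ c * k := by
          rw [← hcard, ← Subgroup.orderOf_mk y hy]; exact orderOf_dvd_natCard _
        apply Nat.Coprime.dvd_of_dvd_mul_right _ h3
        rw [Nat.coprime_iff_gcd_eq_one]
        by_contra hne
        obtain ⟨p, hp, hpd⟩ := Nat.exists_prime_and_dvd hne
        exact hb ⟨p, hp, six_prime hp (hpd.trans (Nat.gcd_dvd_right _ _)) hk, hpd.trans (Nat.gcd_dvd_left _ _)⟩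
    · rintro (h | h)
      · exact h.1
      · exact h.1
  have hD : Disjoint (XB C) (Om C hC c : Set G) := by
    rw [Set.disjoint_left]
    rintro y ⟨hy, p, hp, hp3, hpd⟩ ⟨-, hyc⟩
    have h2 : p ∣ 4 := (hpd.trans (orderOf_dvd_of_pow_eq_one hyc)).trans hc4
    have h3 : p ∣ 2 := hp.dvd_of_dvd_pow (n := 2) (by norm_num; exact h2)
    have := Nat.le_of_dvd (by norm_num) h3
    omega
  have h2 := congrArg Set.ncard hU
  rw [Set.ncard_union_eq hD (Set.toFinite _) (Set.toFinite _)] at h2
  have e1 : (C : Set G).ncard = Nat.card C := rfl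
  have e2 : (Om C hC c : Set G).ncard = Nat.card (Om C hC c) := rfl
  have e3 : (XB C).ncard = Nat.card (XB C) := rfl
  rw [e1, e2, e3, h1, hcard] at h2
  exact h2.symm

theorem mem_norm_of_map {A : Subgroup G} {g : G} (h : A.map (MulAut.conj g).toMonoidHom = A) : g ∈ Subgroup.normalizer (A : Set G) := by
  rw [Subgroup.mem_normalizer_iff]
  intro z
  constructor
  · intro hz
    have h3 : g * z * g⁻¹ ∈ A.map (MulAut.conj g).toMonoidHom := ⟨z, hz, rfl⟩
    rw [h] at h3
    exact h3
  · intro hz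
    have h3 : g * z * g⁻¹ ∈ A.map (MulAut.conj g).toMonoidHom := by rw [h]; exact hz
    obtain ⟨w, hw, hwz⟩ := h3
    have : w = z := by
      have h4 : g * w * g⁻¹ = g * z * g⁻¹ := hwz
      exact mul_left_cancel (mul_right_cancel h4)
    rw [← this]; exact hw

omit [Finite G] in
theorem card_map_conj (A : Subgroup G) (g : G) : Nat.card (A.map (MulAut.conj g).toMonoidHom) = Nat.card A :=
  (Nat.card_congr (A.equivMapOfInjective _ (MulAut.conj g).injective).toEquiv).symm

end gen

section abs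
variable {K : Type*} [Field K] [Fintype K] {G : Type*} [Group G] [Finite G] {B T U : Subgroup G} {n : G} (R : RA K B T U n)
  (R3 : RB3 (Fintype.card K) G)

include R R3 in
theorem RA.mem_norm {x g : G} (hx : Big x) (h : g * x * g⁻¹ ∈ Subgroup.centralizer {x}) :
    g ∈ Subgroup.normalizer (Subgroup.centralizer {x} : Set G) := by
  have h2 := R.big_eq R3 hx (hx.conj g) h
  rw [cent_conj'] at h2
  exact mem_norm_of_map h2

include R R3 in
theorem RA.big_cyc {x : G} (hx : Big x) {P : Subgroup G} (hP : P ≤ Subgroup.centralizer {x}) (ho : Odd (Nat.card P)) : IsCyclic P := by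
  obtain ⟨p, z, hp, hp3, hz, -, -, he⟩ := R.big_cent R3 hx
  exact R.cent_odd_cyclic R3 hp hp3 hz P (he ▸ hP) ho

include R R3 in
theorem RA.norm_eq {x : G} (hx : Big x) {k : ℕ} (hk : Nat.Coprime k 6) {A₀ : Subgroup G}
    (h0 : A₀ ≤ Om (Subgroup.centralizer {x}) (R.big_comm R3 hx) k) (h1 : A₀ ≠ ⊥) :
    Subgroup.normalizer (A₀ : Set G) = Subgroup.normalizer (Subgroup.centralizer {x} : Set G) := by
  apply le_antisymm
  · intro g hg
    obtain ⟨y, hy, hy1⟩ := (Subgroup.ne_bot_iff_exists_ne_one).1 h1 |>.imp (fun y h => h) |> fun ⟨y, hy⟩ => (⟨(y : G), y.2, fun h => hy (Subtype.ext h)⟩ : ∃ y, y ∈ A₀ ∧ y ≠ 1)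
    have hyC := mem_Om.1 (h0 hy)
    have hyb : Big y := by
      have hne : orderOf y ≠ 1 := fun h => hy1 (orderOf_eq_one_iff.1 h)
      obtain ⟨p, hp, hpd⟩ := Nat.exists_prime_and_dvd hne
      exact ⟨p, hp, six_prime hp (hpd.trans (orderOf_dvd_of_pow_eq_one hyC.2)) hk, hpd⟩
    have he := R.big_eq R3 hx hyb hyC.1
    rw [← he]
    apply R.mem_norm R3 hyb
    rw [he]
    exact (h0 ((Subgroup.mem_normalizer_iff.1 hg y).1 hy)).1
  · intro g hg
    apply mem_norm_of_map
    have hcyc := R.big_cyc R3 hx (P := Om (Subgroup.centralizer {x}) (R.big_comm R3 hx) k) (fun z hz => hz.1) (Om_odd (six_odd hk))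
    apply cyc_sub_eq hcyc _ h0 (card_map_conj _ _)
    rintro _ ⟨z, hz, rfl⟩
    have hzC := mem_Om.1 (h0 hz)
    refine ⟨(Subgroup.mem_normalizer_iff.1 hg z).1 hzC.1, ?_⟩
    rw [← map_pow, hzC.2, map_one]

include R in
/-- the normaliser of the split torus -/
theorem RA.norm_T : Nat.card (Subgroup.normalizer (T : Set G)) = 2 * (Fintype.card K - 1) := by
  rw [← R.cardT]
  -- an element of the torus
  have hq := R.q27
  obtain ⟨t, ht, ht2⟩ : ∃ t ∈ T, t * t ≠ 1 := by
    haveI := R.cyc
    obtain ⟨⟨g, hg⟩, hgen⟩ := IsCyclic.exists_generator (α := T)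
    refine ⟨g, hg, ?_⟩
    intro hc
    have h1 : orderOf (⟨g, hg⟩ : T) = Fintype.card K - 1 := by
      rw [orderOf_eq_card_of_forall_mem_zpowers hgen, R.cardT]
    have h2 : orderOf (⟨g, hg⟩ : T) ∣ 2 := orderOf_dvd_of_pow_eq_one (by rw [pow_two]; exact Subtype.ext hc)
    have h3 := Nat.le_of_dvd (by norm_num) h2
    omega
  have key : ∀ g : G, g * t * g⁻¹ ∈ T → g ∉ T → n⁻¹ * g ∈ T := by
    intro g hg hgT
    rcases R.rk.br g with hgB | ⟨u, hu, s, hs, v, hv, rfl⟩
    · exfalso
      obtain ⟨u, hu, s, hs, rfl⟩ := R.rk.dec g hgB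
      have hst := R.Tcomm hs ht
      have h1 : u * t * u⁻¹ ∈ T := by
        have : u * s * t * (u * s)⁻¹ = u * t * u⁻¹ := by
          calc u * s * t * (u * s)⁻¹ = u * (s * t) * s⁻¹ * u⁻¹ := by group
            _ = u * (t * s) * s⁻¹ * u⁻¹ := by rw [hst]
            _ = _ := by group
        rw [← this]; exact hg
      have h2 : u * (t * u⁻¹ * t⁻¹) = 1 := by
        apply R.UT _ (mul_mem hu (R.rk.HU t ht _ (inv_mem hu)))
        have : u * (t * u⁻¹ * t⁻¹) = u * t * u⁻¹ * t⁻¹ := by group
        rw [this]; exact mul_mem h1 (inv_mem ht)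
      have h3 : t * u = u * t := by
        calc t * u = (u * (t * u⁻¹ * t⁻¹))⁻¹ * u * t := by group
          _ = u * t := by rw [h2]; group
      apply hgT
      rw [R.fpf t ht ht2 u hu h3, one_mul]; exact hs
    · have hnt : n * t = t⁻¹ * n := by
        have := R.inv t ht
        rw [mul_inv_eq_iff_eq_mul] at this
        exact this
      obtain ⟨t', ht'⟩ : ∃ t', t' = u * s * n * v * t * (u * s * n * v)⁻¹ := ⟨_, rfl⟩
      rw [← ht'] at hg
      have h1 : u * (s * t⁻¹) * n * (t⁻¹ * v * t⁻¹⁻¹) = (t' * u * t'⁻¹) * (t' * s) * n * v := by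
        calc u * (s * t⁻¹) * n * (t⁻¹ * v * t⁻¹⁻¹) = u * s * (t⁻¹ * n) * t⁻¹ * v * t := by group
          _ = u * s * (n * t) * t⁻¹ * v * t := by rw [hnt]
          _ = u * s * n * v * t := by group
          _ = t' * (u * s * n * v) := by rw [ht']; group
          _ = _ := by group
      obtain ⟨h2, h3, h4⟩ := R.rk.uniq' R.UT hu (mul_mem hs (inv_mem ht)) (R.rk.HU _ (inv_mem ht) v hv) (R.rk.HU t' hg u hu) (mul_mem hg hs) hv h1
      have h5 : t' = t⁻¹ := by
        have := R.Tcomm hg hs
        rw [this] at h3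
        exact (mul_left_cancel h3).symm
      have hv1 : v = 1 := by
        apply R.fpf t ht ht2 v hv
        calc t * v = t * (t⁻¹ * v * t⁻¹⁻¹) := by rw [h4]
          _ = _ := by group
      have hu1 : u = 1 := by
        apply R.fpf t ht ht2 u hu
        rw [h5] at h2
        calc t * u = t * (t⁻¹ * u * t⁻¹⁻¹) := by rw [← h2]
          _ = _ := by group
      rw [hv1, hu1, one_mul, mul_one]
      have := R.inv s hs
      have e : n⁻¹ * (s * n) = s⁻¹ := by
        have h6 := R.inv s⁻¹ (inv_mem hs)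
        rw [inv_inv] at h6
        calc n⁻¹ * (s * n) = n⁻¹ * ((n * s⁻¹ * n⁻¹) * n) := by rw [h6]
          _ = _ := by group
      rw [e]; exact inv_mem hs
  apply card_two Subgroup.le_normalizer (x := n)
  · rw [Subgroup.mem_normalizer_iff]
    intro z
    constructor
    · intro hz
      rw [R.inv z hz]; exact inv_mem hz
    · intro hz
      have h1 := R.inv _ hz
      have hn2 : n * n ∈ T ∨ True := Or.inr trivial
      have h2 : n * (n * z * n⁻¹) * n⁻¹ = n * z⁻¹ * n⁻¹ := by rw [h1]; group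
      have h3 : n * z * n⁻¹ = z⁻¹ := mul_left_cancel (mul_right_cancel h2)
      rw [h3] at hz
      rw [← inv_inv z]; exact inv_mem hz
  · exact fun h => R.nB (R.rk.HB h)
  · intro y hy hyT
    exact key y ((Subgroup.mem_normalizer_iff.1 hy t).1 ht) hyT

end abs

end Cfsg.Agent.H5.Ree
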