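import Mathlib
import Cfsg.Agent.H5.Ree24
set_option autoImplicit false
set_option maxHeartbeats 400000
set_option maxRecDepth 10000

/-! Normalisers of the other tori. -/

namespace Cfsg.Agent.H5.Ree

theorem fst_one {H P : Type*} [Group H] [Group P] (E : H ≃* Multiplicative (ZMod 2) × P) {y : H} (ho : Odd (orderOf y)) : (E y).1 = 1 := by
  have h2 : (E y).1 ^ (orderOf y) = 1 := by
    rw [← Prod.pow_fst, ← map_pow, pow_orderOf_eq_one, map_one]; rfl
  obtain ⟨j, hj⟩ := ho
  rw [hj, pow_succ, pow_mul] at h2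
  generalize (E y).1 = w at h2
  have h3 : w ^ 2 = 1 := by clear h2; revert w; decide
  rw [h3, one_pow, one_mul] at h2
  exact h2

section abs
variable {K : Type*} [Field K] [Fintype K] {G : Type*} [Group G] [Finite G] {B T U : Subgroup G} {n : G} (R : RA K B T U n)
  (R3 : RB3 (Fintype.card K) G) (IC : ∀ a b : G, a ≠ 1 → a * a = 1 → b ≠ 1 → b * b = 1 → ∃ g : G, b = g * a * g⁻¹)

include R in
/-- the part of the normaliser centralising an involution -/
theorem RA.norm_ell_cent {p : ℕ} (hp : p.Prime) (hp2 : p ≠ 2) (hpq : p ∣ Fintype.card K + 1) {x a : G} (hx : orderOf x = p)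
    (ha1 : a ≠ 1) (ha2 : a * a = 1) (hax : a * x = x * a) (hle : Subgroup.centralizer {x} ≤ Subgroup.centralizer {a}) :
    Nat.card ↥(Subgroup.normalizer (Subgroup.centralizer {x} : Set G) ⊓ Subgroup.centralizer {a}) = 2 * Nat.card ↥(Subgroup.centralizer {x}) := by
  obtain ⟨E⟩ := R.cent a ha1 ha2
  have hxp : x ^ p = 1 := by rw [← hx, pow_orderOf_eq_one]
  have hx1 : x ≠ 1 := by rintro rfl; rw [orderOf_one] at hx; exact hp.one_lt.ne hx
  have hxa : x ∈ Subgroup.centralizer {a} := Subgroup.mem_centralizer_singleton_iff.2 hax.symm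
  have hoddp : Odd p := hp.odd_of_ne_two hp2
  obtain ⟨x', hx'⟩ : ∃ x' : ↥(Subgroup.centralizer {a}), x' = ⟨x, hxa⟩ := ⟨_, rfl⟩
  have hx'c : (x' : G) = x := by rw [hx']
  have hx'o : orderOf x' = p := by rw [hx', Subgroup.orderOf_mk, hx]
  have hf := fst_one E (y := x') (by rw [hx'o]; exact hoddp)
  set z := (E x').2 with hz
  have hEx : E x' = (1, z) := Prod.ext hf rfl
  have hzp : z ^ p = 1 := by
    rw [hz, ← Prod.pow_snd, ← map_pow, ← hx'o, pow_orderOf_eq_one, map_one]; rfl
  have hz1 : z ≠ 1 := by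
    intro h
    rw [h] at hEx
    have h1 := E.injective (hEx.trans (map_one E).symm)
    rw [h1] at hx'c
    exact hx1 hx'c.symm
  obtain ⟨⟨w', hw'⟩, hN⟩ := psl_norm_ell R.c3 hp hp2 hpq z hzp hz1
  obtain ⟨w, hw⟩ : ∃ w : ↥(Subgroup.centralizer {a}), E w = (1, w') := ⟨E.symm (1, w'), E.apply_symm_apply _⟩
  have hwx : w * x' * w⁻¹ = x'⁻¹ := by
    apply E.injective
    rw [map_mul, map_mul, map_inv, map_inv, hw, hEx, Prod.inv_mk, Prod.mk_mul_mk, Prod.mk_mul_mk, Prod.inv_mk, hw']
    simp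
  have hwxG : (w : G) * x * (w : G)⁻¹ = x⁻¹ := by
    have := congrArg Subtype.val hwx
    rw [← hx'c]; exact this
  have hxx : x⁻¹ ≠ x := by
    intro h
    have h1 : x * x = 1 := by
      calc x * x = x * x⁻¹ := by rw [h]
        _ = 1 := by group
    have h2 : orderOf x ∣ 2 := orderOf_dvd_of_pow_eq_one (by rw [pow_two, h1])
    rw [hx] at h2
    exact hp2 ((Nat.prime_dvd_prime_iff_eq hp Nat.prime_two).1 h2)
  have hcinv : Subgroup.centralizer {x⁻¹} = Subgroup.centralizer {x} := by
    ext g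
    rw [Subgroup.mem_centralizer_singleton_iff, Subgroup.mem_centralizer_singleton_iff]
    constructor
    · intro h
      have := (show Commute g x⁻¹ from h).inv_right
      rw [inv_inv] at this; exact this
    · intro h
      exact (show Commute g x from h).inv_right
  apply card_two (T := Subgroup.centralizer {x}) (x := (w : G))
  · exact le_inf Subgroup.le_normalizer hle
  · refine ⟨?_, w.2⟩
    apply mem_norm_of_map
    rw [← cent_conj', hwxG, hcinv]
  · intro h
    rw [Subgroup.mem_centralizer_singleton_iff] at h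
    apply hxx
    rw [← hwxG, h]; group
  · rintro y ⟨hyN, hya⟩ hyC
    have hyx : y * x * y⁻¹ ∈ Subgroup.centralizer {x} := (Subgroup.mem_normalizer_iff.1 hyN x).1 (Subgroup.mem_centralizer_singleton_iff.2 rfl)
    rw [Subgroup.mem_centralizer_singleton_iff] at hyx
    obtain ⟨y', hy'⟩ : ∃ y' : ↥(Subgroup.centralizer {a}), y' = ⟨y, hya⟩ := ⟨_, rfl⟩
    have hy'c : (y' : G) = y := by rw [hy']
    have h1 : (y' * x' * y'⁻¹) * x' = x' * (y' * x' * y'⁻¹) := by
      apply Subtype.ext
      show (y' : G) * (x' : G) * (y' : G)⁻¹ * x' = x' * ((y' : G) * x' * (y' : G)⁻¹)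
      rw [hy'c, hx'c]; exact hyx
    have h2 : ((E y').2 * z * (E y').2⁻¹) * z = z * ((E y').2 * z * (E y').2⁻¹) := by
      have := congrArg (fun g => (E g).2) h1
      simp only [map_mul, map_inv, Prod.snd_mul, Prod.snd_inv] at this
      exact this
    have hfst : (E (y' * x' * y'⁻¹)).1 = 1 := by
      rw [map_mul, map_mul, map_inv, hEx, Prod.fst_mul, Prod.fst_mul, Prod.fst_inv]; simp
    have hsnd : (E (y' * x' * y'⁻¹)).2 = (E y').2 * z * (E y').2⁻¹ := by
      rw [map_mul, map_mul, map_inv]; rfl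
    rcases hN _ h2 with h3 | h3
    · exfalso
      apply hyC
      have h4 : y' * x' * y'⁻¹ = x' := by
        apply E.injective
        rw [hEx]
        exact Prod.ext hfst (hsnd.trans h3)
      have h5 := congrArg Subtype.val h4
      have h6 : y * x * y⁻¹ = x := by rw [← hy'c, ← hx'c]; exact h5
      rw [Subgroup.mem_centralizer_singleton_iff]
      exact mul_inv_eq_iff_eq_mul.1 h6
    · have h4 : y' * x' * y'⁻¹ = x'⁻¹ := by
        apply E.injective
        rw [map_inv, hEx]
        exact Prod.ext (by rw [hfst]; simp) (by rw [hsnd, h3]; rfl)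
      have h5 := congrArg Subtype.val h4
      have h6 : y * x * y⁻¹ = x⁻¹ := by rw [← hy'c, ← hx'c]; exact h5
      rw [Subgroup.mem_centralizer_singleton_iff]
      have h7 : y * x = (w : G) * x * (w : G)⁻¹ * y := by rw [hwxG, ← h6]; group
      calc (w : G)⁻¹ * y * x = (w : G)⁻¹ * (y * x) := by group
        _ = (w : G)⁻¹ * ((w : G) * x * (w : G)⁻¹ * y) := by rw [h7]
        _ = _ := by group

include R R3 IC in
/-- the normaliser of the elliptic torus -/
theorem RA.norm_ell {p : ℕ} (hp : p.Prime) (hp3 : 3 < p) (hpq : p ∣ Fintype.card K + 1) {x : G} (hx : orderOf x = p) :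
    Nat.card (Subgroup.normalizer (Subgroup.centralizer {x} : Set G)) = 6 * (Fintype.card K + 1) := by
  have hxp : x ^ p = 1 := by rw [← hx, pow_orderOf_eq_one]
  have hx1 : x ≠ 1 := by rintro rfl; rw [orderOf_one] at hx; exact hp.one_lt.ne hx
  have hxb : Big x := ⟨p, hp, hp3, hx ▸ dvd_rfl⟩
  haveI : Fact p.Prime := ⟨hp⟩
  obtain ⟨a, ha1, ha2, hax, hle, hcard, hcom⟩ := R.ell hp (by omega) hpq hxp hx1
  have hM := R.norm_ell_cent hp (by omega) hpq hx ha1 ha2 hax hle
  set C := Subgroup.centralizer {x} with hC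
  set N := Subgroup.normalizer (C : Set G) with hN
  have haC : a ∈ C := Subgroup.mem_centralizer_singleton_iff.2 hax
  -- three involutions
  have h4 : Nat.card {b : G // b ∈ C ∧ b ≠ 1 ∧ b * b = 1} = 3 := by
    have hq8 := R.mod8
    have hc4 := card_Om (C := C) hcom (a := 4) (b := (Fintype.card K + 1) / 4) (by
      have : Odd ((Fintype.card K + 1) / 4) := by rw [Nat.odd_iff]; omega
      have h2 := (Nat.coprime_two_left.2 this)
      exact Nat.Coprime.mul_left (k := (Fintype.card K + 1) / 4) (m := 2) (n := 2) h2 h2) (by rw [hcard]; omega)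
    have hset : (Om C hcom 4 : Set G) = insert 1 {b | b ∈ C ∧ b ≠ 1 ∧ b * b = 1} := by
      ext y
      constructor
      · rintro ⟨hy, hy4⟩
        by_cases h1 : y = 1
        · exact Or.inl h1
        · right
          refine ⟨hy, h1, ?_⟩
          have h2 : orderOf y ∣ 4 := orderOf_dvd_of_pow_eq_one hy4
          have h3 := R.no_four y
          have h5 : orderOf y ∈ Nat.divisors 4 := Nat.mem_divisors.2 ⟨h2, by norm_num⟩
          have h6 : Nat.divisors 4 = {1, 2, 4} := by decide
          rw [h6] at h5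
          simp only [Finset.mem_insert, Finset.mem_singleton] at h5
          rcases h5 with h5 | h5 | h5
          · exact absurd (orderOf_eq_one_iff.1 h5) h1
          · rw [← pow_two, ← h5, pow_orderOf_eq_one]
          · exact absurd h5 h3
      · rintro (h | ⟨hy, -, hy2⟩)
        · rw [h]; exact one_mem _
        · refine ⟨hy, ?_⟩
          calc y ^ 4 = y ^ 2 * y ^ 2 := by rw [← pow_add]
            _ = 1 := by rw [pow_two, hy2, one_mul]
    have h5 := congrArg Set.ncard hset
    rw [Set.ncard_insert_of_notMem (by rintro ⟨-, h, -⟩; exact h rfl) (Set.toFinite _)] at h5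
    have e1 : (Om C hcom 4 : Set G).ncard = Nat.card (Om C hcom 4) := rfl
    have e2 : {b | b ∈ C ∧ b ≠ 1 ∧ b * b = 1}.ncard = Nat.card {b : G // b ∈ C ∧ b ≠ 1 ∧ b * b = 1} := rfl
    rw [e1, e2, hc4] at h5
    omega
  let f : N → {b : G // b ∈ C ∧ b ≠ 1 ∧ b * b = 1} := fun g => ⟨(g : G) * a * (g : G)⁻¹, (Subgroup.mem_normalizer_iff.1 g.2 a).1 haC, by
      intro h
      apply ha1
      calc a = (g : G)⁻¹ * ((g : G) * a * (g : G)⁻¹) * g := by group
        _ = 1 := by rw [h]; group, by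
      calc (g : G) * a * (g : G)⁻¹ * ((g : G) * a * (g : G)⁻¹) = (g : G) * (a * a) * (g : G)⁻¹ := by group
        _ = 1 := by rw [ha2]; group⟩
  have key : ∀ b : {b : G // b ∈ C ∧ b ≠ 1 ∧ b * b = 1}, Nat.card {g // f g = b} = Nat.card ↥(N ⊓ Subgroup.centralizer {a}) := by
    rintro ⟨b, hbC, hb1, hb2⟩
    obtain ⟨g₁, hg₁⟩ := IC a b ha1 ha2 hb1 hb2
    have hxb' : x ∈ Subgroup.centralizer {b} := by
      rw [Subgroup.mem_centralizer_singleton_iff]
      exact (Subgroup.mem_centralizer_singleton_iff.1 hbC).symm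
    have hx'b : g₁ * x * g₁⁻¹ ∈ Subgroup.centralizer {b} := by
      rw [Subgroup.mem_centralizer_singleton_iff, hg₁]
      calc g₁ * x * g₁⁻¹ * (g₁ * a * g₁⁻¹) = g₁ * (x * a) * g₁⁻¹ := by group
        _ = g₁ * (a * x) * g₁⁻¹ := by rw [hax]
        _ = _ := by group
    obtain ⟨h, hhb, hh⟩ := sub_conj (Subgroup.centralizer {b}) (fun P _ hP => R.pgroup_cyclic R3 hp hp3 P hP) hxb' hx'b hx (by
      rw [← hx, ← MulAut.conj_apply]; exact (MulAut.conj g₁).orderOf_eq x)
    have hg₀ : h * g₁ ∈ N := by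
      apply R.mem_norm R3 hxb
      have : h * g₁ * x * (h * g₁)⁻¹ ∈ Subgroup.zpowers x := by
        rw [conj3]; exact hh
      exact (Subgroup.zpowers_le.2 (Subgroup.mem_centralizer_singleton_iff.2 rfl)) this
    have hg₀a : (h * g₁) * a * (h * g₁)⁻¹ = b := by
      rw [conj3, ← hg₁, Subgroup.mem_centralizer_singleton_iff.1 hhb]; group
    apply Nat.card_congr
    exact
      { toFun := fun g => ⟨(h * g₁)⁻¹ * (g.1 : G), Subgroup.mem_inf.2 ⟨N.mul_mem (N.inv_mem hg₀) g.1.2, by
          rw [Subgroup.mem_centralizer_singleton_iff]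
          have e : (g.1 : G) * a * (g.1 : G)⁻¹ = b := congrArg Subtype.val g.2
          have e2 : (g.1 : G) * a = b * (g.1 : G) := mul_inv_eq_iff_eq_mul.1 e
          rw [mul_assoc, e2]
          calc (h * g₁)⁻¹ * (b * (g.1 : G)) = (h * g₁)⁻¹ * ((h * g₁) * a * (h * g₁)⁻¹ * (g.1 : G)) := by rw [hg₀a]
            _ = _ := by group⟩⟩
        invFun := fun g => ⟨⟨(h * g₁) * (g : G), N.mul_mem hg₀ (Subgroup.mem_inf.1 g.2).1⟩, by
          apply Subtype.ext
          show (h * g₁) * (g : G) * a * ((h * g₁) * (g : G))⁻¹ = b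
          have e := Subgroup.mem_centralizer_singleton_iff.1 (Subgroup.mem_inf.1 g.2).2
          calc (h * g₁) * (g : G) * a * ((h * g₁) * (g : G))⁻¹ = (h * g₁) * ((g : G) * a) * (g : G)⁻¹ * (h * g₁)⁻¹ := by group
            _ = (h * g₁) * (a * (g : G)) * (g : G)⁻¹ * (h * g₁)⁻¹ := by rw [e]
            _ = (h * g₁) * a * (h * g₁)⁻¹ := by group
            _ = b := hg₀a⟩
        left_inv := by
          rintro ⟨⟨g, hg⟩, hg'⟩
          apply Subtype.ext
          apply Subtype.ext
          show (h * g₁) * ((h * g₁)⁻¹ * g) = g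
          group
        right_inv := by
          rintro ⟨g, hg⟩
          apply Subtype.ext
          show (h * g₁)⁻¹ * ((h * g₁) * g) = g
          group }
  have h5 := Cfsg.Agent.H5.card_of_fibers_univ f _ key
  rw [h4, hM, hcard] at h5
  rw [h5]; ring

include R R3 in
/-- the normaliser of the third kind of torus -/
theorem RA.norm_third {p : ℕ} (hp : p.Prime) (hp3 : 3 < p) (hpq : p ∣ Fintype.card K ^ 2 - Fintype.card K + 1) {x : G} (hx : orderOf x = p) :
    ∃ w, w ∣ 6 ∧ Nat.card (Subgroup.normalizer (Subgroup.centralizer {x} : Set G)) = w * Nat.card ↥(Subgroup.centralizer {x}) := by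
  have hxp : x ^ p = 1 := by rw [← hx, pow_orderOf_eq_one]
  have hx1 : x ≠ 1 := by rintro rfl; rw [orderOf_one] at hx; exact hp.one_lt.ne hx
  have hxb : Big x := ⟨p, hp, hp3, hx ▸ dvd_rfl⟩
  haveI : Fact p.Prime := ⟨hp⟩
  have hp6 : Nat.Coprime p 6 := by
    rw [Nat.Prime.coprime_iff_not_dvd hp]
    intro h
    have := Nat.le_of_dvd (by norm_num) h
    have hp5 : p = 4 ∨ p = 5 ∨ p = 6 := by omega
    rcases hp5 with rfl | rfl | rfl
    · exact absurd hp (by norm_num)
    · exact absurd h (by norm_num)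
    · exact absurd hp (by norm_num)
  have h1 := R.norm_eq R3 hxb hp6 (A₀ := Subgroup.zpowers x) (by
    rw [Subgroup.zpowers_le]
    exact ⟨Subgroup.mem_centralizer_singleton_iff.2 rfl, hxp⟩) (by
    rw [Ne, Subgroup.zpowers_eq_bot]; exact hx1)
  rw [← h1]
  set P := Subgroup.zpowers x with hP
  have hPc : Subgroup.centralizer (P : Set G) = Subgroup.centralizer {x} := by
    apply le_antisymm
    · exact Subgroup.centralizer_le (Set.singleton_subset_iff.2 (Subgroup.mem_zpowers x))
    · intro g hg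
      rw [Subgroup.mem_centralizer_iff]
      rintro _ ⟨k, rfl⟩
      rw [Subgroup.mem_centralizer_singleton_iff] at hg
      exact ((show Commute g x from hg).zpow_right k).symm.eq
  let φ := P.normalizerMonoidHom
  have hker : φ.ker = (Subgroup.centralizer (P : Set G)).subgroupOf (Subgroup.normalizer (P : Set G)) := P.normalizerMonoidHom_ker
  have hcard : Nat.card (Subgroup.normalizer (P : Set G)) = Nat.card φ.range * Nat.card (Subgroup.centralizer {x}) := by
    rw [← φ.ker.card_mul_index, Subgroup.index_ker, hker, hPc, mul_comm]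
    congr 1
    apply Nat.card_congr (Subgroup.subgroupOfEquivOfLe _).toEquiv
    rw [h1]; exact Subgroup.le_normalizer
  refine ⟨Nat.card φ.range, ?_, hcard⟩
  have hPcard : Nat.card P = p := by rw [Nat.card_zpowers, hx]
  haveI : Fact (Nat.card P).Prime := ⟨by rw [hPcard]; exact hp⟩
  haveI hPcyc : IsCyclic P := ⟨⟨⟨x, Subgroup.mem_zpowers x⟩, by
    rintro ⟨_, k, rfl⟩
    exact ⟨k, by apply Subtype.ext; simp⟩⟩⟩
  haveI : IsCyclic (MulAut P) := isCyclic_of_injective (IsCyclic.mulAutMulEquiv P).toMonoidHom (IsCyclic.mulAutMulEquiv P).injective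
  haveI : IsCyclic φ.range := inferInstance
  obtain ⟨⟨g, hg⟩, hgen⟩ := IsCyclic.exists_generator (α := φ.range)
  rw [← orderOf_eq_card_of_forall_mem_zpowers hgen]
  apply orderOf_dvd_of_pow_eq_one
  apply Subtype.ext
  obtain ⟨⟨y, hy⟩, rfl⟩ := hg
  show φ ⟨y, hy⟩ ^ 6 = 1
  rw [← map_pow, ← MonoidHom.mem_ker, hker, Subgroup.mem_subgroupOf, hPc, Subgroup.mem_centralizer_singleton_iff]
  show y ^ 6 * x = x * y ^ 6
  have h2 : y * x * y⁻¹ ∈ P := (Subgroup.mem_normalizer_iff.1 hy x).1 (Subgroup.mem_zpowers x)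
  obtain ⟨j, hj⟩ := (isOfFinOrder_of_finite x).mem_powers_iff_mem_zpowers.2 h2
  exact (R3.third p hp hp3 hpq x hxp hx1).2.2 y j hj.symm

end abs

end Cfsg.Agent.H5.Ree
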