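import Mathlib
import Cfsg.Agent.H5.Ree25
set_option autoImplicit false
set_option maxHeartbeats 400000
set_option maxRecDepth 10000

/-! Small elements. -/

namespace Cfsg.Agent.H5.Ree

section abs
variable {K : Type*} [Field K] [Fintype K] {G : Type*} [Group G] [Finite G] {B T U : Subgroup G} {n : G} (R : RA K B T U n)
  (R3 : RB3 (Fintype.card K) G) (IC : ∀ a b : G, a ≠ 1 → a * a = 1 → b ≠ 1 → b * b = 1 → ∃ g : G, b = g * a * g⁻¹)

include R in
theorem RA.card_B : Nat.card B = Fintype.card K ^ 3 * (Fintype.card K - 1) := by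
  have hf : Function.Surjective (fun z : U × T => (⟨z.1 * z.2, mul_mem (R.rk.UB z.1.2) (R.rk.HB z.2.2)⟩ : B)) := by
    rintro ⟨b, hb⟩
    obtain ⟨u, hu, t, ht, rfl⟩ := R.rk.dec b hb
    exact ⟨(⟨u, hu⟩, ⟨t, ht⟩), rfl⟩
  have hinj : Function.Injective (fun z : U × T => (⟨z.1 * z.2, mul_mem (R.rk.UB z.1.2) (R.rk.HB z.2.2)⟩ : B)) := by
    rintro ⟨⟨u, hu⟩, ⟨t, ht⟩⟩ ⟨⟨u', hu'⟩, ⟨t', ht'⟩⟩ h
    have h4 : u * t = u' * t' := congrArg Subtype.val h
    have h5 : u'⁻¹ * u = t' * t⁻¹ := by
      calc u'⁻¹ * u = u'⁻¹ * (u * t) * t⁻¹ := by group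
        _ = _ := by rw [h4]; group
    have h6 := R.UT _ (mul_mem (inv_mem hu') hu) (by rw [h5]; exact mul_mem ht' (inv_mem ht))
    have h7 : u = u' := (inv_mul_eq_one.1 h6).symm
    rw [h7] at h4
    exact Prod.ext (Subtype.ext h7) (Subtype.ext (mul_left_cancel h4))
  rw [← Nat.card_congr (Equiv.ofBijective _ ⟨hinj, hf⟩), Nat.card_prod, R.cardU, R.cardT]

include R in
theorem RA.q3pos : 0 < Fintype.card K ^ 3 := pow_pos R.qpos 3

/-- the three-elements -/
def A3 (U : Subgroup G) : Set G := CL {u | u ∈ U ∧ u ≠ 1}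

include R in
theorem RA.card_A3 : Nat.card (A3 U) = (Fintype.card K ^ 3 - 1) * (Fintype.card K ^ 3 + 1) := by
  have h1 := count_ti B {u | u ∈ U ∧ u ≠ 1} (by
    rintro g hg x ⟨hx, hx1⟩
    refine ⟨R.rk.norm hg hx, ?_⟩
    intro h
    apply hx1
    calc x = g⁻¹ * (g * x * g⁻¹) * g := by group
      _ = 1 := by rw [h]; group) (by
    rintro g x ⟨hx, hx1⟩ ⟨h, -⟩
    exact R.rk.ti hx hx1 (R.rk.UB h))
  have h2 : Nat.card ({u | u ∈ U ∧ u ≠ 1} : Set G) = Fintype.card K ^ 3 - 1 := by
    have hset : (U : Set G) = insert 1 {u | u ∈ U ∧ u ≠ 1} := by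
      ext y
      constructor
      · intro hy
        by_cases h1 : y = 1
        · exact Or.inl h1
        · exact Or.inr ⟨hy, h1⟩
      · rintro (h | h)
        · rw [h]; exact one_mem _
        · exact h.1
    have h5 := congrArg Set.ncard hset
    rw [Set.ncard_insert_of_notMem (by rintro ⟨-, h⟩; exact h rfl) (Set.toFinite _)] at h5
    have e1 : (U : Set G).ncard = Nat.card U := rfl
    have e2 : {u | u ∈ U ∧ u ≠ 1}.ncard = Nat.card ({u | u ∈ U ∧ u ≠ 1} : Set G) := rfl
    rw [e1, e2, R.cardU] at h5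
    omega
  rw [R.card_B, R.card, h2] at h1
  have hq := R.q27
  have hpos : 0 < Fintype.card K ^ 3 * (Fintype.card K - 1) := Nat.mul_pos R.q3pos (by omega)
  apply Nat.eq_of_mul_eq_mul_right hpos
  show Nat.card (CL {u | u ∈ U ∧ u ≠ 1}) * _ = _
  rw [h1]; ring

/-- involutions -/
def A2 (G : Type*) [Group G] : Set G := {a | a ≠ 1 ∧ a * a = 1}

include R IC in
theorem RA.card_A2 : Nat.card (A2 G) * (Fintype.card K * (Fintype.card K ^ 2 - 1)) = Nat.card G := by
  obtain ⟨a, ha1, ha2⟩ := R.exinv
  have h1 := count_ti (Subgroup.centralizer {a}) {a} (by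
    rintro g hg x rfl
    rw [Subgroup.mem_centralizer_singleton_iff] at hg
    show g * x * g⁻¹ = x
    rw [hg]; group) (by
    rintro g x rfl h
    have h' : g * x * g⁻¹ = x := h
    rw [Subgroup.mem_centralizer_singleton_iff]
    exact mul_inv_eq_iff_eq_mul.1 h')
  have h2 : CL {a} = A2 G := by
    ext b
    constructor
    · rintro ⟨g, hg⟩
      have h : g⁻¹ * b * g = a := hg
      have e : b = g * a * g⁻¹ := by rw [← h]; group
      refine ⟨?_, ?_⟩
      · intro hb
        apply ha1
        rw [← h, hb]; group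
      · rw [e]
        calc g * a * g⁻¹ * (g * a * g⁻¹) = g * (a * a) * g⁻¹ := by group
          _ = 1 := by rw [ha2]; group
    · rintro ⟨hb1, hb2⟩
      obtain ⟨g, hg⟩ := IC a b ha1 ha2 hb1 hb2
      refine ⟨g, ?_⟩
      show g⁻¹ * b * g = a
      rw [hg]; group
  have h3 : Nat.card ({a} : Set G) = 1 := by simp
  rw [h2, h3, mul_one, R.card_cent_inv ha1 ha2] at h1
  exact h1

/-- elements with cube a given involution -/
def X6 (a : G) : Set G := {g | g ^ 3 = a ∧ g ≠ a}

include R in
theorem RA.card_X6 {a : G} (ha1 : a ≠ 1) (ha2 : a * a = 1) : Nat.card (X6 a) + 1 = Fintype.card K ^ 2 := by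
  obtain ⟨E⟩ := R.cent a ha1 ha2
  have hq := R.q27
  have hcc := psl_cube_card (F := K) R.c3
  have haa : a ∈ Subgroup.centralizer {a} := Subgroup.mem_centralizer_singleton_iff.2 rfl
  obtain ⟨a', ha'⟩ : ∃ a' : ↥(Subgroup.centralizer {a}), a' = ⟨a, haa⟩ := ⟨_, rfl⟩
  have ha'c : (a' : G) = a := by rw [ha']
  -- the second component of the central involution is trivial
  have h2 : (E a').2 = 1 := by
    have hne : ∃ y : Matrix.ProjectiveSpecialLinearGroup (Fin 2) K, y ^ 3 = 1 ∧ y ≠ 1 := by
      by_contra hno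
      push Not at hno
      have hsub : Subsingleton {y : Matrix.ProjectiveSpecialLinearGroup (Fin 2) K // y ^ 3 = 1} :=
        ⟨fun x y => Subtype.ext ((hno x.1 x.2).trans (hno y.1 y.2).symm)⟩
      have := Nat.card_eq_one_iff_unique.2 ⟨hsub, ⟨⟨1, one_pow _⟩⟩⟩
      rw [this] at hcc
      nlinarith
    obtain ⟨y, hy, hy1⟩ := hne
    have hcomm : (E a').2 * y = y * (E a').2 := by
      have h3 : a' * E.symm (1, y) = E.symm (1, y) * a' := by
        apply Subtype.ext
        show (a' : G) * _ = _ * (a' : G)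
        rw [ha'c]
        exact (Subgroup.mem_centralizer_singleton_iff.1 (E.symm (1, y)).2).symm
      have h4 := congrArg (fun g => (E g).2) h3
      simp only [map_mul, Prod.snd_mul, MulEquiv.apply_symm_apply] at h4
      exact h4
    have h3 := psl_cent_three R.c3 hy hy1 hcomm
    have h4 : (E a').2 ^ 2 = 1 := by
      rw [← Prod.pow_snd, ← map_pow]
      have : a' ^ 2 = 1 := by
        apply Subtype.ext
        show (a' : G) ^ 2 = 1
        rw [ha'c, pow_two, ha2]
      rw [this, map_one]; rfl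
    rw [pow_succ, h4, one_mul] at h3
    exact h3
  have h1 : (E a').1 ≠ 1 := by
    intro h
    have : E a' = 1 := Prod.ext h h2
    have h3 := E.injective (this.trans (map_one E).symm)
    apply ha1
    rw [← ha'c, h3]; rfl
  set ε := (E a').1 with hε
  have hEa : E a' = (ε, 1) := Prod.ext rfl h2
  have hz2 : ∀ e : Multiplicative (ZMod 2), e ^ 3 = e := by decide
  have hf : ∀ z : Matrix.ProjectiveSpecialLinearGroup (Fin 2) K, z ^ 3 = 1 → ((E.symm (ε, z) : ↥(Subgroup.centralizer {a})) : G) ^ 3 = a := by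
    intro z hz
    have h5 : (E.symm (ε, z)) ^ 3 = a' := by
      apply E.injective
      rw [map_pow, MulEquiv.apply_symm_apply, hEa]
      exact Prod.ext (hz2 _) hz
    exact (congrArg Subtype.val h5).trans ha'c
  let f : {z : {y : Matrix.ProjectiveSpecialLinearGroup (Fin 2) K // y ^ 3 = 1} // z ≠ ⟨1, one_pow _⟩} → X6 a := fun z =>
    ⟨((E.symm (ε, z.1.1) : ↥(Subgroup.centralizer {a})) : G), hf _ z.1.2, by
      intro h
      apply z.2
      apply Subtype.ext
      show z.1.1 = 1
      have h3 : E.symm (ε, z.1.1) = a' := Subtype.ext (h.trans ha'c.symm)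
      have h4 := congrArg E h3
      rw [MulEquiv.apply_symm_apply, hEa] at h4
      exact congrArg Prod.snd h4⟩
  have hbij : Function.Bijective f := by
    constructor
    · intro z w h
      have h3 : ((E.symm (ε, z.1.1) : ↥(Subgroup.centralizer {a})) : G) = ((E.symm (ε, w.1.1) : ↥(Subgroup.centralizer {a})) : G) :=
        congrArg (fun x : X6 a => (x : G)) h
      have h4 := E.symm.injective (Subtype.ext h3)
      exact Subtype.ext (Subtype.ext (congrArg Prod.snd h4))
    · rintro ⟨g, hg3, hga⟩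
      have hgc : g ∈ Subgroup.centralizer {a} := by
        rw [Subgroup.mem_centralizer_singleton_iff, ← hg3]
        exact ((Commute.refl g).pow_right 3).eq
      obtain ⟨g', hg'⟩ : ∃ g' : ↥(Subgroup.centralizer {a}), g' = ⟨g, hgc⟩ := ⟨_, rfl⟩
      have hg'c : (g' : G) = g := by rw [hg']
      have h3 : g' ^ 3 = a' := by
        apply Subtype.ext
        rw [Subgroup.coe_pow, hg'c, ha'c, hg3]
      have h4 : (E g').1 = ε := by
        rw [← hz2 (E g').1, ← Prod.pow_fst, ← map_pow, h3]
      have h5 : (E g').2 ^ 3 = 1 := by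
        rw [← Prod.pow_snd, ← map_pow, h3, h2]
      have h6 : E.symm (ε, (E g').2) = g' := by
        rw [MulEquiv.symm_apply_eq]; exact Prod.ext h4.symm rfl
      refine ⟨⟨⟨(E g').2, h5⟩, ?_⟩, ?_⟩
      · intro h
        apply hga
        have h7 : (E g').2 = 1 := congrArg Subtype.val h
        rw [h7, ← hEa, MulEquiv.symm_apply_apply] at h6
        rw [← hg'c, ← h6, ha'c]
      · apply Subtype.ext
        show ((E.symm (ε, (E g').2) : ↥(Subgroup.centralizer {a})) : G) = g
        rw [h6, hg'c]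
  rw [← Nat.card_congr (Equiv.ofBijective f hbij), ← hcc]
  classical
  haveI : Fintype {y : Matrix.ProjectiveSpecialLinearGroup (Fin 2) K // y ^ 3 = 1} := Fintype.ofFinite _
  rw [Nat.card_eq_fintype_card, Nat.card_eq_fintype_card, Fintype.card_subtype_compl, Fintype.card_subtype_eq]
  have : 0 < Fintype.card {y : Matrix.ProjectiveSpecialLinearGroup (Fin 2) K // y ^ 3 = 1} := Fintype.card_pos_iff.2 ⟨⟨1, one_pow _⟩⟩
  omega

include R IC in
theorem RA.card_A6 : Nat.card {g : G | orderOf g = 6} * (Fintype.card K * (Fintype.card K ^ 2 - 1)) = Nat.card G * (Fintype.card K ^ 2 - 1) := by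
  obtain ⟨a, ha1, ha2⟩ := R.exinv
  have h6 := R.card_X6 ha1 ha2
  have h1 := count_ti (Subgroup.centralizer {a}) (X6 a) (by
    rintro g hg x ⟨hx, hxa⟩
    rw [Subgroup.mem_centralizer_singleton_iff] at hg
    have hga : g * a * g⁻¹ = a := by rw [hg]; group
    refine ⟨?_, ?_⟩
    · rw [conj_pow, hx, hga]
    · intro h
      apply hxa
      rw [← hga] at h
      exact mul_left_cancel (mul_right_cancel h)) (by
    rintro g x ⟨hx, hxa⟩ ⟨h, -⟩
    rw [conj_pow, hx] at h
    rw [Subgroup.mem_centralizer_singleton_iff]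
    exact mul_inv_eq_iff_eq_mul.1 h)
  have h2 : CL (X6 a) = {g : G | orderOf g = 6} := by
    ext g
    constructor
    · rintro ⟨h, h3, hne⟩
      have ho : orderOf (h⁻¹ * g * h) = orderOf g := by
        have h5 := (MulAut.conj h⁻¹).orderOf_eq g
        rw [MulAut.conj_apply, inv_inv] at h5
        exact h5
      show orderOf g = 6
      rw [← ho]
      set y := h⁻¹ * g * h
      have hy6 : y ^ 6 = 1 := by
        rw [show 6 = 3 * 2 by norm_num, pow_mul, h3, pow_two, ha2]
      have hd : orderOf y ∣ 6 := orderOf_dvd_of_pow_eq_one hy6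
      have hm : orderOf y ∈ Nat.divisors 6 := Nat.mem_divisors.2 ⟨hd, by norm_num⟩
      have hdv : Nat.divisors 6 = {1, 2, 3, 6} := by decide
      rw [hdv] at hm
      simp only [Finset.mem_insert, Finset.mem_singleton] at hm
      rcases hm with hm | hm | hm | hm
      · exfalso
        rw [orderOf_eq_one_iff.1 hm, one_pow] at h3
        exact ha1 h3.symm
      · exfalso
        have hy2 : y ^ 2 = 1 := by rw [← hm, pow_orderOf_eq_one]
        rw [pow_succ, hy2, one_mul] at h3
        exact hne h3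
      · exfalso
        have hy3 : y ^ 3 = 1 := by rw [← hm, pow_orderOf_eq_one]
        exact ha1 (h3.symm.trans hy3)
      · exact hm
    · intro hg
      have hg : orderOf g = 6 := hg
      have hg3 : g ^ 3 ≠ 1 := by
        intro h
        have := Nat.le_of_dvd (by norm_num) (orderOf_dvd_of_pow_eq_one h)
        omega
      have hg32 : g ^ 3 * g ^ 3 = 1 := by
        have h66 : g ^ 3 * g ^ 3 = g ^ 6 := by rw [← pow_add]
        rw [h66, ← hg, pow_orderOf_eq_one]
      obtain ⟨h, hh⟩ := IC a (g ^ 3) ha1 ha2 hg3 hg32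
      refine ⟨h, ?_, ?_⟩
      · have : h⁻¹ * g * h = h⁻¹ * g * h⁻¹⁻¹ := by rw [inv_inv]
        rw [this, conj_pow, hh]; group
      · intro he
        have e : g = h * a * h⁻¹ := by rw [← he]; group
        have e2 : g ^ 2 = 1 := by
          rw [e, conj_pow, pow_two, ha2]; group
        have := Nat.le_of_dvd (by norm_num) (orderOf_dvd_of_pow_eq_one e2)
        omega
  rw [h2, R.card_cent_inv ha1 ha2] at h1
  have h7 : Nat.card (X6 a) = Fintype.card K ^ 2 - 1 := by omega
  rw [h7] at h1
  exact h1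

include R IC in
/-- elements which are not big -/
theorem RA.small {g : G} (hg : ¬ Big g) : g = 1 ∨ g ∈ A2 G ∨ g ∈ A3 U ∨ orderOf g = 6 := by
  haveI : Fact (Nat.Prime 3) := ⟨Nat.prime_three⟩
  have hpr : ∀ p, p.Prime → p ∣ orderOf g → p = 2 ∨ p = 3 := by
    intro p hp hpd
    by_contra hne
    push Not at hne
    apply hg
    refine ⟨p, hp, ?_, hpd⟩
    have := hp.two_le
    omega
  by_cases h2 : 2 ∣ orderOf g
  · right
    have hpos := orderOf_pos g
    have ha : orderOf (g ^ (orderOf g / 2)) = 2 := orderOf_pow_orderOf_div hpos.ne' h2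
    set a := g ^ (orderOf g / 2) with hadef
    have ha1 : a ≠ 1 := by
      intro h; rw [h, orderOf_one] at ha; norm_num at ha
    have ha2 : a * a = 1 := by rw [← pow_two, ← ha, pow_orderOf_eq_one]
    have hga : g ∈ Subgroup.centralizer {a} := by
      rw [Subgroup.mem_centralizer_singleton_iff, hadef]
      exact ((Commute.refl g).pow_right _).eq
    obtain ⟨E⟩ := R.cent a ha1 ha2
    by_cases h3 : 3 ∣ orderOf g
    · right; right
      have hy : orderOf (g ^ (orderOf g / 3)) = 3 := orderOf_pow_orderOf_div hpos.ne' h3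
      obtain ⟨m, hm⟩ : ∃ m, m = orderOf g / 3 := ⟨_, rfl⟩
      rw [← hm] at hy
      obtain ⟨g', hg'⟩ : ∃ g' : ↥(Subgroup.centralizer {a}), g' = ⟨g, hga⟩ := ⟨_, rfl⟩
      have hg'c : (g' : G) = g := by rw [hg']
      have hyo : orderOf (g' ^ m) = 3 := by
        have e : orderOf (((g' ^ m : ↥(Subgroup.centralizer {a})) : G)) = orderOf (g' ^ m) := Subgroup.orderOf_coe _
        rw [← e, Subgroup.coe_pow, hg'c, hy]
      have hf := fst_one E (y := g' ^ m) (by rw [hyo]; decide)
      have hz3 : (E (g' ^ m)).2 ^ 3 = 1 := by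
        have e : (g' ^ m) ^ 3 = 1 := by rw [← hyo, pow_orderOf_eq_one]
        rw [← Prod.pow_snd, ← map_pow, e, map_one]; rfl
      have hz1 : (E (g' ^ m)).2 ≠ 1 := by
        intro h
        have : E (g' ^ m) = 1 := Prod.ext hf h
        rw [E.injective (this.trans (map_one E).symm), orderOf_one] at hyo
        norm_num at hyo
      have hcm : (E g').2 * (E (g' ^ m)).2 = (E (g' ^ m)).2 * (E g').2 := by
        rw [map_pow, Prod.pow_snd]
        exact ((Commute.refl _).pow_right _).eq
      have hc := psl_cent_three R.c3 hz3 hz1 hcm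
      have h6 : g' ^ 6 = 1 := by
        apply E.injective
        rw [map_pow, map_one]
        apply Prod.ext
        · rw [Prod.pow_fst]
          have : ∀ e : Multiplicative (ZMod 2), e ^ 6 = 1 := by decide
          exact this _
        · rw [Prod.pow_snd, show 6 = 3 * 2 by norm_num, pow_mul, hc, one_pow]; rfl
      have h6' : g ^ 6 = 1 := by
        rw [← hg'c, ← Subgroup.coe_pow, h6]; rfl
      have hd := orderOf_dvd_of_pow_eq_one h6'
      have hd2 : 6 ∣ orderOf g := by
        have : Nat.Coprime 2 3 := by norm_num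
        exact this.mul_dvd_of_dvd_of_dvd h2 h3
      exact Nat.dvd_antisymm hd hd2
    · left
      have hn4 : ¬ 4 ∣ orderOf g := by
        intro h4
        exact R.no_four _ (orderOf_pow_orderOf_div hpos.ne' h4)
      obtain ⟨k, hk⟩ := h2
      have hk1 : k = 1 := by
        by_contra hne
        obtain ⟨p, hp, hpd⟩ := Nat.exists_prime_and_dvd hne
        rcases hpr p hp (hk ▸ Dvd.dvd.mul_left hpd 2) with rfl | rfl
        · apply hn4
          rw [hk]
          exact Nat.mul_dvd_mul_left 2 hpd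
        · exact h3 (hk ▸ Dvd.dvd.mul_left hpd 2)
      rw [hk1, mul_one] at hk
      refine ⟨?_, ?_⟩
      · intro h; rw [h, orderOf_one] at hk; norm_num at hk
      · rw [← pow_two, ← hk, pow_orderOf_eq_one]
  · by_cases h1 : g = 1
    · exact Or.inl h1
    · right; right; left
      have h3 : ∀ {p : ℕ}, p.Prime → p ∣ orderOf g → p = 3 := by
        intro p hp hpd
        rcases hpr p hp hpd with rfl | rfl
        · exact absurd hpd h2
        · rfl
      have h4 := Nat.eq_prime_pow_of_unique_prime_dvd (orderOf_pos g).ne' h3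
      obtain ⟨h, hh⟩ := conj_into U (p := 3) (by
        rw [R.index_U]
        intro h
        obtain ⟨j, hj⟩ := R.three_dvd
        have hq := R.q27
        rcases (Nat.Prime.dvd_mul Nat.prime_three).1 h with h | h
        · omega
        · rw [hj] at h
          have h2 : 3 ∣ (3 * j) ^ 3 := by rw [pow_succ]; exact Dvd.dvd.mul_left (Dvd.intro _ rfl) _
          have := (Nat.dvd_add_right h2).1 h
          exact absurd this (by norm_num)) g (n := (orderOf g).primeFactorsList.length) (by rw [← h4, pow_orderOf_eq_one])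
      refine ⟨h, hh, ?_⟩
      intro he
      apply h1
      calc g = h * (h⁻¹ * g * h) * h⁻¹ := by group
        _ = 1 := by rw [he]; group

end abs

end Cfsg.Agent.H5.Ree
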