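import Mathlib
import Cfsg.Agent.H5.Ree26
set_option autoImplicit false
set_option maxHeartbeats 400000
set_option maxRecDepth 10000

/-! Counting the big elements. -/

namespace Cfsg.Agent.H5.Ree

section gen
variable {G : Type*} [Group G]

/-- big elements of order dividing `k` -/
def BK (G : Type*) [Group G] (k : ℕ) : Set G := {g | Big g ∧ orderOf g ∣ k}

theorem orderOf_conj' (h g : G) : orderOf (h⁻¹ * g * h) = orderOf g := by
  have h5 := (MulAut.conj h⁻¹).orderOf_eq g
  rw [MulAut.conj_apply, inv_inv] at h5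
  exact h5

theorem orderOf_dvd_sub {C : Subgroup G} {g : G} (hg : g ∈ C) : orderOf g ∣ Nat.card C := by
  rw [← Subgroup.orderOf_mk g hg]; exact orderOf_dvd_natCard _

end gen

section abs
variable {K : Type*} [Field K] [Fintype K] {G : Type*} [Group G] [Finite G] {B T U : Subgroup G} {n : G} (R : RA K B T U n)
  (R3 : RB3 (Fintype.card K) G) (IC : ∀ a b : G, a ≠ 1 → a * a = 1 → b ≠ 1 → b * b = 1 → ∃ g : G, b = g * a * g⁻¹)

include R R3 in
/-- tori with a common prime are conjugate -/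
theorem RA.tori_conj {x y : G} (hx : Big x) (hy : Big y) {p : ℕ} (hp : p.Prime) (hp3 : 3 < p) (h1 : p ∣ Nat.card (Subgroup.centralizer {x}))
    (h2 : p ∣ Nat.card (Subgroup.centralizer {y})) : ∃ h : G, Subgroup.centralizer {y} = (Subgroup.centralizer {x}).map (MulAut.conj h).toMonoidHom := by
  haveI : Fact p.Prime := ⟨hp⟩
  obtain ⟨⟨x', hx'⟩, hxo⟩ := exists_prime_orderOf_dvd_card' (G := Subgroup.centralizer {x}) p h1
  rw [Subgroup.orderOf_mk] at hxo
  obtain ⟨⟨y', hy'⟩, hyo⟩ := exists_prime_orderOf_dvd_card' (G := Subgroup.centralizer {y}) p h2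
  rw [Subgroup.orderOf_mk] at hyo
  have hxb : Big x' := ⟨p, hp, hp3, hxo ▸ dvd_rfl⟩
  have hyb : Big y' := ⟨p, hp, hp3, hyo ▸ dvd_rfl⟩
  obtain ⟨h, -, hh⟩ := sub_conj (⊤ : Subgroup G) (fun P _ hP => R.pgroup_cyclic R3 hp hp3 P hP) (Subgroup.mem_top y') (Subgroup.mem_top x') hyo hxo
  refine ⟨h, ?_⟩
  have e1 := R.big_eq R3 hx hxb hx'
  have e2 := R.big_eq R3 hy hyb hy'
  have e3 := R.big_eq R3 hyb (hxb.conj h) ((Subgroup.zpowers_le.2 (Subgroup.mem_centralizer_singleton_iff.2 rfl)) hh)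
  rw [cent_conj', e1, e2] at e3
  exact e3.symm

include R R3 in
theorem RA.big_cases {g : G} (hg : Big g) : orderOf g ∣ Fintype.card K - 1 ∨ orderOf g ∣ Fintype.card K + 1 ∨
    orderOf g ∣ Fintype.card K ^ 2 - Fintype.card K + 1 := by
  obtain ⟨p, z, hp, hp3, hz, -, -, he⟩ := R.big_cent R3 hg
  have hgz : g ∈ Subgroup.centralizer {z} := by rw [← he]; exact Subgroup.mem_centralizer_singleton_iff.2 rfl
  have hzp : z ^ p = 1 := by rw [← hz, pow_orderOf_eq_one]
  have hz1 : z ≠ 1 := by rintro rfl; rw [orderOf_one] at hz; exact hp.one_lt.ne hz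
  rcases R.prime_cases hp hp3 hz with h | h | h
  · left
    obtain ⟨h, hh, -⟩ := R.split hp (by omega) h hzp hz1
    have := orderOf_dvd_sub hgz
    rw [hh, card_map_conj, R.cardT] at this
    exact this
  · right; left
    obtain ⟨a, -, -, -, -, hc, -⟩ := R.ell hp (by omega) h hzp hz1
    rw [← hc]
    exact orderOf_dvd_sub hgz
  · right; right
    exact orderOf_dvd_of_pow_eq_one ((R3.third p hp hp3 h z hzp hz1).2.1 g hgz)

include R in
theorem RA.third_mod : ∀ p : ℕ, p.Prime → 3 < p → p ∣ Fintype.card K ^ 2 - Fintype.card K + 1 → ¬ p ∣ Fintype.card K - 1 ∧ ¬ p ∣ Fintype.card K + 1 := by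
  intro p hp hp3 hpd
  have hq := R.q27
  obtain ⟨j, hj⟩ : ∃ j, Fintype.card K = j + 2 := ⟨Fintype.card K - 2, by omega⟩
  rw [hj] at hpd ⊢
  have e2 : (j + 2) ^ 2 - (j + 2) + 1 = (j + 2) * (j + 1) + 1 := by
    have : (j + 2) ^ 2 = (j + 2) * (j + 1) + (j + 2) := by ring
    rw [this, Nat.add_sub_cancel]
  rw [e2] at hpd
  constructor
  · intro h
    have h' : p ∣ j + 1 := by simpa using h
    have := (Nat.dvd_add_right (Dvd.dvd.mul_left h' (j + 2))).1 hpd
    exact hp.one_lt.ne' (Nat.dvd_one.1 this)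
  · intro h
    have e3 : (j + 2) * (j + 1) + 1 = (j + 2 + 1) * j + 3 := by ring
    rw [e3] at hpd
    have := (Nat.dvd_add_right (Dvd.dvd.mul_right h j)).1 hpd
    have := Nat.le_of_dvd (by norm_num) this
    omega

include R in
theorem RA.tc_mod : ∀ p : ℕ, p.Prime → 3 < p → p ∣ Fintype.card K - 1 → ¬ p ∣ Fintype.card K + 1 := by
  intro p hp hp3 hpd h
  have hq := R.q27
  have e : Fintype.card K + 1 = (Fintype.card K - 1) + 2 := by omega
  rw [e] at h
  have := (Nat.dvd_add_right hpd).1 h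
  have := Nat.le_of_dvd (by norm_num) this
  omega

include R R3 in
/-- conjugates of a torus -/
theorem RA.BK_eq {x : G} (hx : Big x) {k : ℕ} (hk : Nat.card (Subgroup.centralizer {x}) ∣ k)
    (hall : ∀ g ∈ BK G k, ∃ p, p.Prime ∧ 3 < p ∧ p ∣ orderOf g ∧ p ∣ Nat.card (Subgroup.centralizer {x})) : BK G k = CL (XB (Subgroup.centralizer {x})) := by
  ext g
  constructor
  · rintro ⟨hg, hgk⟩
    obtain ⟨p, hp, hp3, hpg, hpx⟩ := hall g ⟨hg, hgk⟩
    have hgg : g ∈ Subgroup.centralizer {g} := Subgroup.mem_centralizer_singleton_iff.2 rfl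
    obtain ⟨h, hh⟩ := R.tori_conj R3 hx hg hp hp3 hpx (hpg.trans (orderOf_dvd_sub hgg))
    rw [hh] at hgg
    obtain ⟨w, hw, hwg⟩ := hgg
    have e : h⁻¹ * g * h = w := by rw [← hwg]; show h⁻¹ * (h * w * h⁻¹) * h = w; group
    refine ⟨h, by rw [e]; exact hw, ?_⟩
    have := hg.conj h⁻¹
    rw [inv_inv] at this
    exact this
  · rintro ⟨h, h1, h2⟩
    refine ⟨?_, ?_⟩
    · have := h2.conj h
      have e : h * (h⁻¹ * g * h) * h⁻¹ = g := by group
      rw [e] at this; exact this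
    · rw [← orderOf_conj' h g]
      exact (orderOf_dvd_sub h1).trans hk

include R R3 in
theorem RA.card_BT : 2 * Nat.card (BK G (Fintype.card K - 1)) = Fintype.card K ^ 3 * (Fintype.card K ^ 3 + 1) * (Fintype.card K - 3) := by
  have hq := R.q27
  have h8 := R.mod8
  obtain ⟨j3, hj3⟩ := R.three_dvd
  have hcop : Nat.Coprime ((Fintype.card K - 1) / 2) 6 := by
    have e2 : Nat.Coprime ((Fintype.card K - 1) / 2) 2 := Nat.coprime_two_right.2 (Nat.odd_iff.2 (by omega))
    have e3 : Nat.Coprime ((Fintype.card K - 1) / 2) 3 := by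
      rw [Nat.coprime_comm, Nat.Prime.coprime_iff_not_dvd Nat.prime_three]; omega
    exact Nat.Coprime.mul_right e2 e3
  have hT : ∀ u ∈ T, ∀ v ∈ T, u * v = v * u := fun u hu v hv => R.Tcomm hu hv
  have hXB := card_XB hT (c := 2) (k := (Fintype.card K - 1) / 2) (by norm_num) hcop (by rw [R.cardT]; omega)
  have hne : Nonempty (XB T) := by
    rw [← not_isEmpty_iff]
    intro h
    rw [Nat.card_of_isEmpty] at hXB
    omega
  obtain ⟨t, ht, htb⟩ := hne
  have ht2 : t * t ≠ 1 := by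
    intro h
    obtain ⟨p, hp, hp3, hpd⟩ := htb
    have := Nat.le_of_dvd (by norm_num) (hpd.trans (orderOf_dvd_of_pow_eq_one (by rw [pow_two, h] : t ^ 2 = 1)))
    omega
  have hCT := R.cent_T ht ht2
  have hcount := R.count_big R3 htb
  have hBK := R.BK_eq R3 htb (k := Fintype.card K - 1) (by rw [hCT, R.cardT]) (by
    rintro g ⟨⟨p, hp, hp3, hpd⟩, hgk⟩
    exact ⟨p, hp, hp3, hpd, by rw [hCT, R.cardT]; exact hpd.trans hgk⟩)
  rw [← hBK, hCT, R.norm_T, R.card] at hcount
  have e : Nat.card (XB T) = Fintype.card K - 3 := by omega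
  rw [e] at hcount
  have hpos : 0 < Fintype.card K - 1 := by omega
  apply Nat.eq_of_mul_eq_mul_right hpos
  calc 2 * Nat.card (BK G (Fintype.card K - 1)) * (Fintype.card K - 1) = Nat.card (BK G (Fintype.card K - 1)) * (2 * (Fintype.card K - 1)) := by ring
    _ = _ := hcount
    _ = _ := by ring

include R in
theorem RA.q1_coprime : Nat.Coprime ((Fintype.card K + 1) / 4) 6 := by
  have hq := R.q27
  have h8 := R.mod8
  obtain ⟨j3, hj3⟩ := R.three_dvd
  have e2 : Nat.Coprime ((Fintype.card K + 1) / 4) 2 := Nat.coprime_two_right.2 (Nat.odd_iff.2 (by omega))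
  have e3 : Nat.Coprime ((Fintype.card K + 1) / 4) 3 := by
    rw [Nat.coprime_comm, Nat.Prime.coprime_iff_not_dvd Nat.prime_three]; omega
  exact Nat.Coprime.mul_right e2 e3

include R in
/-- an element of the elliptic torus -/
theorem RA.exists_ell : ∃ (p : ℕ) (x : G), p.Prime ∧ 3 < p ∧ p ∣ Fintype.card K + 1 ∧ orderOf x = p := by
  have hq := R.q27
  have h8 := R.mod8
  have hne : (Fintype.card K + 1) / 4 ≠ 1 := by omega
  obtain ⟨p, hp, hpd⟩ := Nat.exists_prime_and_dvd hne
  haveI : Fact p.Prime := ⟨hp⟩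
  have hp3 := six_prime hp hpd R.q1_coprime
  have hpq : p ∣ Fintype.card K + 1 := hpd.trans ⟨4, by omega⟩
  obtain ⟨x, hx⟩ := exists_prime_orderOf_dvd_card' (G := G) p (by
    rw [R.card, cube_add R]
    exact Dvd.dvd.mul_left (Dvd.dvd.mul_right hpq _) _)
  exact ⟨p, x, hp, hp3, hpq, hx⟩

include R R3 IC in
theorem RA.card_BC : 6 * Nat.card (BK G (Fintype.card K + 1)) = Fintype.card K ^ 3 * (Fintype.card K - 1) * (Fintype.card K ^ 2 - Fintype.card K + 1) * (Fintype.card K - 3) := by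
  have hq := R.q27
  have h8 := R.mod8
  obtain ⟨p, x, hp, hp3, hpq, hx⟩ := R.exists_ell
  have hxp : x ^ p = 1 := by rw [← hx, pow_orderOf_eq_one]
  have hx1 : x ≠ 1 := by rintro rfl; rw [orderOf_one] at hx; exact hp.one_lt.ne hx
  have hxb : Big x := ⟨p, hp, hp3, hx ▸ dvd_rfl⟩
  obtain ⟨a, -, -, -, -, hc, hcom⟩ := R.ell hp (by omega) hpq hxp hx1
  have hXB := card_XB hcom (c := 4) (k := (Fintype.card K + 1) / 4) (by norm_num) R.q1_coprime (by rw [hc]; omega)
  have hcount := R.count_big R3 hxb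
  have hBK := R.BK_eq R3 hxb (k := Fintype.card K + 1) (by rw [hc]) (by
    rintro g ⟨⟨p, hp, hp3, hpd⟩, hgk⟩
    exact ⟨p, hp, hp3, hpd, by rw [hc]; exact hpd.trans hgk⟩)
  rw [← hBK, R.norm_ell R3 IC hp hp3 hpq hx, R.card, cube_add R] at hcount
  have e : Nat.card (XB (Subgroup.centralizer {x})) = Fintype.card K - 3 := by omega
  rw [e] at hcount
  have hpos : 0 < Fintype.card K + 1 := by omega
  apply Nat.eq_of_mul_eq_mul_right hpos
  calc 6 * Nat.card (BK G (Fintype.card K + 1)) * (Fintype.card K + 1) = Nat.card (BK G (Fintype.card K + 1)) * (6 * (Fintype.card K + 1)) := by ring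
    _ = _ := hcount
    _ = _ := by ring

include R in
theorem RA.A3_order {g : G} (hg : g ∈ A3 U) : g ≠ 1 ∧ orderOf g ∣ Fintype.card K ^ 3 := by
  obtain ⟨h, hU, h1⟩ := hg
  refine ⟨?_, ?_⟩
  · rintro rfl; apply h1; group
  · rw [← orderOf_conj' h g, ← R.cardU]; exact orderOf_dvd_sub hU

include R in
theorem RA.A3_odd {g : G} (hg : g ∈ A3 U) : ¬ 2 ∣ orderOf g := by
  intro h
  have h1 := Nat.prime_two.dvd_of_dvd_pow (h.trans (R.A3_order hg).2)
  have := R.mod8
  omega

include R R3 IC in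
/-- the partition of the group -/
theorem RA.partition : Nat.card G = 1 + Nat.card (A2 G) + Nat.card (A3 U) + Nat.card {g : G | orderOf g = 6} +
    (Nat.card (BK G (Fintype.card K - 1)) + Nat.card (BK G (Fintype.card K + 1)) + Nat.card (BK G (Fintype.card K ^ 2 - Fintype.card K + 1))) := by
  have hA2 : ∀ g ∈ A2 G, orderOf g = 2 := by
    rintro g ⟨h1, h2⟩
    exact orderOf_eq_prime_iff.2 ⟨by rw [pow_two, h2], h1⟩
  have hbig : ∀ g ∈ ({1} ∪ A2 G ∪ A3 U ∪ {g : G | orderOf g = 6} : Set G), ¬ Big g := by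
    rintro g hg ⟨p, hp, hp3, hpd⟩
    rcases hg with ((hg | hg) | hg) | hg
    · rw [show g = 1 from hg, orderOf_one] at hpd
      exact hp.one_lt.ne' (Nat.dvd_one.1 hpd)
    · rw [hA2 g hg] at hpd
      have := Nat.le_of_dvd (by norm_num) hpd; omega
    · exact R.not_dvd_q hp (by omega) (hp.dvd_of_dvd_pow (hpd.trans (R.A3_order hg).2))
    · rw [show orderOf g = 6 from hg] at hpd
      have h6 : p ∣ 2 * 3 := hpd
      rcases (Nat.Prime.dvd_mul hp).1 h6 with h | h <;> have := Nat.le_of_dvd (by norm_num) h <;> omega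
  have hU : (Set.univ : Set G) = ({1} ∪ A2 G ∪ A3 U ∪ {g : G | orderOf g = 6}) ∪
      (BK G (Fintype.card K - 1) ∪ BK G (Fintype.card K + 1) ∪ BK G (Fintype.card K ^ 2 - Fintype.card K + 1)) := by
    ext g
    refine ⟨fun _ => ?_, fun _ => Set.mem_univ _⟩
    by_cases hg : Big g
    · right
      rcases R.big_cases R3 hg with h | h | h
      · exact Or.inl (Or.inl ⟨hg, h⟩)
      · exact Or.inl (Or.inr ⟨hg, h⟩)
      · exact Or.inr ⟨hg, h⟩
    · left
      rcases R.small IC hg with h | h | h | h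
      · exact Or.inl (Or.inl (Or.inl h))
      · exact Or.inl (Or.inl (Or.inr h))
      · exact Or.inl (Or.inr h)
      · exact Or.inr h
  have h1 := congrArg Set.ncard hU
  rw [Set.ncard_univ, Set.ncard_union_eq (by
      rw [Set.disjoint_left]
      rintro g hg hg'
      apply hbig g hg
      rcases hg' with (h | h) | h <;> exact h.1) (Set.toFinite _) (Set.toFinite _),
    Set.ncard_union_eq (by
      rw [Set.disjoint_left]
      rintro g hg hg'
      have hg6 : orderOf g = 6 := hg'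
      rcases hg with (h | h) | h
      · rw [show g = 1 from h, orderOf_one] at hg6; norm_num at hg6
      · rw [hA2 g h] at hg6; norm_num at hg6
      · exact R.A3_odd h (by rw [hg6]; norm_num)) (Set.toFinite _) (Set.toFinite _),
    Set.ncard_union_eq (by
      rw [Set.disjoint_left]
      rintro g hg hg'
      rcases hg with h | h
      · exact (R.A3_order hg').1 h
      · exact R.A3_odd hg' (by rw [hA2 g h])) (Set.toFinite _) (Set.toFinite _),
    Set.ncard_union_eq (by
      rw [Set.disjoint_left]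
      rintro g hg hg'
      exact hg'.1 hg) (Set.toFinite _) (Set.toFinite _),
    Set.ncard_union_eq (by
      rw [Set.disjoint_left]
      rintro g hg hg'
      obtain ⟨⟨p, hp, hp3, hpd⟩, hg3⟩ := hg'
      have hm := R.third_mod p hp hp3 (hpd.trans hg3)
      rcases hg with h | h
      · exact hm.1 (hpd.trans h.2)
      · exact hm.2 (hpd.trans h.2)) (Set.toFinite _) (Set.toFinite _),
    Set.ncard_union_eq (by
      rw [Set.disjoint_left]
      rintro g hg hg'
      obtain ⟨⟨p, hp, hp3, hpd⟩, hg3⟩ := hg'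
      exact R.tc_mod p hp hp3 (hpd.trans hg.2) (hpd.trans hg3)) (Set.toFinite _) (Set.toFinite _), Set.ncard_singleton] at h1
  exact h1

end abs

end Cfsg.Agent.H5.Ree
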