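import Mathlib
import Cfsg.Agent.H5.Ree27
set_option autoImplicit false
set_option maxHeartbeats 1000000
set_option maxRecDepth 10000

/-! The two classes of the third kind of torus. -/

namespace Cfsg.Agent.H5.Ree

theorem ar0 {q : ℕ} (hq : 27 ≤ q) : q ^ 2 - q + 1 + q = q ^ 2 + 1 := by
  have : q ≤ q ^ 2 := Nat.le_self_pow (by norm_num) _
  omega

theorem ar1 {g y w m : ℕ} (h : y * (w * m) + g = g * m) (hw : w ∣ 6) (hm : 5 ≤ m) : 2 * g ≤ 15 * y := by
  have hw6 := Nat.le_of_dvd (by norm_num) hw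
  by_contra hlt
  push Not at hlt
  have h1 : y * (w * m) ≤ y * (6 * m) := Nat.mul_le_mul_left _ (Nat.mul_le_mul_right _ hw6)
  nlinarith

theorem ar2 {g y w m : ℕ} (h : y * (w * m) + g = g * m) (hw : w ∣ 6) (hw6 : w ≠ 6) (hm : 5 ≤ m) : 4 * g ≤ 15 * y := by
  have hw3 : w ≤ 3 := by
    have h1 : w ∈ Nat.divisors 6 := Nat.mem_divisors.2 ⟨hw, by norm_num⟩
    have hdv : Nat.divisors 6 = {1, 2, 3, 6} := by decide
    rw [hdv] at h1
    simp only [Finset.mem_insert, Finset.mem_singleton] at h1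
    omega
  by_contra hlt
  push Not at hlt
  have h1 : y * (w * m) ≤ y * (3 * m) := Nat.mul_le_mul_left _ (Nat.mul_le_mul_right _ hw3)
  nlinarith

section abs
variable {K : Type*} [Field K] [Fintype K] {G : Type*} [Group G] [Finite G] {B T U : Subgroup G} {n : G} (R : RA K B T U n)
  (R3 : RB3 (Fintype.card K) G) (IC : ∀ a b : G, a ≠ 1 → a * a = 1 → b ≠ 1 → b * b = 1 → ∃ g : G, b = g * a * g⁻¹)

include R R3 IC in
theorem RA.card_A2' : Nat.card (A2 G) = Fintype.card K ^ 2 * (Fintype.card K ^ 2 - Fintype.card K + 1) := by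
  have hq := R.q27
  have h1 := R.card_A2 IC
  rw [R.card, cube_add R] at h1
  obtain ⟨j, hj⟩ : ∃ j, Fintype.card K = j + 3 := ⟨Fintype.card K - 3, by omega⟩
  have hsq : Fintype.card K ^ 2 - 1 = (Fintype.card K - 1) * (Fintype.card K + 1) := by
    rw [hj]
    have : (j + 3) ^ 2 = (j + 3 - 1) * (j + 3 + 1) + 1 := by
      rw [show j + 3 - 1 = j + 2 by omega]; ring
    rw [this, Nat.add_sub_cancel]
  have hpos : 0 < Fintype.card K * (Fintype.card K ^ 2 - 1) := by
    rw [hsq]; exact Nat.mul_pos (by omega) (Nat.mul_pos (by omega) (by omega))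
  apply Nat.eq_of_mul_eq_mul_right hpos
  rw [h1, hsq]; ring

include R R3 IC in
theorem RA.card_A6' : Nat.card {g : G | orderOf g = 6} = Fintype.card K ^ 2 * (Fintype.card K - 1) * (Fintype.card K ^ 3 + 1) := by
  have hq := R.q27
  have h1 := R.card_A6 IC
  rw [R.card] at h1
  obtain ⟨j, hj⟩ : ∃ j, Fintype.card K = j + 3 := ⟨Fintype.card K - 3, by omega⟩
  have hsq : Fintype.card K ^ 2 - 1 = (Fintype.card K - 1) * (Fintype.card K + 1) := by
    rw [hj]
    have : (j + 3) ^ 2 = (j + 3 - 1) * (j + 3 + 1) + 1 := by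
      rw [show j + 3 - 1 = j + 2 by omega]; ring
    rw [this, Nat.add_sub_cancel]
  have hpos : 0 < Fintype.card K * (Fintype.card K ^ 2 - 1) := by
    rw [hsq]; exact Nat.mul_pos (by omega) (Nat.mul_pos (by omega) (by omega))
  apply Nat.eq_of_mul_eq_mul_right hpos
  rw [h1]; ring

include R R3 IC in
theorem RA.card_BD : 3 * Nat.card (BK G (Fintype.card K ^ 2 - Fintype.card K + 1)) =
    Fintype.card K ^ 3 * (Fintype.card K - 1) * (Fintype.card K + 1) * (Fintype.card K * (Fintype.card K - 2)) := by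
  have hq := R.q27
  have hp := R.partition R3 IC
  have h1 := R.card_A2' R3 IC
  have h2 := R.card_A6' R3 IC
  have h3 := R.card_A3
  have h4 := R.card_BT R3
  have h5 := R.card_BC R3 IC
  rw [R.card, h1, h2, h3] at hp
  have hM := ar0 hq
  generalize Nat.card (BK G (Fintype.card K ^ 2 - Fintype.card K + 1)) = D at hp ⊢
  generalize Nat.card (BK G (Fintype.card K + 1)) = C at hp h5
  generalize Nat.card (BK G (Fintype.card K - 1)) = T' at hp h4
  generalize Fintype.card K ^ 2 - Fintype.card K + 1 = M at *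
  obtain ⟨j, hj⟩ : ∃ j, Fintype.card K = j + 3 := ⟨Fintype.card K - 3, by omega⟩
  rw [hj] at hp h4 h5 hM ⊢
  have e1 : j + 3 - 1 = j + 2 := by omega
  have e2 : j + 3 - 3 = j := by omega
  have e3 : j + 3 - 2 = j + 1 := by omega
  have e4 : (j + 3) ^ 3 - 1 = j ^ 3 + 9 * j ^ 2 + 27 * j + 26 := by
    have : (j + 3) ^ 3 = j ^ 3 + 9 * j ^ 2 + 27 * j + 26 + 1 := by ring
    rw [this, Nat.add_sub_cancel]
  rw [e1] at hp h5 ⊢
  rw [e2] at h4 h5
  rw [e3]
  rw [e4] at hp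
  have hM' : M = j ^ 2 + 5 * j + 7 := by
    have : M + (j + 3) = (j ^ 2 + 5 * j + 7) + (j + 3) := by rw [hM]; ring
    exact Nat.add_right_cancel this
  rw [hM'] at hp h5
  zify at hp h4 h5 ⊢
  apply mul_left_cancel₀ (two_ne_zero (α := ℤ))
  linear_combination (-6) * hp - 3 * h4 - 1 * h5

include R in
theorem RA.M_coprime : Nat.Coprime (Fintype.card K ^ 2 - Fintype.card K + 1) 6 := by
  have hq := R.q27
  have h8 := R.mod8
  obtain ⟨j3, hj3⟩ := R.three_dvd
  have hM := ar0 hq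
  generalize Fintype.card K ^ 2 - Fintype.card K + 1 = M at *
  obtain ⟨k, hk⟩ : ∃ k, Fintype.card K = 2 * k + 1 := ⟨Fintype.card K / 2, by omega⟩
  have e2 : Nat.Coprime M 2 := Nat.coprime_two_right.2 (by
    rw [hk] at hM
    refine ⟨2 * k ^ 2 + k, ?_⟩
    have : M + (2 * k + 1) = (2 * (2 * k ^ 2 + k) + 1) + (2 * k + 1) := by rw [hM]; ring
    exact Nat.add_right_cancel this)
  have e3 : Nat.Coprime M 3 := by
    rw [Nat.coprime_comm, Nat.Prime.coprime_iff_not_dvd Nat.prime_three]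
    rintro ⟨l, hl⟩
    rw [hj3, hl] at hM
    have h1 : 3 * l + 3 * j3 = 3 * (3 * j3 ^ 2) + 1 := by rw [hM]; ring
    omega
  exact Nat.Coprime.mul_right e2 e3

theorem M_dvd {q : ℕ} (hq : 27 ≤ q) : q ^ 2 - q + 1 ∣ q ^ 3 * (q - 1) * ((q + 1) * (q ^ 2 - q + 1)) := Dvd.dvd.mul_left (Dvd.dvd.mul_left dvd_rfl _) _

include R in
theorem RA.M_dvd_card : Fintype.card K ^ 2 - Fintype.card K + 1 ∣ Nat.card G := by
  rw [R.card, cube_add R]
  exact M_dvd R.q27

/-- data of a torus of the third kind -/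
structure TD (q : ℕ) {G : Type*} [Group G] (x : G) (w m : ℕ) : Prop where
  big : Big x
  cyc : IsCyclic ↥(Subgroup.centralizer {x})
  cm : Nat.card ↥(Subgroup.centralizer {x}) = m
  cn : Nat.card (Subgroup.normalizer (Subgroup.centralizer {x} : Set G)) = w * m
  w6 : w ∣ 6
  m5 : 5 ≤ m
  mM : m ∣ q ^ 2 - q + 1
  cl : Nat.card (CL (XB (Subgroup.centralizer {x}))) * (w * m) + Nat.card G = Nat.card G * m
  sub : CL (XB (Subgroup.centralizer {x})) ⊆ BK G (q ^ 2 - q + 1)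

include R R3 in
theorem RA.third_data {g : G} (hg : g ∈ BK G (Fintype.card K ^ 2 - Fintype.card K + 1)) : ∃ x w m, TD (Fintype.card K) (G := G) x w m ∧
    Subgroup.centralizer {g} = Subgroup.centralizer {x} := by
  obtain ⟨hgb, hgM⟩ := hg
  obtain ⟨p, x, hp, hp3, hx, -, hpg, he⟩ := R.big_cent R3 hgb
  have hpM := hpg.trans hgM
  have hxp : x ^ p = 1 := by rw [← hx, pow_orderOf_eq_one]
  have hx1 : x ≠ 1 := by rintro rfl; rw [orderOf_one] at hx; exact hp.one_lt.ne hx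
  have hxb : Big x := ⟨p, hp, hp3, hx ▸ dvd_rfl⟩
  obtain ⟨hcyc, hexp, -⟩ := R3.third p hp hp3 hpM x hxp hx1
  obtain ⟨w, hw6, hw⟩ := R.norm_third R3 hp hp3 hpM hx
  have hmM : Nat.card ↥(Subgroup.centralizer {x}) ∣ Fintype.card K ^ 2 - Fintype.card K + 1 := by
    obtain ⟨⟨y, hy⟩, hgen⟩ := IsCyclic.exists_generator (α := ↥(Subgroup.centralizer {x}))
    rw [← orderOf_eq_card_of_forall_mem_zpowers hgen]
    exact orderOf_dvd_of_pow_eq_one (Subtype.ext (hexp y hy))
  have hpm : p ∣ Nat.card ↥(Subgroup.centralizer {x}) := by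
    rw [← hx]; exact orderOf_dvd_sub (Subgroup.mem_centralizer_singleton_iff.2 rfl)
  have hmpos : 0 < Nat.card ↥(Subgroup.centralizer {x}) := Nat.card_pos
  have hm4 := Nat.le_of_dvd hmpos hpm
  have hm6 : Nat.Coprime (Nat.card ↥(Subgroup.centralizer {x})) 6 := Nat.Coprime.coprime_dvd_left hmM R.M_coprime
  have hm5 : 5 ≤ Nat.card ↥(Subgroup.centralizer {x}) := by
    by_contra hlt
    have : Nat.card ↥(Subgroup.centralizer {x}) = 4 := by omega
    rw [this] at hm6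
    revert hm6; decide
  have hXB := card_XB (R.big_comm R3 hxb) (c := 1) (k := Nat.card ↥(Subgroup.centralizer {x})) (by norm_num) hm6 (by rw [one_mul])
  have hcount := R.count_big R3 hxb
  refine ⟨x, w, Nat.card ↥(Subgroup.centralizer {x}), ⟨hxb, hcyc, rfl, hw, hw6, hm5, hmM, ?_, ?_⟩, he⟩
  · rw [hw] at hcount
    rw [one_mul] at hXB
    rw [hcount, ← hXB, mul_add, mul_one]
  · rintro y ⟨h, h1, h2⟩
    refine ⟨?_, ?_⟩
    · have := h2.conj h
      have e : h * (h⁻¹ * y * h) * h⁻¹ = y := by group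
      rw [e] at this; exact this
    · rw [← orderOf_conj' h y]
      exact (orderOf_dvd_sub h1).trans hmM

include R R3 in
theorem RA.third_overlap {x y : G} {w m w' m' : ℕ} (hx : TD (Fintype.card K) x w m) (hy : TD (Fintype.card K) y w' m') {p : ℕ} (hp : p.Prime)
    (h1 : p ∣ m) (h2 : p ∣ m') : y ∈ CL (XB (Subgroup.centralizer {x})) := by
  have hp3 := six_prime hp h1 (Nat.Coprime.coprime_dvd_left hx.mM R.M_coprime)
  obtain ⟨h, hh⟩ := R.tori_conj R3 hx.big hy.big hp hp3 (hx.cm ▸ h1) (hy.cm ▸ h2)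
  have hyy : y ∈ Subgroup.centralizer {y} := Subgroup.mem_centralizer_singleton_iff.2 rfl
  rw [hh] at hyy
  obtain ⟨z, hz, hzy⟩ := hyy
  have e : h⁻¹ * y * h = z := by rw [← hzy]; show h⁻¹ * (h * z * h⁻¹) * h = z; group
  refine ⟨h, by rw [e]; exact hz, ?_⟩
  have := hy.big.conj h⁻¹
  rw [inv_inv] at this
  exact this

include R R3 in
/-- classes are disjoint or equal -/
theorem RA.third_disj {x y : G} {w m w' m' : ℕ} (hx : TD (Fintype.card K) x w m) (hy : TD (Fintype.card K) y w' m')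
    (h : y ∉ CL (XB (Subgroup.centralizer {x}))) : Disjoint (CL (XB (Subgroup.centralizer {x}))) (CL (XB (Subgroup.centralizer {y}))) := by
  rw [Set.disjoint_left]
  rintro z ⟨g₁, h1, hb⟩ ⟨g₂, h2, -⟩
  obtain ⟨p, hp, hp3, hpd⟩ := hb
  apply h
  apply R.third_overlap R3 hx hy hp
  · rw [← hx.cm]; exact hpd.trans (orderOf_dvd_sub h1)
  · rw [← hy.cm]
    rw [orderOf_conj'] at hpd
    have := orderOf_dvd_sub h2
    rw [orderOf_conj'] at this
    exact hpd.trans this

include R R3 in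
theorem RA.exists_pp {p k : ℕ} (hp : p.Prime) (hk : k ≠ 0) (hd : p ^ k ∣ Fintype.card K ^ 2 - Fintype.card K + 1) :
    ∃ g ∈ BK G (Fintype.card K ^ 2 - Fintype.card K + 1), orderOf g = p ^ k := by
  haveI : Fact p.Prime := ⟨hp⟩
  have hpM : p ∣ Fintype.card K ^ 2 - Fintype.card K + 1 := (dvd_pow_self p hk).trans hd
  have hp3 := six_prime hp hpM R.M_coprime
  obtain ⟨P, hP⟩ := Sylow.exists_subgroup_card_pow_prime (G := G) p (hd.trans R.M_dvd_card)
  haveI := R.pgroup_cyclic R3 hp hp3 P (IsPGroup.of_card hP)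
  obtain ⟨⟨y, hy⟩, hgen⟩ := IsCyclic.exists_generator (α := P)
  have ho : orderOf y = p ^ k := by
    rw [← hP, ← orderOf_eq_card_of_forall_mem_zpowers hgen, Subgroup.orderOf_mk]
  exact ⟨y, ⟨⟨p, hp, hp3, by rw [ho]; exact dvd_pow_self p hk⟩, by rw [ho]; exact hd⟩, ho⟩

include R R3 in
theorem RA.third_new {x₁ : G} {w₁ m₁ : ℕ} (h₁ : TD (Fintype.card K) x₁ w₁ m₁) {g x : G} (hg : g ∈ BK G (Fintype.card K ^ 2 - Fintype.card K + 1))
    (hgn : g ∉ CL (XB (Subgroup.centralizer {x₁}))) (he : Subgroup.centralizer {g} = Subgroup.centralizer {x}) :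
    x ∉ CL (XB (Subgroup.centralizer {x₁})) := by
  intro h
  obtain ⟨k, hk1, hk2⟩ := h
  apply hgn
  have hxx : x ∈ Subgroup.centralizer {g} := by rw [he]; exact Subgroup.mem_centralizer_singleton_iff.2 rfl
  obtain ⟨p, hp, hp3, hpd⟩ := hk2
  rw [orderOf_conj'] at hpd
  have h3 : p ∣ Nat.card (Subgroup.centralizer {x₁}) := by
    have := orderOf_dvd_sub hk1
    rw [orderOf_conj'] at this
    exact hpd.trans this
  have h4 : p ∣ Nat.card (Subgroup.centralizer {g}) := hpd.trans (orderOf_dvd_sub hxx)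
  obtain ⟨h, hh⟩ := R.tori_conj R3 h₁.big hg.1 hp hp3 h3 h4
  have hyy : g ∈ Subgroup.centralizer {g} := Subgroup.mem_centralizer_singleton_iff.2 rfl
  rw [hh] at hyy
  obtain ⟨z, hz, hzy⟩ := hyy
  have e : h⁻¹ * g * h = z := by rw [← hzy]; show h⁻¹ * (h * z * h⁻¹) * h = z; group
  refine ⟨h, by rw [e]; exact hz, ?_⟩
  have := hg.1.conj h⁻¹
  rw [inv_inv] at this
  exact this

include R R3 IC in
theorem RA.third_main : ∃ (x₁ x₂ : G) (m₁ m₂ : ℕ), TD (Fintype.card K) x₁ 6 m₁ ∧ TD (Fintype.card K) x₂ 6 m₂ ∧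
    m₁ * m₂ = Fintype.card K ^ 2 - Fintype.card K + 1 ∧ m₁ + m₂ = 2 * (Fintype.card K + 1) ∧ Nat.Coprime m₁ m₂ ∧
    (∀ g ∈ BK G (Fintype.card K ^ 2 - Fintype.card K + 1), g ∈ CL (XB (Subgroup.centralizer {x₁})) ∨ g ∈ CL (XB (Subgroup.centralizer {x₂}))) := by
  have hq := R.q27
  have hBD := R.card_BD R3 IC
  have hM := ar0 hq
  have hGc := R.card
  rw [cube_add R] at hGc
  have hGpos : 0 < Nat.card G := Nat.card_pos
  obtain ⟨j, hj⟩ : ∃ j, Fintype.card K = j + 3 := ⟨Fintype.card K - 3, by omega⟩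
  -- the upper bound
  have hub : 3 * Nat.card (BK G (Fintype.card K ^ 2 - Fintype.card K + 1)) < Nat.card G := by
    rw [hBD, hGc]
    have e : Fintype.card K * (Fintype.card K - 2) < Fintype.card K ^ 2 - Fintype.card K + 1 := by
      rw [hj] at hM ⊢
      have e3 : j + 3 - 2 = j + 1 := by omega
      rw [e3]
      nlinarith
    calc _ < Fintype.card K ^ 3 * (Fintype.card K - 1) * (Fintype.card K + 1) * (Fintype.card K ^ 2 - Fintype.card K + 1) := by
          apply Nat.mul_lt_mul_of_pos_left e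
          exact Nat.mul_pos (Nat.mul_pos R.q3pos (by omega)) (by omega)
      _ = _ := by ring
  have hM1 : Fintype.card K ^ 2 - Fintype.card K + 1 ≠ 1 := by
    rw [hj] at hM ⊢
    intro h; rw [h] at hM; nlinarith
  obtain ⟨p₁, hp₁, hpd₁⟩ := Nat.exists_prime_and_dvd hM1
  obtain ⟨g₁, hg₁, -⟩ := R.exists_pp R3 hp₁ one_ne_zero (by rw [pow_one]; exact hpd₁)
  obtain ⟨x₁, w₁, m₁, h₁, -⟩ := R.third_data R3 hg₁
  have hfin : ∀ S : Set G, S.Finite := fun S => Set.toFinite _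
  -- a second class
  obtain ⟨g₂, hg₂, hg₂n⟩ : ∃ g ∈ BK G (Fintype.card K ^ 2 - Fintype.card K + 1), g ∉ CL (XB (Subgroup.centralizer {x₁})) := by
    by_contra hno
    push Not at hno
    have hMm : Fintype.card K ^ 2 - Fintype.card K + 1 ∣ m₁ := by
      rw [Nat.dvd_iff_prime_pow_dvd_dvd]
      intro p k hp hpk
      rcases Nat.eq_zero_or_pos k with rfl | hk
      · simp
      · obtain ⟨g, hg, hgo⟩ := R.exists_pp R3 hp hk.ne' hpk
        obtain ⟨h, h1, -⟩ := hno g hg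
        rw [← hgo, ← orderOf_conj' h g, ← h₁.cm]
        exact orderOf_dvd_sub h1
    have hm : m₁ = Fintype.card K ^ 2 - Fintype.card K + 1 := Nat.dvd_antisymm h₁.mM hMm
    have hset : CL (XB (Subgroup.centralizer {x₁})) = BK G (Fintype.card K ^ 2 - Fintype.card K + 1) :=
      Set.Subset.antisymm h₁.sub hno
    have hcl := h₁.cl
    rw [hset, hm, hGc] at hcl
    have hw : w₁ ∈ Nat.divisors 6 := Nat.mem_divisors.2 ⟨h₁.w6, by norm_num⟩
    have hdv : Nat.divisors 6 = {1, 2, 3, 6} := by decide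
    rw [hdv] at hw
    simp only [Finset.mem_insert, Finset.mem_singleton] at hw
    generalize Nat.card (BK G (Fintype.card K ^ 2 - Fintype.card K + 1)) = D at *
    generalize Fintype.card K ^ 2 - Fintype.card K + 1 = M at *
    rw [hj] at hcl hBD hM
    have e1 : j + 3 - 1 = j + 2 := by omega
    have e3 : j + 3 - 2 = j + 1 := by omega
    rw [e1] at hcl hBD
    rw [e3] at hBD
    have hM' : M = j ^ 2 + 5 * j + 7 := by
      have : M + (j + 3) = (j ^ 2 + 5 * j + 7) + (j + 3) := by rw [hM]; ring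
      exact Nat.add_right_cancel this
    set c := (j + 3) ^ 3 * (j + 2) * (j + 3 + 1) with hc
    have hcpos : 0 < c := by positivity
    have hMpos : 0 < M := by rw [hM']; positivity
    have h5 : (c * M) * ((j + 3) * (j + 1) * w₁ + 3) = (c * M) * (3 * M) := by
      have h6 : D * (w₁ * M) + c * M = c * M * M := by rw [hc]; linear_combination hcl
      calc (c * M) * ((j + 3) * (j + 1) * w₁ + 3) = (c * ((j + 3) * (j + 1))) * (w₁ * M) + 3 * (c * M) := by ring
        _ = (3 * D) * (w₁ * M) + 3 * (c * M) := by rw [hBD]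
        _ = 3 * (D * (w₁ * M) + c * M) := by ring
        _ = 3 * (c * M * M) := by rw [h6]
        _ = _ := by ring
    have h7 := Nat.eq_of_mul_eq_mul_left (Nat.mul_pos hcpos hMpos) h5
    rw [hM'] at h7
    rcases hw with rfl | rfl | rfl | rfl <;> nlinarith
  obtain ⟨x₂, w₂, m₂, h₂, he₂⟩ := R.third_data R3 hg₂
  have hx₂n := R.third_new R3 h₁ hg₂ hg₂n he₂
  have hd12 := R.third_disj R3 h₁ h₂ hx₂n
  have h12 : Nat.card (CL (XB (Subgroup.centralizer {x₁}))) + Nat.card (CL (XB (Subgroup.centralizer {x₂}))) ≤ Nat.card (BK G (Fintype.card K ^ 2 - Fintype.card K + 1)) := by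
    have h3 : (CL (XB (Subgroup.centralizer {x₁})) ∪ CL (XB (Subgroup.centralizer {x₂}))).ncard ≤ (BK G (Fintype.card K ^ 2 - Fintype.card K + 1)).ncard :=
      Set.ncard_le_ncard (Set.union_subset h₁.sub h₂.sub) (hfin _)
    rw [Set.ncard_union_eq hd12 (hfin _) (hfin _)] at h3
    exact h3
  have a1 := ar1 h₁.cl h₁.w6 h₁.m5
  have a2 := ar1 h₂.cl h₂.w6 h₂.m5
  have hw1 : w₁ = 6 := by
    by_contra hne
    have := ar2 h₁.cl h₁.w6 hne h₁.m5
    omega
  have hw2 : w₂ = 6 := by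
    by_contra hne
    have := ar2 h₂.cl h₂.w6 hne h₂.m5
    omega
  subst hw1 hw2
  have hcov : ∀ g ∈ BK G (Fintype.card K ^ 2 - Fintype.card K + 1), g ∈ CL (XB (Subgroup.centralizer {x₁})) ∨ g ∈ CL (XB (Subgroup.centralizer {x₂})) := by
    intro g hg
    by_contra hno
    push Not at hno
    obtain ⟨x₃, w₃, m₃, h₃, he₃⟩ := R.third_data R3 hg
    have hd13 := R.third_disj R3 h₁ h₃ (R.third_new R3 h₁ hg hno.1 he₃)
    have hd23 := R.third_disj R3 h₂ h₃ (R.third_new R3 h₂ hg hno.2 he₃)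
    have a3 := ar1 h₃.cl h₃.w6 h₃.m5
    have h3 : (CL (XB (Subgroup.centralizer {x₁})) ∪ CL (XB (Subgroup.centralizer {x₂})) ∪ CL (XB (Subgroup.centralizer {x₃}))).ncard ≤ (BK G (Fintype.card K ^ 2 - Fintype.card K + 1)).ncard :=
      Set.ncard_le_ncard (Set.union_subset (Set.union_subset h₁.sub h₂.sub) h₃.sub) (hfin _)
    rw [Set.ncard_union_eq (Disjoint.union_left hd13 hd23) (hfin _) (hfin _), Set.ncard_union_eq hd12 (hfin _) (hfin _)] at h3
    have h3' : Nat.card (CL (XB (Subgroup.centralizer {x₁}))) + Nat.card (CL (XB (Subgroup.centralizer {x₂}))) + Nat.card (CL (XB (Subgroup.centralizer {x₃}))) ≤ Nat.card (BK G (Fintype.card K ^ 2 - Fintype.card K + 1)) := h3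
    omega
  have hcop : Nat.Coprime m₁ m₂ := by
    rw [Nat.coprime_iff_gcd_eq_one]
    by_contra hne
    obtain ⟨p, hp, hpd⟩ := Nat.exists_prime_and_dvd hne
    exact hx₂n (R.third_overlap R3 h₁ h₂ hp (hpd.trans (Nat.gcd_dvd_left _ _)) (hpd.trans (Nat.gcd_dvd_right _ _)))
  have hmul : m₁ * m₂ = Fintype.card K ^ 2 - Fintype.card K + 1 := by
    apply Nat.dvd_antisymm (hcop.mul_dvd_of_dvd_of_dvd h₁.mM h₂.mM)
    rw [Nat.dvd_iff_prime_pow_dvd_dvd]
    intro p k hp hpk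
    rcases Nat.eq_zero_or_pos k with rfl | hk
    · simp
    · obtain ⟨g, hg, hgo⟩ := R.exists_pp R3 hp hk.ne' hpk
      rcases hcov g hg with ⟨h, h1, -⟩ | ⟨h, h1, -⟩
      · apply Dvd.dvd.mul_right
        rw [← hgo, ← orderOf_conj' h g, ← h₁.cm]
        exact orderOf_dvd_sub h1
      · apply Dvd.dvd.mul_left
        rw [← hgo, ← orderOf_conj' h g, ← h₂.cm]
        exact orderOf_dvd_sub h1
  have hsum : Nat.card (CL (XB (Subgroup.centralizer {x₁}))) + Nat.card (CL (XB (Subgroup.centralizer {x₂}))) = Nat.card (BK G (Fintype.card K ^ 2 - Fintype.card K + 1)) := by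
    have h3 : (CL (XB (Subgroup.centralizer {x₁})) ∪ CL (XB (Subgroup.centralizer {x₂}))) = (BK G (Fintype.card K ^ 2 - Fintype.card K + 1)) :=
      Set.Subset.antisymm (Set.union_subset h₁.sub h₂.sub) hcov
    have h4 := congrArg Set.ncard h3
    rw [Set.ncard_union_eq hd12 (hfin _) (hfin _)] at h4
    exact h4
  refine ⟨x₁, x₂, m₁, m₂, h₁, h₂, hmul, ?_, hcop, hcov⟩
  have c1 := h₁.cl
  have c2 := h₂.cl
  have hm1 := h₁.m5
  have hm2 := h₂.m5
  rw [hGc] at c1 c2
  generalize Nat.card (BK G (Fintype.card K ^ 2 - Fintype.card K + 1)) = D at *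
  generalize Nat.card (CL (XB (Subgroup.centralizer {x₁}))) = y₁ at *
  generalize Nat.card (CL (XB (Subgroup.centralizer {x₂}))) = y₂ at *
  rw [← hmul] at c1 c2 hM
  clear hub h12 a1 a2 hcov hd12
  rw [hj] at c1 c2 hBD hM ⊢
  have e1 : j + 3 - 1 = j + 2 := by omega
  have e3 : j + 3 - 2 = j + 1 := by omega
  rw [e1] at c1 c2 hBD
  rw [e3] at hBD
  set c := (j + 3) ^ 3 * (j + 2) * (j + 3 + 1) with hc
  have hcpos : 0 < c := by positivity
  have hM' : m₁ * m₂ = j ^ 2 + 5 * j + 7 := by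
    have : m₁ * m₂ + (j + 3) = (j ^ 2 + 5 * j + 7) + (j + 3) := by rw [hM]; ring
    exact Nat.add_right_cancel this
  have c1' : y₁ * (6 * m₁) + c * (m₁ * m₂) = c * (m₁ * m₂) * m₁ := by rw [hc]; linear_combination c1
  have c2' : y₂ * (6 * m₂) + c * (m₁ * m₂) = c * (m₁ * m₂) * m₂ := by rw [hc]; linear_combination c2
  have d1 : 6 * y₁ + c * m₂ = c * (m₁ * m₂) := by
    apply Nat.eq_of_mul_eq_mul_left (show 0 < m₁ by omega)
    linear_combination c1'
  have d2 : 6 * y₂ + c * m₁ = c * (m₁ * m₂) := by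
    apply Nat.eq_of_mul_eq_mul_left (show 0 < m₂ by omega)
    linear_combination c2'
  have d3 : c * (2 * ((j + 3) * (j + 1)) + (m₁ + m₂)) = c * (2 * (m₁ * m₂)) := by
    calc c * (2 * ((j + 3) * (j + 1)) + (m₁ + m₂)) = 2 * (c * ((j + 3) * (j + 1))) + c * m₂ + c * m₁ := by ring
      _ = 2 * (3 * D) + c * m₂ + c * m₁ := by rw [hBD]
      _ = (6 * y₁ + c * m₂) + (6 * y₂ + c * m₁) := by rw [← hsum]; ring
      _ = c * (m₁ * m₂) + c * (m₁ * m₂) := by rw [d1, d2]
      _ = _ := by ring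
  have d4 := Nat.eq_of_mul_eq_mul_left hcpos d3
  rw [hM'] at d4
  have d5 : (m₁ + m₂) + (2 * j ^ 2 + 8 * j + 6) = 2 * (j + 3 + 1) + (2 * j ^ 2 + 8 * j + 6) := by linear_combination d4
  exact Nat.add_right_cancel d5

end abs

end Cfsg.Agent.H5.Ree
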