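import Mathlib
import Cfsg.Agent.H5.Ree28
set_option autoImplicit false
set_option maxHeartbeats 1000000
set_option maxRecDepth 10000

/-! The tori. -/

namespace Cfsg.Agent.H5.Ree

section abs
variable {K : Type*} [Field K] [Fintype K] {G : Type*} [Group G] [Finite G] {B T U : Subgroup G} {n : G} (R : RA K B T U n)
  (R3 : RB3 (Fintype.card K) G) (IC : ∀ a b : G, a ≠ 1 → a * a = 1 → b ≠ 1 → b * b = 1 → ∃ g : G, b = g * a * g⁻¹)

/-- what is asserted of a torus -/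
def TT (G : Type*) [Group G] (k N : ℕ) : Prop := ∃ A : Subgroup G, IsCyclic A ∧ Nat.card A = k ∧
  Nat.card (Subgroup.normalizer (A : Set G)) = N ∧ ∀ A₀ : Subgroup G, A₀ ≤ A → A₀ ≠ ⊥ → Subgroup.normalizer (A₀ : Set G) = Subgroup.normalizer (A : Set G)

include R R3 in
theorem RA.torus_sub {x : G} (hx : Big x) {c k N : ℕ} (hc4 : c ∣ 4) (hk : Nat.Coprime k 6) (hk1 : k ≠ 1)
    (hcard : Nat.card ↥(Subgroup.centralizer {x}) = c * k) (hN : Nat.card (Subgroup.normalizer (Subgroup.centralizer {x} : Set G)) = N) :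
    TT G k N := by
  have hck : Nat.Coprime k c := by
    apply Nat.Coprime.coprime_dvd_right hc4
    have h2 : Nat.Coprime k 2 := (Nat.Coprime.coprime_dvd_right (by norm_num) hk)
    exact Nat.Coprime.mul_right (n := 2) (k := k) h2 h2
  have hA := card_Om (R.big_comm R3 hx) hck (by rw [hcard, mul_comm])
  have hAne : Om (Subgroup.centralizer {x}) (R.big_comm R3 hx) k ≠ ⊥ := by
    intro h
    rw [h, Subgroup.card_bot] at hA
    exact hk1 hA.symm
  have hNA := R.norm_eq R3 hx hk le_rfl hAne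
  refine ⟨Om (Subgroup.centralizer {x}) (R.big_comm R3 hx) k, R.big_cyc R3 hx (fun z hz => hz.1) (Om_odd (six_odd hk)), hA, by rw [hNA, hN], ?_⟩
  intro A₀ h0 h1
  rw [hNA]
  exact R.norm_eq R3 hx hk h0 h1

theorem m_cases {q r m₁ m₂ : ℕ} (hr : r * r = 3 * q) (hrq : r ≤ q) (h1 : m₁ * m₂ = q ^ 2 - q + 1) (h2 : m₁ + m₂ = 2 * (q + 1)) :
    (m₁ = q - r + 1 ∧ m₂ = q + r + 1) ∨ (m₁ = q + r + 1 ∧ m₂ = q - r + 1) := by
  have hq : q ≤ q ^ 2 := Nat.le_self_pow (by norm_num) _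
  zify [hrq, hq] at *
  have h3 : ((m₁ : ℤ) - (q - r + 1)) * ((m₁ : ℤ) - (q + r + 1)) = 0 := by
    linear_combination m₁ * h2 - h1 - hr
  rcases mul_eq_zero.1 h3 with h | h
  · left; constructor <;> linarith
  · right; constructor <;> linarith

include R in
theorem RA.q_coprime : Nat.Coprime ((Fintype.card K - 1) / 2) 6 := by
  have hq := R.q27
  have h8 := R.mod8
  obtain ⟨j3, hj3⟩ := R.three_dvd
  have e2 : Nat.Coprime ((Fintype.card K - 1) / 2) 2 := Nat.coprime_two_right.2 (Nat.odd_iff.2 (by omega))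
  have e3 : Nat.Coprime ((Fintype.card K - 1) / 2) 3 := by
    rw [Nat.coprime_comm, Nat.Prime.coprime_iff_not_dvd Nat.prime_three]; omega
  exact Nat.Coprime.mul_right e2 e3

include R R3 in
theorem RA.exists_T : ∃ t ∈ T, Big t ∧ Subgroup.centralizer {t} = T := by
  have hq := R.q27
  have h8 := R.mod8
  have hT : ∀ u ∈ T, ∀ v ∈ T, u * v = v * u := fun u hu v hv => R.Tcomm hu hv
  have hXB := card_XB hT (c := 2) (k := (Fintype.card K - 1) / 2) (by norm_num) R.q_coprime (by rw [R.cardT]; omega)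
  have hne : Nonempty (XB T) := by
    rw [← not_isEmpty_iff]
    intro h
    rw [Nat.card_of_isEmpty] at hXB
    omega
  obtain ⟨t, ht, htb⟩ := hne
  refine ⟨t, ht, htb, R.cent_T ht ?_⟩
  intro h
  obtain ⟨p, hp, hp3, hpd⟩ := htb
  have := Nat.le_of_dvd (by norm_num) (hpd.trans (orderOf_dvd_of_pow_eq_one (by rw [pow_two, h] : t ^ 2 = 1)))
  omega

include R R3 in
theorem RA.tt1 : TT G ((Fintype.card K - 1) / 2) (2 * (Fintype.card K - 1)) := by
  have hq := R.q27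
  have h8 := R.mod8
  obtain ⟨t, ht, htb, hT⟩ := R.exists_T R3
  exact R.torus_sub R3 htb (c := 2) (by norm_num) R.q_coprime (by omega) (by rw [hT, R.cardT]; omega) (by rw [hT, R.norm_T])

include R R3 IC in
theorem RA.tt2 : TT G ((Fintype.card K + 1) / 4) (6 * (Fintype.card K + 1)) := by
  have hq := R.q27
  have h8 := R.mod8
  obtain ⟨p, x, hp, hp3, hpq, hx⟩ := R.exists_ell
  have hxp : x ^ p = 1 := by rw [← hx, pow_orderOf_eq_one]
  have hx1 : x ≠ 1 := by rintro rfl; rw [orderOf_one] at hx; exact hp.one_lt.ne hx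
  have hxb : Big x := ⟨p, hp, hp3, hx ▸ dvd_rfl⟩
  obtain ⟨a, -, -, -, -, hc, hcom⟩ := R.ell hp (by omega) hpq hxp hx1
  exact R.torus_sub R3 hxb (c := 4) (by norm_num) R.q1_coprime (by omega) (by rw [hc]; omega) (R.norm_ell R3 IC hp hp3 hpq hx)

include R R3 in
theorem RA.tt3 {x : G} {w m : ℕ} (h : TD (Fintype.card K) x w m) : TT G m (w * m) :=
  R.torus_sub R3 h.big (c := 1) (by norm_num) (Nat.Coprime.coprime_dvd_left h.mM R.M_coprime) (by have := h.m5; omega) (by rw [one_mul, h.cm]) h.cn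

include R R3 IC in
theorem RA.tori {r : ℕ} (hr : r * r = 3 * Fintype.card K) (hrq : r ≤ Fintype.card K) :
    ∀ kn ∈ ({((Fintype.card K - 1) / 2, 2 * (Fintype.card K - 1)), ((Fintype.card K + 1) / 4, 6 * (Fintype.card K + 1)),
        (Fintype.card K - r + 1, 6 * (Fintype.card K - r + 1)),
        (Fintype.card K + r + 1, 6 * (Fintype.card K + r + 1))} : Set (ℕ × ℕ)), TT G kn.1 kn.2 := by
  obtain ⟨x₁, x₂, m₁, m₂, h₁, h₂, h3, h4, -, -⟩ := R.third_main R3 IC
  have t1 := R.tt3 R3 h₁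
  have t2 := R.tt3 R3 h₂
  intro kn hkn
  simp only [Set.mem_insert_iff, Set.mem_singleton_iff] at hkn
  rcases hkn with rfl | rfl | rfl | rfl
  · exact R.tt1 R3
  · exact R.tt2 R3 IC
  · rcases m_cases hr hrq h3 h4 with ⟨e1, e2⟩ | ⟨e1, e2⟩
    · rw [e1] at t1; exact t1
    · rw [e2] at t2; exact t2
  · rcases m_cases hr hrq h3 h4 with ⟨e1, e2⟩ | ⟨e1, e2⟩
    · rw [e2] at t2; exact t2
    · rw [e1] at t1; exact t1

end abs

section
open Cfsg.Lie Matrix Cfsg Cfsg.Agent.H6 Cfsg.Agent.H6.WG2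
variable {K : Type*} [Field K] [Fintype K] {m : ℕ}

/-- involutions of the Ree group are conjugate -/
theorem ic (hm : 1 ≤ m) (hK : Fintype.card K = 3 ^ (2 * m + 1)) (a b : ↥(twistedG2 K (3 ^ m))) (ha1 : a ≠ 1) (ha2 : a * a = 1)
    (hb1 : b ≠ 1) (hb2 : b * b = 1) : ∃ g : ↥(twistedG2 K (3 ^ m)), b = g * a * g⁻¹ := by
  obtain ⟨σ, h⟩ := exists_ctx hK
  have hf := fl_of_card hK
  haveI := finite_ree hK h hf
  obtain ⟨n, R⟩ := ra hm hK
  haveI : Nonempty (Sylow 2 ↥(twistedG2 K (3 ^ m))) := inferInstance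
  obtain ⟨S⟩ := this
  obtain ⟨s1, s2⟩ := ree_sylow_norm hm hK S
  obtain ⟨s3, s4⟩ := R.syl S
  exact invs_conj S s3 s4 s1 s2 ha1 ha2 hb1 hb2

end

end Cfsg.Agent.H5.Ree
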