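import Mathlib
import Cfsg.Agent.H5.Ree29
set_option autoImplicit false
set_option maxHeartbeats 1000000
set_option maxRecDepth 10000

/-! Element orders and counts. -/

namespace Cfsg.Agent.H5.Ree

/-- facts on the Sylow three-subgroup -/
structure UX (q : ℕ) {G : Type*} [Group G] (U : Subgroup G) : Prop where
  nine : ∀ u ∈ U, u ^ 9 = 1
  c3 : Nat.card {u : G // u ∈ U ∧ orderOf u = 3} = q ^ 2 - 1

section
open Cfsg.Lie Matrix Cfsg Cfsg.Agent.H6 Cfsg.Agent.H6.WG2
variable {K : Type*} [Field K] [Fintype K] {m : ℕ}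

theorem ux (hK : Fintype.card K = 3 ^ (2 * m + 1)) : UX (Fintype.card K) (RU K m) := by
  obtain ⟨σ, h⟩ := exists_ctx hK
  have hf := fl_of_card hK
  constructor
  · rintro ⟨g, hg⟩ hgU
    obtain ⟨t, u, v, he⟩ := (pos_iff h hf).1 (Subgroup.mem_subgroupOf.1 hgU)
    obtain ⟨t', u', v', he'⟩ := (pos_iff h hf).1 (Subgroup.mem_subgroupOf.1 (pow_mem hgU 3))
    have he : g = RE K (3 ^ m) true t u v := he
    have he' : g ^ 3 = RE K (3 ^ m) true t' u' v' := he'
    obtain ⟨x, p, q, h1⟩ := RE_cube hf t u v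
    rw [← he, he'] at h1
    unfold RE at h1
    obtain ⟨-, h2, -, -, -, -⟩ := NF_inj hf.three h1
    apply Subtype.ext
    show g ^ 9 = 1
    rw [show 9 = 3 * 3 by norm_num, pow_mul, he', h2]
    exact RE_cube_zero hf u' v'
  · have hmem : ∀ p : K × K, RE K (3 ^ m) true 0 p.1 p.2 ∈ chevG2.posUnipotent K ⊓ twistedG2 K (3 ^ m) := fun p => (pos_iff h hf).2 ⟨_, _, _, rfl⟩
    let f : {p : K × K // p ≠ 0} → {u : ↥(twistedG2 K (3 ^ m)) // u ∈ RU K m ∧ orderOf u = 3} :=
      fun p => ⟨⟨RE K (3 ^ m) true 0 p.1.1 p.1.2, (hmem p.1).2⟩, Subgroup.mem_subgroupOf.2 (hmem p.1), by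
        rw [Subgroup.orderOf_mk]
        refine (RE_order hf _ _ _).2 ⟨rfl, ?_⟩
        by_contra hc
        push Not at hc
        exact p.2 (Prod.ext hc.1 hc.2)⟩
    have hb : Function.Bijective f := by
      constructor
      · intro p p' hpp
        have h1 : RE K (3 ^ m) true 0 p.1.1 p.1.2 = RE K (3 ^ m) true 0 p'.1.1 p'.1.2 :=
          congrArg (fun z : {u : ↥(twistedG2 K (3 ^ m)) // u ∈ RU K m ∧ orderOf u = 3} => ((z.1 : ↥(twistedG2 K (3 ^ m))) : GL chevG2.Idx K)) hpp
        obtain ⟨-, h2, h3⟩ := RE_inj hf h1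
        exact Subtype.ext (Prod.ext h2 h3)
      · rintro ⟨⟨g, hg⟩, hgU, ho⟩
        obtain ⟨t, u, v, he⟩ := (pos_iff h hf).1 (Subgroup.mem_subgroupOf.1 hgU)
        have he : g = RE K (3 ^ m) true t u v := he
        subst he
        rw [Subgroup.orderOf_mk] at ho
        obtain ⟨rfl, h2⟩ := (RE_order hf t u v).1 ho
        refine ⟨⟨(u, v), ?_⟩, rfl⟩
        intro h3
        rw [Prod.mk_eq_zero] at h3
        rcases h2 with h2 | h2
        · exact h2 h3.1
        · exact h2 h3.2
    rw [← Nat.card_congr (Equiv.ofBijective f hb)]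
    have h4 : Nat.card {p : K × K // p ≠ 0} = Nat.card (K × K) - 1 := by
      classical
      rw [Nat.card_eq_fintype_card, Nat.card_eq_fintype_card, Fintype.card_subtype_compl, Fintype.card_subtype_eq]
    rw [h4, Nat.card_eq_fintype_card, Fintype.card_prod, pow_two]

end

section abs
variable {K : Type*} [Field K] [Fintype K] {G : Type*} [Group G] [Finite G] {B T U : Subgroup G} {n : G} (R : RA K B T U n)
  (R3 : RB3 (Fintype.card K) G) (IC : ∀ a b : G, a ≠ 1 → a * a = 1 → b ≠ 1 → b * b = 1 → ∃ g : G, b = g * a * g⁻¹)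
  (X : UX (Fintype.card K) U)

include R X in
theorem RA.card_order3 : Nat.card {g : G | orderOf g = 3} = (Fintype.card K ^ 2 - 1) * (Fintype.card K ^ 3 + 1) := by
  have hq := R.q27
  have h1 := count_ti B {u | u ∈ U ∧ orderOf u = 3} (by
    rintro g hg x ⟨hx, hx1⟩
    refine ⟨R.rk.norm hg hx, ?_⟩
    have := orderOf_conj' g⁻¹ x
    rw [inv_inv] at this
    rw [this, hx1]) (by
    rintro g x ⟨hx, hx1⟩ ⟨h, -⟩
    exact R.rk.ti hx (by rintro rfl; rw [orderOf_one] at hx1; norm_num at hx1) (R.rk.UB h))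
  have h2 : CL {u | u ∈ U ∧ orderOf u = 3} = {g : G | orderOf g = 3} := by
    ext g
    constructor
    · rintro ⟨h, hU, h3⟩
      rw [orderOf_conj'] at h3
      exact h3
    · intro hg
      obtain ⟨h, hh⟩ := R.three_conj hg
      exact ⟨h, hh, by rw [orderOf_conj']; exact hg⟩
  rw [h2, R.card_B, R.card] at h1
  have e : Nat.card ({u | u ∈ U ∧ orderOf u = 3} : Set G) = Fintype.card K ^ 2 - 1 := X.c3
  rw [e] at h1
  have hpos : 0 < Fintype.card K ^ 3 * (Fintype.card K - 1) := Nat.mul_pos R.q3pos (by omega)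
  apply Nat.eq_of_mul_eq_mul_right hpos
  rw [h1]; ring

include R X in
theorem RA.card_order9 : Nat.card {g : G | orderOf g = 9} = Fintype.card K ^ 2 * (Fintype.card K - 1) * (Fintype.card K ^ 3 + 1) := by
  have hq := R.q27
  have h3 := R.card_A3
  have h4 := R.card_order3 X
  haveI : Fact (Nat.Prime 3) := ⟨Nat.prime_three⟩
  have hset : A3 U = {g : G | orderOf g = 3} ∪ {g : G | orderOf g = 9} := by
    ext g
    constructor
    · rintro ⟨h, hU, h1⟩
      have h9 := X.nine _ hU
      have hd : orderOf g ∣ 9 := by rw [← orderOf_conj' h g]; exact orderOf_dvd_of_pow_eq_one h9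
      have hm : orderOf g ∈ Nat.divisors 9 := Nat.mem_divisors.2 ⟨hd, by norm_num⟩
      have hdv : Nat.divisors 9 = {1, 3, 9} := by decide
      rw [hdv] at hm
      simp only [Finset.mem_insert, Finset.mem_singleton] at hm
      rcases hm with hm | hm | hm
      · exfalso
        apply h1
        rw [orderOf_eq_one_iff.1 hm]; group
      · exact Or.inl hm
      · exact Or.inr hm
    · intro hg
      have hpow : g ^ 3 ^ 2 = 1 ∧ g ≠ 1 := by
        rcases hg with hg | hg
        · have hg : orderOf g = 3 := hg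
          refine ⟨by rw [pow_two, pow_mul, ← hg, pow_orderOf_eq_one, one_pow], ?_⟩
          rintro rfl; rw [orderOf_one] at hg; norm_num at hg
        · have hg : orderOf g = 9 := hg
          refine ⟨?_, ?_⟩
          · rw [show 3 ^ 2 = 9 by norm_num, ← hg, pow_orderOf_eq_one]
          · rintro rfl; rw [orderOf_one] at hg; norm_num at hg
      obtain ⟨h, hh⟩ := conj_into U (p := 3) (by
        rw [R.index_U]
        intro h
        obtain ⟨j, hj⟩ := R.three_dvd
        rcases (Nat.Prime.dvd_mul Nat.prime_three).1 h with h | h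
        · omega
        · rw [hj] at h
          have h2 : 3 ∣ (3 * j) ^ 3 := by rw [pow_succ]; exact Dvd.dvd.mul_left (Dvd.intro _ rfl) _
          have := (Nat.dvd_add_right h2).1 h
          exact absurd this (by norm_num)) g (n := 2) hpow.1
      refine ⟨h, hh, ?_⟩
      intro he
      apply hpow.2
      calc g = h * (h⁻¹ * g * h) * h⁻¹ := by group
        _ = 1 := by rw [he]; group
  have h5 := congrArg Set.ncard hset
  rw [Set.ncard_union_eq (by
    rw [Set.disjoint_left]
    intro g h1 h2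
    have h1 : orderOf g = 3 := h1
    have h2 : orderOf g = 9 := h2
    omega) (Set.toFinite _) (Set.toFinite _)] at h5
  have h6 : Nat.card (A3 U) = Nat.card {g : G | orderOf g = 3} + Nat.card {g : G | orderOf g = 9} := h5
  rw [h3, h4] at h6
  generalize Nat.card {g : G | orderOf g = 9} = D at *
  obtain ⟨j, hj⟩ : ∃ j, Fintype.card K = j + 1 := ⟨Fintype.card K - 1, by omega⟩
  rw [hj] at h6 ⊢
  have e1 : j + 1 - 1 = j := by omega
  have e2 : (j + 1) ^ 3 - 1 = j ^ 3 + 3 * j ^ 2 + 3 * j := by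
    have : (j + 1) ^ 3 = j ^ 3 + 3 * j ^ 2 + 3 * j + 1 := by ring
    rw [this, Nat.add_sub_cancel]
  have e3 : (j + 1) ^ 2 - 1 = j ^ 2 + 2 * j := by
    have : (j + 1) ^ 2 = j ^ 2 + 2 * j + 1 := by ring
    rw [this, Nat.add_sub_cancel]
  rw [e1]
  rw [e2, e3] at h6
  have h7 : (j ^ 2 + 2 * j) * ((j + 1) ^ 3 + 1) + (j + 1) ^ 2 * j * ((j + 1) ^ 3 + 1) = (j ^ 2 + 2 * j) * ((j + 1) ^ 3 + 1) + D := by
    rw [← h6]; ring
  exact (Nat.add_left_cancel h7).symm

include R R3 in
/-- counting elements of a given order in a torus -/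
theorem RA.count_order {x : G} (hx : Big x) {i : ℕ} (hi : ∃ p : ℕ, p.Prime ∧ 3 < p ∧ p ∣ i)
    (hall : ∀ g : G, orderOf g = i → g ∈ CL (XB (Subgroup.centralizer {x}))) :
    Nat.card {g : G | orderOf g = i} * Nat.card (Subgroup.normalizer (Subgroup.centralizer {x} : Set G)) =
      Nat.card G * Nat.card {g : G | g ∈ Subgroup.centralizer {x} ∧ orderOf g = i} := by
  have h1 := count_ti (Subgroup.normalizer (Subgroup.centralizer {x} : Set G)) {g : G | g ∈ Subgroup.centralizer {x} ∧ orderOf g = i} (by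
    rintro g hg y ⟨hy, hyo⟩
    refine ⟨(Subgroup.mem_normalizer_iff.1 hg y).1 hy, ?_⟩
    have := orderOf_conj' g⁻¹ y
    rw [inv_inv] at this
    rw [this, hyo]) (by
    rintro g y ⟨hy, hyo⟩ ⟨hy', -⟩
    obtain ⟨p, hp, hp3, hpi⟩ := hi
    have hyb : Big y := ⟨p, hp, hp3, hyo ▸ hpi⟩
    have he := R.big_eq R3 hx hyb hy
    rw [← he]
    apply R.mem_norm R3 hyb
    rw [he]; exact hy')
  have h2 : CL {g : G | g ∈ Subgroup.centralizer {x} ∧ orderOf g = i} = {g : G | orderOf g = i} := by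
    ext g
    constructor
    · rintro ⟨h, -, h3⟩
      rw [orderOf_conj'] at h3
      exact h3
    · intro hg
      obtain ⟨h, h1, -⟩ := hall g hg
      exact ⟨h, h1, by rw [orderOf_conj']; exact hg⟩
  rw [h2] at h1
  exact h1

/-- elements of given order in a cyclic subgroup -/
theorem card_cyc_order {A : Subgroup G} (hA : IsCyclic A) {i : ℕ} (hi : i ∣ Nat.card A) : Nat.card {g : G | g ∈ A ∧ orderOf g = i} = Nat.totient i := by
  classical
  haveI := Fintype.ofFinite A
  rw [Nat.card_eq_fintype_card] at hi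
  rw [← IsCyclic.card_orderOf_eq_totient hi, ← Fintype.card_subtype, ← Nat.card_eq_fintype_card]
  apply Nat.card_congr
  exact
    { toFun := fun g => ⟨⟨g.1, g.2.1⟩, by rw [Subgroup.orderOf_mk]; exact g.2.2⟩
      invFun := fun g => ⟨g.1.1, g.1.2, by rw [Subgroup.orderOf_coe]; exact g.2⟩
      left_inv := fun g => rfl
      right_inv := fun g => rfl }

include R R3 in
theorem RA.count_T {i : ℕ} (hi : 2 < i) (hid : i ∣ Fintype.card K - 1) :
    2 * Nat.card {g : G | orderOf g = i} = Nat.totient i * Fintype.card K ^ 3 * (Fintype.card K ^ 3 + 1) := by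
  have hq := R.q27
  have h8 := R.mod8
  obtain ⟨t, ht, htb, hT⟩ := R.exists_T R3
  have hbp : ∃ p : ℕ, p.Prime ∧ 3 < p ∧ p ∣ i := by
    by_contra hno
    push Not at hno
    have hcop : Nat.Coprime i ((Fintype.card K - 1) / 2) := by
      rw [Nat.coprime_iff_gcd_eq_one]
      by_contra hne
      obtain ⟨p, hp, hpd⟩ := Nat.exists_prime_and_dvd hne
      exact hno p hp (six_prime hp (hpd.trans (Nat.gcd_dvd_right _ _)) R.q_coprime) (hpd.trans (Nat.gcd_dvd_left _ _))
    have h2 : i ∣ 2 * ((Fintype.card K - 1) / 2) := by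
      have : 2 * ((Fintype.card K - 1) / 2) = Fintype.card K - 1 := by omega
      rw [this]; exact hid
    have := Nat.le_of_dvd (by norm_num) (hcop.dvd_of_dvd_mul_right h2)
    omega
  have hBK := R.BK_eq R3 htb (k := Fintype.card K - 1) (by rw [hT, R.cardT]) (by
    rintro g ⟨⟨p, hp, hp3, hpd⟩, hgk⟩
    exact ⟨p, hp, hp3, hpd, by rw [hT, R.cardT]; exact hpd.trans hgk⟩)
  have h1 := R.count_order R3 htb hbp (by
    intro g hg
    rw [← hBK]
    obtain ⟨p, hp, hp3, hpi⟩ := hbp
    exact ⟨⟨p, hp, hp3, hg ▸ hpi⟩, hg ▸ hid⟩)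
  rw [hT, R.norm_T, R.card, card_cyc_order R.cyc (by rw [R.cardT]; exact hid)] at h1
  have hpos : 0 < Fintype.card K - 1 := by omega
  apply Nat.eq_of_mul_eq_mul_right hpos
  calc 2 * Nat.card {g : G | orderOf g = i} * (Fintype.card K - 1) = Nat.card {g : G | orderOf g = i} * (2 * (Fintype.card K - 1)) := by ring
    _ = _ := h1
    _ = _ := by ring

end abs

end Cfsg.Agent.H5.Ree
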