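import Mathlib
import Cfsg.Agent.H5.Ree30
set_option autoImplicit false
set_option maxHeartbeats 1000000
set_option maxRecDepth 10000

/-! Element counts. -/

namespace Cfsg.Agent.H5.Ree

section abs
variable {K : Type*} [Field K] [Fintype K] {G : Type*} [Group G] [Finite G] {B T U : Subgroup G} {n : G} (R : RA K B T U n)
  (R3 : RB3 (Fintype.card K) G) (IC : ∀ a b : G, a ≠ 1 → a * a = 1 → b ≠ 1 → b * b = 1 → ∃ g : G, b = g * a * g⁻¹)
  (X : UX (Fintype.card K) U)

include R in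
theorem RA.inv3 {C : Subgroup G} (hcom : ∀ u ∈ C, ∀ v ∈ C, u * v = v * u) (hcard : Nat.card C = Fintype.card K + 1) :
    Nat.card {b : G // b ∈ C ∧ b ≠ 1 ∧ b * b = 1} = 3 := by
  have hq8 := R.mod8
  have hc4 := card_Om (C := C) hcom (a := 4) (b := (Fintype.card K + 1) / 4) (by
    have : Odd ((Fintype.card K + 1) / 4) := by rw [Nat.odd_iff]; omega
    have h2 := (Nat.coprime_two_left.2 this)
    exact Nat.Coprime.mul_left (k := (Fintype.card K + 1) / 4) (m := 2) (n := 2) h2 h2) (by rw [hcard]; omega)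
  have hset : (Om C hcom 4 : Set G) = insert 1 {b | b ∈ C ∧ b ≠ 1 ∧ b * b = 1} := by
    ext y
    constructor
    · rintro ⟨hy, hy4⟩
      by_cases h1 : y = 1
      · exact Or.inl h1
      · right
        refine ⟨hy, h1, ?_⟩
        have h2 : orderOf y ∣ 4 := orderOf_dvd_of_pow_eq_one hy4
        have h3 := R.no_four y
        have h5 : orderOf y ∈ Nat.divisors 4 := Nat.mem_divisors.2 ⟨h2, by norm_num⟩
        have h6 : Nat.divisors 4 = {1, 2, 4} := by decide
        rw [h6] at h5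
        simp only [Finset.mem_insert, Finset.mem_singleton] at h5
        rcases h5 with h5 | h5 | h5
        · exact absurd (orderOf_eq_one_iff.1 h5) h1
        · rw [← pow_two, ← h5, pow_orderOf_eq_one]
        · exact absurd h5 h3
    · rintro (h | ⟨hy, -, hy2⟩)
      · rw [h]; exact one_mem _
      · refine ⟨hy, ?_⟩
        calc y ^ 4 = y ^ 2 * y ^ 2 := by rw [← pow_add]
          _ = 1 := by rw [pow_two, hy2, one_mul]
  have h5 := congrArg Set.ncard hset
  rw [Set.ncard_insert_of_notMem (by rintro ⟨-, h, -⟩; exact h rfl) (Set.toFinite _)] at h5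
  have e1 : (Om C hcom 4 : Set G).ncard = Nat.card (Om C hcom 4) := rfl
  have e2 : {b | b ∈ C ∧ b ≠ 1 ∧ b * b = 1}.ncard = Nat.card {b : G // b ∈ C ∧ b ≠ 1 ∧ b * b = 1} := rfl
  rw [e1, e2, hc4] at h5
  omega

/-- elements of order twice an odd number -/
theorem card_two_odd {C : Subgroup G} (hcom : ∀ u ∈ C, ∀ v ∈ C, u * v = v * u) {i : ℕ} (hi : Odd i) :
    Nat.card {g : G | g ∈ C ∧ orderOf g = 2 * i} = Nat.card {b : G // b ∈ C ∧ b ≠ 1 ∧ b * b = 1} * Nat.card {g : G | g ∈ C ∧ orderOf g = i} := by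
  haveI : Fact (Nat.Prime 2) := ⟨Nat.prime_two⟩
  have ho2 : ∀ b : G, b ≠ 1 → b * b = 1 → orderOf b = 2 := fun b h1 h2 => orderOf_eq_prime_iff.2 ⟨by rw [pow_two, h2], h1⟩
  have hcop : Nat.Coprime 2 i := Nat.coprime_two_left.2 hi
  have hpow : ∀ b : G, b * b = 1 → b ^ i = b := by
    intro b hb
    obtain ⟨k, hk⟩ := hi
    rw [hk, pow_succ, pow_mul, pow_two, hb, one_pow, one_mul]
  rw [← Nat.card_prod]
  symm
  let f : {b : G // b ∈ C ∧ b ≠ 1 ∧ b * b = 1} × {g : G | g ∈ C ∧ orderOf g = i} → {g : G | g ∈ C ∧ orderOf g = 2 * i} :=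
    fun p => ⟨(p.1 : G) * (p.2 : G), C.mul_mem p.1.2.1 p.2.2.1, by
      have hc : Commute (p.1 : G) (p.2 : G) := hcom _ p.1.2.1 _ p.2.2.1
      have h2 := ho2 p.1.1 p.1.2.2.1 p.1.2.2.2
      have hi' : orderOf (p.2 : G) = i := p.2.2.2
      rw [hc.orderOf_mul_eq_mul_orderOf_of_coprime (by rw [h2, hi']; exact hcop), h2, hi']⟩
  apply Nat.card_congr (Equiv.ofBijective f _)
  constructor
  · rintro ⟨⟨a, ha, ha1, ha2⟩, ⟨y, hy, hyo⟩⟩ ⟨⟨a', ha', ha1', ha2'⟩, ⟨y', hy', hyo'⟩⟩ h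
    have h1 : a * y = a' * y' := congrArg (fun z : {g : G | g ∈ C ∧ orderOf g = 2 * i} => (z : G)) h
    have h2 : (a * y) ^ i = (a' * y') ^ i := by rw [h1]
    rw [(show Commute a y from hcom a ha y hy).mul_pow, (show Commute a' y' from hcom a' ha' y' hy').mul_pow,
      hpow a ha2, hpow a' ha2', orderOf_dvd_iff_pow_eq_one.1 (dvd_of_eq hyo), orderOf_dvd_iff_pow_eq_one.1 (dvd_of_eq hyo'), mul_one, mul_one] at h2
    subst h2
    have h3 := mul_left_cancel h1
    subst h3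
    rfl
  · rintro ⟨g, hg, hgo⟩
    have hg2 : g ^ (2 * i) = 1 := by rw [← hgo, pow_orderOf_eq_one]
    obtain ⟨k, hk⟩ := hi
    have hy1 : (g ^ (i + 1)) ^ i = 1 := by
      rw [← pow_mul]
      have : (i + 1) * i = 2 * i * (k + 1) := by rw [hk]; ring
      rw [this, pow_mul, hg2, one_pow]
    have ha2 : g ^ i * g ^ i = 1 := by rw [← pow_add, ← two_mul, hg2]
    have ha1 : g ^ i ≠ 1 := by
      intro h
      have h3 := Nat.le_of_dvd (by omega) (orderOf_dvd_of_pow_eq_one h)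
      rw [hgo] at h3; omega
    have hag : g ^ i * g ^ (i + 1) = g := by
      rw [← pow_add, ← add_assoc, ← two_mul, pow_succ, hg2, one_mul]
    have hyi : orderOf (g ^ (i + 1)) = i := by
      have h4 : orderOf (g ^ (i + 1)) ∣ i := orderOf_dvd_of_pow_eq_one hy1
      have h5 : orderOf (g ^ i * g ^ (i + 1)) = orderOf (g ^ i) * orderOf (g ^ (i + 1)) := by
        apply ((Commute.refl g).pow_pow i (i + 1)).orderOf_mul_eq_mul_orderOf_of_coprime
        rw [ho2 _ ha1 ha2]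
        exact Nat.Coprime.coprime_dvd_right h4 hcop
      rw [hag, hgo, ho2 _ ha1 ha2] at h5
      omega
    exact ⟨(⟨g ^ i, C.pow_mem hg i, ha1, ha2⟩, ⟨g ^ (i + 1), C.pow_mem hg _, hyi⟩), Subtype.ext hag⟩

include R R3 IC in
theorem RA.count_C {i : ℕ} (hi : 1 < i) (hid : i ∣ (Fintype.card K + 1) / 4) :
    6 * Nat.card {g : G | orderOf g = i} = Nat.totient i * Fintype.card K ^ 3 * (Fintype.card K - 1) * (Fintype.card K ^ 2 - Fintype.card K + 1) ∧
    2 * Nat.card {g : G | orderOf g = 2 * i} = Nat.totient i * Fintype.card K ^ 3 * (Fintype.card K - 1) * (Fintype.card K ^ 2 - Fintype.card K + 1) := by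
  have hq := R.q27
  have h8 := R.mod8
  obtain ⟨p, x, hp, hp3, hpq, hx⟩ := R.exists_ell
  have hxp : x ^ p = 1 := by rw [← hx, pow_orderOf_eq_one]
  have hx1 : x ≠ 1 := by rintro rfl; rw [orderOf_one] at hx; exact hp.one_lt.ne hx
  have hxb : Big x := ⟨p, hp, hp3, hx ▸ dvd_rfl⟩
  obtain ⟨a, -, -, -, -, hc, hcom⟩ := R.ell hp (by omega) hpq hxp hx1
  have hBK := R.BK_eq R3 hxb (k := Fintype.card K + 1) (by rw [hc]) (by
    rintro g ⟨⟨p, hp, hp3, hpd⟩, hgk⟩
    exact ⟨p, hp, hp3, hpd, by rw [hc]; exact hpd.trans hgk⟩)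
  have hi1 : i ≠ 1 := by omega
  obtain ⟨p', hp', hpd'⟩ := Nat.exists_prime_and_dvd hi1
  have hp3' := six_prime hp' (hpd'.trans hid) R.q1_coprime
  have hN := R.norm_ell R3 IC hp hp3 hpq hx
  have hidK : (Fintype.card K + 1) / 4 * 4 = Fintype.card K + 1 := by omega
  have hi4 : 4 * i ∣ Fintype.card K + 1 := by
    rw [← hidK, mul_comm]; exact Nat.mul_dvd_mul_right hid 4
  have hodd : Odd i := Odd.of_dvd_nat (six_odd R.q1_coprime) hid
  have hpos : 0 < Fintype.card K + 1 := by omega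
  have hOmc : Nat.card (Om (Subgroup.centralizer {x}) hcom ((Fintype.card K + 1) / 4)) = (Fintype.card K + 1) / 4 := by
    apply card_Om hcom (b := 4) _ (by rw [hc]; omega)
    have h2 : Nat.Coprime ((Fintype.card K + 1) / 4) 2 := (Nat.Coprime.coprime_dvd_right (by norm_num) R.q1_coprime)
    exact Nat.Coprime.mul_right (n := 2) (k := (Fintype.card K + 1) / 4) h2 h2
  have hci : Nat.card {g : G | g ∈ Subgroup.centralizer {x} ∧ orderOf g = i} = Nat.totient i := by
    have hcyc : IsCyclic (Om (Subgroup.centralizer {x}) hcom ((Fintype.card K + 1) / 4)) :=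
      R.big_cyc R3 hxb (fun z hz => hz.1) (Om_odd (six_odd R.q1_coprime))
    rw [← card_cyc_order hcyc (i := i) (by rw [hOmc]; exact hid)]
    congr 2
    ext g
    constructor
    · rintro ⟨h1, h2⟩
      exact ⟨⟨h1, orderOf_dvd_iff_pow_eq_one.1 (h2 ▸ hid)⟩, h2⟩
    · rintro ⟨h1, h2⟩
      exact ⟨h1.1, h2⟩
  constructor
  · have h1 := R.count_order R3 hxb ⟨p', hp', hp3', hpd'⟩ (by
      intro g hg
      rw [← hBK]
      exact ⟨⟨p', hp', hp3', hg ▸ hpd'⟩, by rw [hg]; exact (Dvd.intro_left 4 rfl).trans hi4⟩)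
    rw [hN, R.card, cube_add R, hci] at h1
    apply Nat.eq_of_mul_eq_mul_right hpos
    calc 6 * Nat.card {g : G | orderOf g = i} * (Fintype.card K + 1) = Nat.card {g : G | orderOf g = i} * (6 * (Fintype.card K + 1)) := by ring
      _ = _ := h1
      _ = _ := by ring
  · have h1 := R.count_order R3 hxb (i := 2 * i) ⟨p', hp', hp3', Dvd.dvd.mul_left hpd' 2⟩ (by
      intro g hg
      rw [← hBK]
      refine ⟨⟨p', hp', hp3', hg ▸ Dvd.dvd.mul_left hpd' 2⟩, ?_⟩
      rw [hg]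
      exact (Nat.mul_dvd_mul_right (by norm_num : 2 ∣ 4) i).trans hi4)
    rw [hN, R.card, cube_add R, card_two_odd hcom hodd, R.inv3 hcom hc, hci] at h1
    have hpos' : 0 < 3 * (Fintype.card K + 1) := by omega
    apply Nat.eq_of_mul_eq_mul_right hpos'
    calc 2 * Nat.card {g : G | orderOf g = 2 * i} * (3 * (Fintype.card K + 1)) = Nat.card {g : G | orderOf g = 2 * i} * (6 * (Fintype.card K + 1)) := by ring
      _ = _ := h1
      _ = _ := by ring

include R R3 in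
theorem RA.count_D {x : G} {m m' : ℕ} (h : TD (Fintype.card K) x 6 m) (hm : m * m' = Fintype.card K ^ 2 - Fintype.card K + 1) {i : ℕ} (hi : 1 < i) (hid : i ∣ m) :
    6 * Nat.card {g : G | orderOf g = i} = Nat.totient i * Fintype.card K ^ 3 * (Fintype.card K ^ 2 - 1) * m' := by
  have hq := R.q27
  have h8 := R.mod8
  have hi1 : i ≠ 1 := by omega
  obtain ⟨p', hp', hpd'⟩ := Nat.exists_prime_and_dvd hi1
  have hm6 : Nat.Coprime m 6 := Nat.Coprime.coprime_dvd_left h.mM R.M_coprime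
  have hp3' := six_prime hp' (hpd'.trans hid) hm6
  have hBK := R.BK_eq R3 h.big (k := m) (by rw [h.cm]) (by
    rintro g ⟨⟨p, hp, hp3, hpd⟩, hgk⟩
    exact ⟨p, hp, hp3, hpd, by rw [h.cm]; exact hpd.trans hgk⟩)
  have h1 := R.count_order R3 h.big ⟨p', hp', hp3', hpd'⟩ (by
    intro g hg
    rw [← hBK]
    exact ⟨⟨p', hp', hp3', hg ▸ hpd'⟩, by rw [hg]; exact hid⟩)
  rw [h.cn, R.card, cube_add R, card_cyc_order h.cyc (by rw [h.cm]; exact hid), ← hm] at h1
  have hmpos : 0 < m := by have := h.m5; omega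
  have hsq : Fintype.card K ^ 2 - 1 = (Fintype.card K - 1) * (Fintype.card K + 1) := by
    obtain ⟨j, hj⟩ : ∃ j, Fintype.card K = j + 3 := ⟨Fintype.card K - 3, by omega⟩
    rw [hj]
    have : (j + 3) ^ 2 = (j + 3 - 1) * (j + 3 + 1) + 1 := by
      rw [show j + 3 - 1 = j + 2 by omega]; ring
    rw [this, Nat.add_sub_cancel]
  apply Nat.eq_of_mul_eq_mul_right hmpos
  calc 6 * Nat.card {g : G | orderOf g = i} * m = Nat.card {g : G | orderOf g = i} * (6 * m) := by ring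
    _ = _ := h1
    _ = _ := by rw [hsq]; ring

include R R3 IC X in
theorem RA.counts {r : ℕ} (hr : r * r = 3 * Fintype.card K) (hrq : r ≤ Fintype.card K) :
    Nat.card {g : G // orderOf g = 2} = Fintype.card K ^ 2 * (Fintype.card K ^ 2 - Fintype.card K + 1) ∧
    Nat.card {g : G // orderOf g = 3} = (Fintype.card K ^ 2 - 1) * (Fintype.card K ^ 3 + 1) ∧
    Nat.card {g : G // orderOf g = 6} = Fintype.card K ^ 2 * (Fintype.card K - 1) * (Fintype.card K ^ 3 + 1) ∧
    Nat.card {g : G // orderOf g = 9} = Fintype.card K ^ 2 * (Fintype.card K - 1) * (Fintype.card K ^ 3 + 1) ∧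
    (∀ i : ℕ, 2 < i → i ∣ Fintype.card K - 1 → 2 * Nat.card {g : G // orderOf g = i} = Nat.totient i * Fintype.card K ^ 3 * (Fintype.card K ^ 3 + 1)) ∧
    (∀ i : ℕ, 1 < i → i ∣ (Fintype.card K + 1) / 4 →
      6 * Nat.card {g : G // orderOf g = i} = Nat.totient i * Fintype.card K ^ 3 * (Fintype.card K - 1) * (Fintype.card K ^ 2 - Fintype.card K + 1) ∧
      2 * Nat.card {g : G // orderOf g = 2 * i} = Nat.totient i * Fintype.card K ^ 3 * (Fintype.card K - 1) * (Fintype.card K ^ 2 - Fintype.card K + 1)) ∧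
    (∀ i : ℕ, 1 < i → i ∣ Fintype.card K - r + 1 →
      6 * Nat.card {g : G // orderOf g = i} = Nat.totient i * Fintype.card K ^ 3 * (Fintype.card K ^ 2 - 1) * (Fintype.card K + r + 1)) ∧
    (∀ i : ℕ, 1 < i → i ∣ Fintype.card K + r + 1 →
      6 * Nat.card {g : G // orderOf g = i} = Nat.totient i * Fintype.card K ^ 3 * (Fintype.card K ^ 2 - 1) * (Fintype.card K - r + 1)) := by
  haveI : Fact (Nat.Prime 2) := ⟨Nat.prime_two⟩
  obtain ⟨x₁, x₂, m₁, m₂, h₁, h₂, h3, h4, -, -⟩ := R.third_main R3 IC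
  have h3' : m₂ * m₁ = Fintype.card K ^ 2 - Fintype.card K + 1 := by rw [mul_comm]; exact h3
  have t1 : ∀ i : ℕ, 1 < i → i ∣ m₁ → _ := fun i hi hid => R.count_D R3 h₁ h3 hi hid
  have t2 : ∀ i : ℕ, 1 < i → i ∣ m₂ → _ := fun i hi hid => R.count_D R3 h₂ h3' hi hid
  refine ⟨?_, R.card_order3 X, R.card_A6' R3 IC, R.card_order9 X, fun i hi hid => R.count_T R3 hi hid, fun i hi hid => R.count_C R3 IC hi hid, ?_, ?_⟩
  · rw [← R.card_A2' R3 IC]
    apply Nat.card_congr
    apply Equiv.subtypeEquivRight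
    intro g
    rw [orderOf_eq_prime_iff, pow_two]
    exact and_comm
  · rcases m_cases hr hrq h3 h4 with ⟨e1, e2⟩ | ⟨e1, e2⟩
    · rw [e1, e2] at t1; exact t1
    · rw [e1, e2] at t2; exact t2
  · rcases m_cases hr hrq h3 h4 with ⟨e1, e2⟩ | ⟨e1, e2⟩
    · rw [e1, e2] at t2; exact t2
    · rw [e1, e2] at t1; exact t1

end abs

end Cfsg.Agent.H5.Ree
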