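import Mathlib
import Cfsg.Agent.H5.Ree31
set_option autoImplicit false
set_option maxHeartbeats 1000000
set_option maxRecDepth 10000

/-! The spectrum. -/

namespace Cfsg.Agent.H5.Ree

section abs
variable {K : Type*} [Field K] [Fintype K] {G : Type*} [Group G] [Finite G] {B T U : Subgroup G} {n : G} (R : RA K B T U n)
  (R3 : RB3 (Fintype.card K) G) (IC : ∀ a b : G, a ≠ 1 → a * a = 1 → b ≠ 1 → b * b = 1 → ∃ g : G, b = g * a * g⁻¹)
  (X : UX (Fintype.card K) U)

theorem exists_dvd_order {g : G} {N d : ℕ} (hg : orderOf g = N) (hd : d ∣ N) : ∃ g : G, orderOf g = d :=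
  ⟨g ^ (orderOf g / d), orderOf_pow_orderOf_div (orderOf_pos g).ne' (hg ▸ hd)⟩

theorem exists_of_card {P : G → Prop} (h : Nat.card {g : G // P g} ≠ 0) : ∃ g, P g := by
  by_contra hno
  push Not at hno
  apply h
  haveI : IsEmpty {g : G // P g} := ⟨fun g => hno g.1 g.2⟩
  exact Nat.card_of_isEmpty

theorem exists_gen {C : Subgroup G} (hC : IsCyclic C) : ∃ g ∈ C, orderOf g = Nat.card C := by
  obtain ⟨⟨y, hy⟩, hgen⟩ := IsCyclic.exists_generator (α := C)
  refine ⟨y, hy, ?_⟩
  rw [← orderOf_eq_card_of_forall_mem_zpowers hgen, Subgroup.orderOf_mk]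

include R R3 IC X in
theorem RA.spectrum {r : ℕ} (hr : r * r = 3 * Fintype.card K) (hrq : r ≤ Fintype.card K) (d : ℕ) :
    (∃ g : G, orderOf g = d) ↔ (d ∣ 6 ∨ d ∣ 9 ∨ d ∣ Fintype.card K - 1 ∨ d ∣ (Fintype.card K + 1) / 2 ∨
      d ∣ Fintype.card K - r + 1 ∨ d ∣ Fintype.card K + r + 1) := by
  have hq := R.q27
  have h8 := R.mod8
  obtain ⟨x₁, x₂, m₁, m₂, h₁, h₂, h3, h4, -, hcov⟩ := R.third_main R3 IC
  have hmm : ∀ P : ℕ → Prop, (P m₁ ∨ P m₂) ↔ (P (Fintype.card K - r + 1) ∨ P (Fintype.card K + r + 1)) := by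
    intro P
    rcases m_cases hr hrq h3 h4 with ⟨e1, e2⟩ | ⟨e1, e2⟩
    · rw [e1, e2]
    · rw [e1, e2]; exact or_comm
  rw [← hmm (fun k => d ∣ k)]
  constructor
  · rintro ⟨g, rfl⟩
    by_cases hg : Big g
    · rcases R.big_cases R3 hg with h | h | h
      · exact Or.inr (Or.inr (Or.inl h))
      · right; right; right; left
        -- no element of order four
        have hn4 : ¬ 4 ∣ orderOf g := fun h4 => R.no_four _ (orderOf_pow_orderOf_div (orderOf_pos g).ne' h4)
        obtain ⟨k, hk⟩ : ∃ k, (Fintype.card K + 1) / 4 = k := ⟨_, rfl⟩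
        have hkodd : Odd k := by rw [← hk, Nat.odd_iff]; omega
        have e1 : Fintype.card K + 1 = 4 * k := by omega
        have e2 : (Fintype.card K + 1) / 2 = 2 * k := by omega
        rw [e1] at h
        rw [e2]
        by_cases h2 : 2 ∣ orderOf g
        · obtain ⟨l, hl⟩ := h2
          rw [hl] at h hn4 ⊢
          have h5 : l ∣ 2 * k := by
            have : 2 * l ∣ 2 * (2 * k) := by rw [← mul_assoc]; exact h
            exact Nat.dvd_of_mul_dvd_mul_left (by norm_num) this
          have h6 : Nat.Coprime l 2 := by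
            rw [Nat.coprime_comm, Nat.Prime.coprime_iff_not_dvd Nat.prime_two]
            rintro ⟨l', hl'⟩
            apply hn4
            rw [hl']; exact ⟨l', by ring⟩
          exact Nat.mul_dvd_mul_left 2 (h6.dvd_of_dvd_mul_left h5)
        · have h6 : Nat.Coprime (orderOf g) 2 := by
            rw [Nat.coprime_comm, Nat.Prime.coprime_iff_not_dvd Nat.prime_two]; exact h2
          have h7 : orderOf g ∣ 2 * (2 * k) := by rw [← mul_assoc]; exact h
          exact h6.dvd_of_dvd_mul_left h7
      · right; right; right; right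
        rcases hcov g ⟨hg, h⟩ with ⟨k, hk, -⟩ | ⟨k, hk, -⟩
        · left
          rw [← orderOf_conj' k g, ← h₁.cm]; exact orderOf_dvd_sub hk
        · right
          rw [← orderOf_conj' k g, ← h₂.cm]; exact orderOf_dvd_sub hk
    · rcases R.small IC hg with h | h | h | h
      · left; rw [h, orderOf_one]; exact one_dvd _
      · left
        have : orderOf g ∣ 2 := orderOf_dvd_of_pow_eq_one (by rw [pow_two]; exact h.2)
        exact this.trans (by norm_num)
      · right; left
        obtain ⟨k, hk, -⟩ := h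
        rw [← orderOf_conj' k g]
        exact orderOf_dvd_of_pow_eq_one (X.nine _ hk)
      · left; rw [h]
  · rintro (h | h | h | h | h | h)
    · obtain ⟨g, hg⟩ := exists_of_card (P := fun g : G => orderOf g = 6) (by
        have := R.card_A6' R3 IC
        have e : Nat.card {g : G // orderOf g = 6} = Fintype.card K ^ 2 * (Fintype.card K - 1) * (Fintype.card K ^ 3 + 1) := this
        rw [e]
        exact (Nat.mul_pos (Nat.mul_pos (pow_pos (by omega) _) (by omega)) (by omega)).ne')
      exact exists_dvd_order hg h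
    · obtain ⟨g, hg⟩ := exists_of_card (P := fun g : G => orderOf g = 9) (by
        have := R.card_order9 X
        have e : Nat.card {g : G // orderOf g = 9} = Fintype.card K ^ 2 * (Fintype.card K - 1) * (Fintype.card K ^ 3 + 1) := this
        rw [e]
        exact (Nat.mul_pos (Nat.mul_pos (pow_pos (by omega) _) (by omega)) (by omega)).ne')
      exact exists_dvd_order hg h
    · obtain ⟨g, -, hg⟩ := exists_gen R.cyc
      exact exists_dvd_order hg (by rw [R.cardT]; exact h)
    · obtain ⟨g, hg⟩ := exists_of_card (P := fun g : G => orderOf g = 2 * ((Fintype.card K + 1) / 4)) (by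
        have := (R.count_C R3 IC (i := (Fintype.card K + 1) / 4) (by omega) dvd_rfl).2
        intro h0
        have e : Nat.card {g : G | orderOf g = 2 * ((Fintype.card K + 1) / 4)} = 0 := h0
        rw [e, mul_zero] at this
        have hpos : 0 < Nat.totient ((Fintype.card K + 1) / 4) * Fintype.card K ^ 3 * (Fintype.card K - 1) * (Fintype.card K ^ 2 - Fintype.card K + 1) :=
          Nat.mul_pos (Nat.mul_pos (Nat.mul_pos (Nat.totient_pos.2 (by omega)) R.q3pos) (by omega)) (by omega)
        omega)
      exact exists_dvd_order hg (by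
        have : 2 * ((Fintype.card K + 1) / 4) = (Fintype.card K + 1) / 2 := by omega
        rw [this]; exact h)
    · obtain ⟨g, -, hg⟩ := exists_gen h₁.cyc
      exact exists_dvd_order hg (by rw [h₁.cm]; exact h)
    · obtain ⟨g, -, hg⟩ := exists_gen h₂.cyc
      exact exists_dvd_order hg (by rw [h₂.cm]; exact h)

end abs

end Cfsg.Agent.H5.Ree
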