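import Mathlib
import Cfsg.Agent.H5.Ree32
set_option autoImplicit false
set_option maxHeartbeats 1000000
set_option maxRecDepth 10000

/-! Solvable subgroups. -/

namespace Cfsg.Agent.H5.Ree

theorem le_norm {H : Type*} [Group H] {S V : Subgroup H} (h : ∀ s ∈ S, ∀ v ∈ V, s * v * s⁻¹ ∈ V) : S ≤ Subgroup.normalizer (V : Set H) := by
  intro s hs
  rw [Subgroup.mem_normalizer_iff]
  intro z
  refine ⟨fun hz => h s hs z hz, fun hz => ?_⟩
  have := h s⁻¹ (inv_mem hs) _ hz
  have e : s⁻¹ * (s * z * s⁻¹) * s⁻¹⁻¹ = z := by group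
  rw [e] at this; exact this

theorem solv_normal {H : Type*} [Group H] [Finite H] {S : Subgroup H} (hS : IsSolvable S) (hne : S ≠ ⊥) :
    ∃ (p : ℕ) (V : Subgroup H), p.Prime ∧ V ≤ S ∧ V ≠ ⊥ ∧ (∀ v ∈ V, v ^ p = 1) ∧ (∀ u ∈ V, ∀ v ∈ V, u * v = v * u) ∧ S ≤ Subgroup.normalizer (V : Set H) := by
  classical
  have hex : ∃ n, derivedSeries S n = ⊥ := hS.solvable
  obtain ⟨k, hk⟩ : ∃ k, Nat.find hex = k + 1 := by
    apply Nat.exists_eq_succ_of_ne_zero
    intro h0
    have h1 := Nat.find_spec hex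
    rw [h0, derivedSeries_zero] at h1
    apply hne
    rw [eq_bot_iff]
    intro x hx
    have : (⟨x, hx⟩ : S) ∈ (⊤ : Subgroup S) := Subgroup.mem_top _
    rw [h1, Subgroup.mem_bot] at this
    rw [Subgroup.mem_bot]
    exact congrArg Subtype.val this
  have h1 := Nat.find_spec hex
  rw [hk, derivedSeries_succ] at h1
  have h2 : derivedSeries S k ≠ ⊥ := Nat.find_min hex (by omega)
  have h3 := Subgroup.commutator_eq_bot_iff_le_centralizer.1 h1
  set D := derivedSeries S k with hD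
  haveI hDn : D.Normal := derivedSeries_normal S k
  set D' := D.map S.subtype with hD'
  have hcomm : ∀ u ∈ D', ∀ v ∈ D', u * v = v * u := by
    rintro _ ⟨u, hu, rfl⟩ _ ⟨v, hv, rfl⟩
    have := Subgroup.mem_centralizer_iff.1 (h3 hu) v hv
    exact (congrArg Subtype.val this).symm
  have hD1 : Nat.card D' ≠ 1 := by
    intro h
    have h4 := Subgroup.card_eq_one.1 h
    rw [hD', Subgroup.map_eq_bot_iff_of_injective _ S.subtype_injective] at h4
    exact h2 h4
  obtain ⟨p, hp, hpd⟩ := Nat.exists_prime_and_dvd hD1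
  haveI : Fact p.Prime := ⟨hp⟩
  obtain ⟨⟨x, hxD⟩, hxo⟩ := exists_prime_orderOf_dvd_card' (G := D') p hpd
  rw [Subgroup.orderOf_mk] at hxo
  refine ⟨p, Om D' hcomm p, hp, ?_, ?_, fun v hv => hv.2, fun u hu v hv => hcomm u hu.1 v hv.1, ?_⟩
  · rintro v ⟨⟨w, -, rfl⟩, -⟩
    exact w.2
  · intro h
    have hx : x ∈ Om D' hcomm p := ⟨hxD, by rw [← hxo, pow_orderOf_eq_one]⟩
    rw [h, Subgroup.mem_bot] at hx
    rw [hx, orderOf_one] at hxo
    exact hp.one_lt.ne hxo
  · apply le_norm
    rintro s hs v ⟨⟨w, hw, rfl⟩, hv⟩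
    refine ⟨⟨⟨s, hs⟩ * w * ⟨s, hs⟩⁻¹, hDn.conj_mem w hw _, rfl⟩, ?_⟩
    rw [conj_pow, hv]; group

section sl
open Matrix Cfsg.Agent.H16 Cfsg.Agent.H5
variable {F : Type*} [Field F] [Fintype F]

local notation "SL₂" => Matrix.SpecialLinearGroup (Fin 2) F
local notation "M₂" => Matrix (Fin 2) (Fin 2) F
local notation "PG" => Matrix.ProjectiveSpecialLinearGroup (Fin 2) F
local notation "π'" => QuotientGroup.mk' (Subgroup.center (Matrix.SpecialLinearGroup (Fin 2) F))

/-- centralisers of involutions of `PSL₂` -/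
theorem psl_inv (h3 : (3 : F) = 0) (h4 : Fintype.card F % 4 = 3) (b : PG) (hb : b * b = 1) (hb1 : b ≠ 1) :
    (∀ z z' : PG, z * b = b * z → z' * b = b * z' → Odd (orderOf z) → Odd (orderOf z') → z * z' = z' * z) ∧
    ∀ p : ℕ, p.Prime → p ≠ 2 → p ∣ Fintype.card F + 1 → ∃ z : PG, z ^ p = 1 ∧ z ≠ 1 ∧ z * b = b * z := by
  obtain ⟨β, rfl⟩ := QuotientGroup.mk'_surjective _ b
  have hdβ : (β : M₂) 0 0 * (β : M₂) 1 1 - (β : M₂) 0 1 * (β : M₂) 1 0 = 1 := by
    rw [← Matrix.det_fin_two]; exact β.2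
  have h1 : β * β = -1 := by
    rw [← map_mul, center_eq'] at hb
    rcases hb with h | h
    · exfalso
      apply hb1
      rw [center_eq']
      -- the only involution is central
      have hM : (β : M₂) * (β : M₂) = 1 := by
        rw [← Matrix.SpecialLinearGroup.coe_mul, h]; rfl
      have e00 := congrFun (congrFun hM 0) 0
      have e01 := congrFun (congrFun hM 0) 1
      have e10 := congrFun (congrFun hM 1) 0
      have e11 := congrFun (congrFun hM 1) 1
      simp only [Matrix.mul_apply, Fin.sum_univ_two, Matrix.one_apply_eq, Matrix.one_apply_ne (show (0 : Fin 2) ≠ 1 by decide), Matrix.one_apply_ne (show (1 : Fin 2) ≠ 0 by decide)] at e00 e01 e10 e11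
      have hsum : (β : M₂) 0 0 + (β : M₂) 1 1 ≠ 0 := by
        intro hs
        exact two_ne3 h3 (by linear_combination -e00 - hdβ + (β : M₂) 0 0 * hs)
      have hs : IsScal (β : M₂) := by
        have f1 : (β : M₂) 0 1 = 0 := by
          have : (β : M₂) 0 1 * ((β : M₂) 0 0 + (β : M₂) 1 1) = 0 := by linear_combination e01
          exact (mul_eq_zero.1 this).resolve_right hsum
        have f2 : (β : M₂) 1 0 = 0 := by
          have : (β : M₂) 1 0 * ((β : M₂) 0 0 + (β : M₂) 1 1) = 0 := by linear_combination e10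
          exact (mul_eq_zero.1 this).resolve_right hsum
        refine ⟨f1, f2, ?_⟩
        have : ((β : M₂) 0 0 - (β : M₂) 1 1) * ((β : M₂) 0 0 + (β : M₂) 1 1) = 0 := by linear_combination e00 - e11
        exact sub_eq_zero.1 ((mul_eq_zero.1 this).resolve_right hsum)
      rcases isScal_sl_iff.1 hs with h | h
      · left; exact Subtype.ext h
      · right; exact Subtype.ext h
    · exact h
  have hns : ¬ IsScal (β : M₂) := by
    intro hs
    apply hb1
    rw [center_eq']
    rcases isScal_sl_iff.1 hs with h | h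
    · left; exact Subtype.ext h
    · right; exact Subtype.ext h
  have htr : (β : M₂).trace = 0 := by
    have hM : (β : M₂) * (β : M₂) = -1 := by
      rw [← Matrix.SpecialLinearGroup.coe_mul, h1]; rfl
    have e00 := congrFun (congrFun hM 0) 0
    have e01 := congrFun (congrFun hM 0) 1
    have e10 := congrFun (congrFun hM 1) 0
    simp only [Matrix.mul_apply, Fin.sum_univ_two, Matrix.neg_apply, Matrix.one_apply_eq, Matrix.one_apply_ne (show (0 : Fin 2) ≠ 1 by decide), Matrix.one_apply_ne (show (1 : Fin 2) ≠ 0 by decide), neg_zero] at e00 e01 e10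
    rw [Matrix.trace_fin_two]
    by_contra hsum
    have f1 : (β : M₂) 0 1 = 0 := by
      have : (β : M₂) 0 1 * ((β : M₂) 0 0 + (β : M₂) 1 1) = 0 := by linear_combination e01
      exact (mul_eq_zero.1 this).resolve_right hsum
    have f3 : (β : M₂) 0 0 * ((β : M₂) 0 0 + (β : M₂) 1 1) = 0 := by linear_combination e00 + hdβ
    have f4 := (mul_eq_zero.1 f3).resolve_right hsum
    rw [f4, f1] at hdβ
    apply one_ne_zero (α := F)
    linear_combination -hdβ
  have hne : ∀ c : F, c ^ 2 - c * (β : M₂).trace + 1 ≠ 0 := by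
    intro c hc
    rw [htr] at hc
    have : IsSquare (-1 : F) := ⟨c, by linear_combination -hc⟩
    rw [FiniteField.isSquare_neg_one_iff] at this
    exact this h4
  have hlift : ∀ z : PG, z * π' β = π' β * z → Odd (orderOf z) → ∃ ζ : SL₂, π' ζ = z ∧ ζ * β = β * ζ := by
    intro z hz ho
    obtain ⟨ζ, rfl⟩ := QuotientGroup.mk'_surjective _ z
    set o := orderOf (π' ζ) with hodef
    have hzo : π' ζ ^ o = 1 := pow_orderOf_eq_one _
    -- choose the lift of odd order
    obtain ⟨ζ', hζ', hπ⟩ : ∃ ζ' : SL₂, ζ' ^ o = 1 ∧ π' ζ' = π' ζ := by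
      rw [← map_pow, center_eq'] at hzo
      rcases hzo with h | h
      · exact ⟨ζ, h, rfl⟩
      · refine ⟨-ζ, by rw [ho.neg_pow, h, neg_neg], ?_⟩
        have e : -ζ = (-1) * ζ := by rw [neg_one_mul]
        rw [e, map_mul, (center_eq' _).2 (Or.inr rfl), one_mul]
    refine ⟨ζ', hπ, ?_⟩
    rw [← hπ] at hz
    have h5 : π' (ζ' * β * ζ'⁻¹ * β⁻¹) = 1 := by
      rw [map_mul, map_mul, map_mul, hz, map_inv, map_inv, mul_inv_cancel_right, mul_inv_cancel]
    have h6 : Commute (ζ' ^ 2) β := by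
      rcases (center_eq' _).1 h5 with h | h
      · rw [mul_inv_eq_one, mul_inv_eq_iff_eq_mul] at h
        exact (show Commute ζ' β from h).pow_left 2
      · rw [mul_inv_eq_iff_eq_mul, neg_one_mul, mul_inv_eq_iff_eq_mul] at h
        show ζ' ^ 2 * β = β * ζ' ^ 2
        rw [pow_two, mul_assoc, h, ← mul_assoc, mul_neg, h]
        simp [mul_assoc]
    obtain ⟨k, hk⟩ := ho
    have h7 : ζ' = (ζ' ^ 2) ^ (k + 1) := by
      rw [← pow_mul]
      have : 2 * (k + 1) = o + 1 := by omega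
      rw [this, pow_succ, hζ', one_mul]
    rw [h7]
    exact (h6.pow_left (k + 1)).eq
  constructor
  · intro z z' hz hz' ho ho'
    obtain ⟨ζ, rfl, h5⟩ := hlift z hz ho
    obtain ⟨ζ', rfl, h6⟩ := hlift z' hz' ho'
    rw [← map_mul, cent_comm hns (Subgroup.mem_centralizer_singleton_iff.2 h5) (Subgroup.mem_centralizer_singleton_iff.2 h6), map_mul]
  · intro p hp hp2 hpq
    haveI : Fact p.Prime := ⟨hp⟩
    have hc := card_cent_sl2_ell β hne
    obtain ⟨⟨ζ, hζ⟩, hζo⟩ := exists_prime_orderOf_dvd_card' (G := ↥(Subgroup.centralizer ({β} : Set SL₂))) p (by rw [hc]; exact hpq)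
    rw [Subgroup.orderOf_mk] at hζo
    rw [Subgroup.mem_centralizer_singleton_iff] at hζ
    refine ⟨π' ζ, by rw [← map_pow, ← hζo, pow_orderOf_eq_one, map_one], ?_, by rw [← map_mul, hζ, map_mul]⟩
    intro h
    have h5 : orderOf ζ ∣ 2 := by
      apply orderOf_dvd_of_pow_eq_one
      rcases (center_eq' _).1 h with h | h
      · rw [h, one_pow]
      · rw [h]; simp
    rw [hζo] at h5
    exact hp2 ((Nat.prime_dvd_prime_iff_eq hp Nat.prime_two).1 h5)

end sl

end Cfsg.Agent.H5.Ree
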